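import Cfsg.Agent.H4.FT3b
import Cfsg.Agent.GW.StepC
import Cfsg.Agent.H25.S3Act
import Cfsg.Agent.S0253

/-!
# Groups with a self-centralizing element of order three: the theorem of Feit and Thompson
-/

set_option autoImplicit false
set_option linter.style.haveILetI false
set_option linter.unusedSectionVars false

namespace Cfsg.Agent.H4

open Subgroup Cfsg.Agent.H10 Cfsg.Agent.H4
open Cfsg.Agent.H11 (IsSylIn)
open scoped commutatorElement MatrixGroups

variable {G : Type*} [Group G] [Finite G] {Q : Type*} [Group Q] [Finite Q] {x y a : G}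
  {A B T N : Subgroup G} {p : ℕ}

namespace SC3

variable (h : SC3 x)
include h

theorem ord_eq (ha : 3 ∣ orderOf a) : orderOf a = 3 := by
  have h1 := h.of_ord (orderOf_pow_orderOf_div (orderOf_pos a).ne' ha)
  exact Nat.dvd_antisymm (h1.ord ▸ orderOf_dvd_of_mem_zpowers (h1.cent.le (H11.mem_cent1.2
    (Commute.self_pow a _).eq))) ha

theorem not_nine : ¬ 9 ∣ Nat.card G := fun e => by
  haveI := Fact.mk Nat.prime_three
  have h1 := h.syl.not_dvd_relIndex
  have h2 := (zpowers x).card_mul_index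
  rw [relIndex_top_right] at h1
  rw [h.card] at h2
  omega

theorem map {f : G →* Q} (hf : Function.Surjective f) (hk : (Nat.card f.ker).Coprime 3) :
    SC3 (f x) := by
  have h1 : f x ≠ 1 := fun e => h.ne_one (mem_bot.1 (h.fpf hk ▸ ⟨e, H11.mem_cent1.2 rfl⟩))
  haveI := Fact.mk Nat.prime_three
  refine ⟨orderOf_eq_prime (by rw [← map_pow, ← h.ord, pow_orderOf_eq_one, map_one]) h1, ?_⟩
  have := map_centralizer_of_surjective hf (A := zpowers x) (h.card ▸ hk.symm) (.inl inferInstance)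
  rwa [centralizer_zpowers, h.cent, MonoidHom.map_zpowers, centralizer_zpowers, eq_comm] at this

theorem mem_of_normal [A.Normal] (hA : 3 ∣ Nat.card A) : x ∈ A := by
  haveI := Fact.mk Nat.prime_three
  obtain ⟨y, hy, h2⟩ := exists_orderOf_eq_of_dvd hA
  obtain ⟨g, -, hg⟩ := h.syl.exists_conj_mem (k := 1) h2 trivial
  exact zpowers_le.1 ((zpowers_eq_of_three h.ord hg fun e => by
    have := H11.orderOf_conj g y; rw [e, h2, orderOf_one] at this; omega).ge.trans
    (zpowers_le.2 (Normal.conj_mem ‹_› y hy g)))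

theorem cases (hO : pPrimeCore 3 G = ⊥) : Nat.card G = 3 ∨ Nonempty (G ≃* Equiv.Perm (Fin 3)) ∨
    IsSimpleGroup G ∧ ¬ IsMulCommutative G := by
  haveI := Fact.mk Nat.prime_three
  by_cases hc : IsConj x x⁻¹
  swap
  · obtain ⟨K, _, h1, h2⟩ := h.compl hc
    rw [eq_bot_iff.2 ((le_pPrimeCore h2.cop).trans hO.le), index_bot] at h1
    exact .inl h1
  have h0 : x ≠ x⁻¹ := fun e => h.ne_one (by
    have := h.cube; nth_rw 2 [e] at this; rwa [mul_inv_cancel, one_mul] at this)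
  by_cases hs : IsSimpleGroup G
  · refine .inr (.inr ⟨hs, fun e => h0 ?_⟩)
    obtain ⟨g, hg⟩ := isConj_iff.1 hc
    rwa [e.1.1 g, mul_inv_cancel_right] at hg
  haveI : Nontrivial G := ⟨x, 1, h.ne_one⟩
  obtain ⟨L, hL, h1, h2⟩ : ∃ L : Subgroup G, L.Normal ∧ L ≠ ⊥ ∧ L ≠ ⊤ := by
    by_contra! e
    exact hs ⟨fun L hL => or_iff_not_imp_left.2 (e L hL)⟩
  have h3 : x ∈ L := h.mem_of_normal (by_contra fun e => h1 (eq_bot_iff.2
    ((le_pPrimeCore (coprime_of_not_dvd e)).trans hO.le)))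
  have h4 : ∀ g : G, ∃ l ∈ L, l * g ∈ normalizer (zpowers x : Set G) := fun g => by
    obtain ⟨l, hl, e⟩ := (h.syl.of_le (zpowers_le.2 h3) le_top).exists_conj_mem (k := 1)
      ((H11.orderOf_conj g x).trans h.ord) (hL.conj_mem x h3 g)
    exact ⟨l, hl, H11.mem_normalizer_of_forall fun y ⟨k, hk⟩ => by
      rw [← hk, ← conj_zpow]; exact zpow_mem (by simpa [mul_assoc] using e) k⟩
  have h5 : ∀ g ∈ normalizer (zpowers x : Set G), g ∈ zpowers x ∨ g * x * g⁻¹ = x⁻¹ := fun g hg => by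
    rcases mem_zpowers_three h.ord (H11.conj_mem_of_mem_normalizer hg (mem_zpowers x)) with e | e | e
    · exact (h.ne_one (by simpa using e)).elim
    · exact .inl (h.cent.le (H11.mem_cent1.2 (mul_inv_eq_iff_eq_mul.1 e)))
    · exact .inr e
  obtain ⟨K, _, h6, h7⟩ := (h.sub h3).compl fun e => h2 (eq_top_iff.2 fun g _ => by
    obtain ⟨c, hc⟩ := isConj_iff.1 e
    replace hc : c * x * (c : G)⁻¹ = x⁻¹ := congrArg Subtype.val hc
    obtain ⟨l, hl, e⟩ := h4 g
    refine (L.mul_mem_cancel_left hl).1 ((h5 _ e).elim (fun e => zpowers_le.2 h3 e) fun e => ?_)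
    exact (L.mul_mem_cancel_left (inv_mem c.2)).1 (zpowers_le.2 h3 (h.cent.le (H11.mem_cent1.2 (by
      rw [mul_assoc, mul_inv_eq_iff_eq_mul.1 e, ← hc]; group)))))
  have h8 : K = ⊥ := eq_bot_iff.2 ((le_pPrimeCore h7.cop).trans ((OqOf_eq_bot_iff L).1
    (eq_bot_iff.2 ((le_pPrimeCore (hN := normalizer_eq_top_iff.1 (eq_top_iff.2 (le_normalizer_OqOf
      le_normalizer_of_normal))) OqOf_coprime).trans hO.le))).le)
  rw [h8, index_bot] at h6
  have h9 : zpowers x = L := eq_of_le_of_card_ge (zpowers_le.2 h3) (h6.trans h.card.symm).le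
  obtain ⟨c, hc⟩ := isConj_iff.1 hc
  have h10 : c ∉ zpowers x := fun e => h0 (by
    rw [← hc, H11.mem_cent1.1 (h.cent.ge e), mul_inv_cancel_right])
  have h11 : (zpowers x).index = 2 := index_eq_two_iff.2 ⟨c, fun b => by
    by_cases hb : b ∈ zpowers x
    · exact .inr ⟨hb, fun e => h10 ((mul_mem_cancel_left hb).1 e)⟩
    have := (h5 b (by rw [h9, normalizer_eq_top]; trivial)).resolve_left hb
    exact .inl ⟨h.cent.le (H11.mem_cent1.2 (by
      rw [mul_assoc, mul_inv_eq_iff_eq_mul.1 hc]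
      conv_rhs => rw [← inv_inv x, ← this]
      group)), hb⟩⟩
  have h12 : Nat.card G = 6 := by rw [← (zpowers x).card_mul_index, h11, h.card]
  obtain ⟨t, ht⟩ := exists_prime_orderOf_dvd_card' (G := G) 2 (h12 ▸ by decide)
  exact .inr (.inl (H25.perm3_of_card_six h12 ht (r := x) fun e => by
    have := orderOf_dvd_of_mem_zpowers (h.cent.le (H11.mem_cent1.2 e.symm))
    rw [ht, h.ord] at this; omega))

theorem simple [IsSimpleGroup G] (hc : ¬ IsMulCommutative G) :
    Nonempty (G ≃* alternatingGroup (Fin 5)) ∨ Nonempty (G ≃* PSL(2, ZMod 7)) := by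
  rcases GW.gw_simple hc (h.ds hc) with ⟨F, _, _, ho, h3, ⟨e⟩⟩ | ⟨⟨e⟩⟩
  · have h1 := h.map (f := e.toMonoidHom) e.surjective (by simp)
    have h2 : Nat.gcd 2 (Fintype.card F - 1) = 2 := Nat.gcd_eq_left (by obtain ⟨k, hk⟩ := ho; omega)
    have h4 : ∀ N, (N = Fintype.card F - 1 ∨ N = Fintype.card F + 1) → 3 ∣ N → N = 6 := fun N hN e => by
      obtain ⟨H, a, s, -, ha⟩ := H12.exists_dihedralPair hN (by omega)
      obtain ⟨k, hk⟩ := ho
      have := h1.ord_eq (a := a)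
      rw [ha, h2] at this
      omega
    have h5 : ¬ 3 ∣ Fintype.card F := fun e => by
      obtain ⟨p, -, f, hp, hf⟩ := FiniteField.card' F
      rw [hf] at e
      obtain rfl := (Nat.prime_dvd_prime_iff_eq Nat.prime_three hp).1 (Nat.prime_three.dvd_of_dvd_pow e)
      refine h1.not_nine (((pow_dvd_pow 3 (show 2 ≤ (f : ℕ) from by_contra fun e => ?_)).trans ?_).trans
        H12.card_dvd_card_PSL2)
      · have := f.pos
        rw [show (f : ℕ) = 1 by omega] at hf; omega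
      · rw [Nat.card_eq_fintype_card, hf]
    rcases (show Fintype.card F = 5 ∨ Fintype.card F = 7 by
      have := h4 _ (.inl rfl); have := h4 _ (.inr rfl); omega) with h6 | h6
    · exact .inl ⟨e.trans (S0253.result h6).some⟩
    · haveI := Fact.mk Nat.prime_seven
      exact .inr ⟨e.trans (H12.pslCongr _ (H12.nonempty_ringEquiv_of_natCard_eq (K := ZMod 7)
        (by rw [Nat.card_eq_fintype_card, h6, Nat.card_zmod])).some)⟩
  · refine (h.not_nine ?_).elim
    rw [Nat.card_congr e.toEquiv, nat_card_alternatingGroup, Nat.card_eq_fintype_card, Fintype.card_fin]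
    decide

theorem exists_klein [IsSimpleGroup G] (hc : ¬ IsMulCommutative G) :
    ∃ (V : Subgroup G) (y : G), IsKleinFour V ∧ orderOf y = 3 ∧ y ∈ normalizer (V : Set G) := by
  have hD := h.ds hc
  obtain ⟨S⟩ : Nonempty (Sylow 2 G) := inferInstance
  obtain ⟨V, -, hV⟩ := hD.exists_klein_le S
  obtain ⟨a, ha, b, hb, a1, b1, hab⟩ := H11.klein_exists_gens hV
  obtain ⟨g, -, h1, h2⟩ := hD.cd.exists_cyc3 (hD.oneCl (H11.no_index_two_of_simple fun e =>
    hc (by haveI := isCyclic_of_prime_card (p := 2) e; infer_instance))) hV le_top ha hb a1 b1 hab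
  have h0 : g * (a * b) * g⁻¹ = a := by
    rw [← conj_mul, h1, h2, ← mul_assoc, H11.klein_comm hV hb ha, mul_assoc, H11.klein_sq hV hb, mul_one]
  refine ⟨_, g, hV, h.ord_eq (by_contra fun h3 => hab ?_), H11.mem_normalizer_of_forall fun y hy => by
    rcases (H11.klein_mem_iff hV ha hb a1 b1 hab).1 hy with rfl | rfl | rfl | rfl <;>
      simp [mul_mem, *]⟩
  have h4 : g ^ 3 ∈ centralizer {a} := H11.mem_cent1.2 (mul_inv_eq_iff_eq_mul.1 (by
    conv_rhs => rw [← h0, ← h2, ← h1]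
    rw [pow_three']; group))
  haveI := Fact.mk Nat.prime_three
  obtain ⟨m, hm⟩ := exists_pow_eq_self_of_coprime (coprime_of_not_dvd h3).symm
  rw [← h1, H11.mem_cent1.1 (show g ∈ _ from hm ▸ pow_mem h4 m), mul_inv_cancel_right]

variable [N.Normal] (hN : (Nat.card N).Coprime 3)
include hN

theorem quot : SC3 (x : G ⧸ N) :=
  h.map (QuotientGroup.mk'_surjective N) (by rwa [QuotientGroup.ker_mk'])

theorem eq_bot_of_cent [IsSimpleGroup (G ⧸ N)] [B.Normal] (hB : B ≤ N)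
    (hT : T ≤ centralizer (B : Set G)) (h1 : ¬ T ≤ N) : B = ⊥ := by
  by_contra h2
  have h3 := ((Normal.map inferInstance _ (QuotientGroup.mk'_surjective N) :
    ((centralizer (B : Set G)).map _).Normal).eq_bot_or_eq_top).resolve_left fun e =>
      h1 (hT.trans (by rwa [Subgroup.map_eq_bot_iff, QuotientGroup.ker_mk'] at e))
  have h4 := card_map_dvd (centralizer (B : Set G)) (QuotientGroup.mk' N)
  rw [h3, card_top] at h4
  exact absurd ((h.cop_cent (coprime_card_of_le hB hN) h2).coprime_dvd_left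
    (((h.quot hN).ord ▸ orderOf_dvd_natCard _ : 3 ∣ Nat.card (G ⧸ N)).trans h4)) (by decide)

theorem nilp_comap {V : Subgroup (G ⧸ N)} (hV : (Nat.card V).Coprime 3) {y : G ⧸ N}
    (h3 : orderOf y = 3) (hn : y ∈ normalizer (V : Set (G ⧸ N))) :
    Group.IsNilpotent (V.comap (QuotientGroup.mk' N)) ∧
    ⁅⁅V.comap (QuotientGroup.mk' N), V.comap (QuotientGroup.mk' N)⁆, V.comap (QuotientGroup.mk' N)⁆ = ⊥ := by
  obtain ⟨y, rfl⟩ := QuotientGroup.mk'_surjective N y
  have h1 := h.of_ord (h.ord_eq (h3 ▸ orderOf_map_dvd _ y))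
  have h2 : I3 y (V.comap (QuotientGroup.mk' N)) :=
    ⟨le_normalizer_comap _ hn, card_comap_mk' N V ▸ hN.mul_left hV⟩
  exact ⟨h1.nilp h2, h1.class_two h2⟩

theorem pgroup_ker [IsSimpleGroup (G ⧸ N)] [hp : Fact p.Prime] {V : Subgroup (G ⧸ N)}
    (hV : IsPGroup p V) (h1 : V ≠ ⊥) (hT : Group.IsNilpotent (V.comap (QuotientGroup.mk' N))) :
    IsPGroup p N := by
  have h2 : N ≤ V.comap (QuotientGroup.mk' N) := (QuotientGroup.ker_mk' N).ge.trans (ker_le_comap _ _)
  have h3 := FitOf_le_OpOf_sup_OqOf (H := V.comap (QuotientGroup.mk' N)) p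
  have h4 := FitOf_le_OpOf_sup_OqOf (H := N) p
  rw [FitOf_eq_self hT] at h3
  haveI : (OqOf p N).Normal := normalizer_eq_top_iff.1 (eq_top_iff.2 (le_normalizer_OqOf
    le_normalizer_of_normal))
  rw [FitOf_eq_self (isNilpotent_of_le h2 hT), h.eq_bot_of_cent hN (B := OqOf p N) OqOf_le
    (T := OpOf p (V.comap (QuotientGroup.mk' N))) (commutator_eq_bot_iff_le_centralizer.1
      (eq_bot_iff.2 ((commutator_mono le_rfl (le_OqOf (OqOf_le.trans h2) le_normalizer_of_normal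
        OqOf_coprime)).trans (commutator_OpOf_OqOf p).le))) fun e => h1 ?_, sup_bot_eq] at h4
  · exact OpOf_isPGroup.to_le h4
  have h5 := map_mono (f := QuotientGroup.mk' N) (h3.trans (sup_le_sup_right e _))
  rw [map_comap_eq_self_of_surjective (QuotientGroup.mk'_surjective N), Subgroup.map_sup,
    (Subgroup.map_eq_bot_iff _).2 (QuotientGroup.ker_mk' N).ge, bot_sup_eq] at h5
  exact eq_bot_of_isPGroup_of_coprime hV (coprime_card_of_le h5
    (OqOf_coprime.coprime_dvd_left (card_map_dvd _ _)))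

theorem elem_ker [IsSimpleGroup (G ⧸ N)] (hc : ¬ IsMulCommutative (G ⧸ N)) :
    IsPGroup 2 N ∧ IsMulCommutative N ∧ ∀ n ∈ N, n ^ 2 = 1 := by
  obtain ⟨V, y, hV, h3, hy⟩ := (h.quot hN).exists_klein hc
  obtain ⟨h1, h2⟩ := h.nilp_comap hN (hV.card_four ▸ by decide) h3 hy
  have h0 : V ≠ ⊥ := fun e => by have := hV.card_four; rw [e, card_bot] at this; omega
  set T := V.comap (QuotientGroup.mk' N)
  have h4 : N ≤ T := (QuotientGroup.ker_mk' N).ge.trans (ker_le_comap _ _)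
  have h5 : ¬ T ≤ N := fun e => h0 (by
    rw [← map_comap_eq_self_of_surjective (QuotientGroup.mk'_surjective N) V, Subgroup.map_eq_bot_iff,
      QuotientGroup.ker_mk']; exact e)
  have h6 := le_centralizer_iff.1 (commutator_eq_bot_iff_le_centralizer.1 h2)
  have h7 : ⁅N, N⁆ = ⊥ := h.eq_bot_of_cent hN (commutator_le_left _ _)
    (h6.trans (centralizer_le (commutator_mono h4 h4))) h5
  have h8 : ∀ a ∈ N, ∀ b ∈ N, a * b = b * a := fun a ha b hb =>
    commutator_eq_bot_iff_le_centralizer.1 h7 hb a ha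
  haveI : IsMulCommutative N := ⟨⟨fun a b => Subtype.ext (h8 _ a.2 _ b.2)⟩⟩
  let B : Subgroup G :=
    { carrier := {b | ∃ n ∈ N, n ^ 2 = b}
      one_mem' := ⟨1, one_mem _, one_pow _⟩
      mul_mem' := fun ⟨a, ha, e⟩ ⟨b, hb, e'⟩ => ⟨a * b, mul_mem ha hb, by
        rw [← e, ← e']; exact Commute.mul_pow (h8 a ha b hb) 2⟩
      inv_mem' := fun ⟨a, ha, e⟩ => ⟨a⁻¹, inv_mem ha, by rw [← e, inv_pow]⟩ }
  haveI : B.Normal := ⟨fun b ⟨a, ha, e⟩ g => ⟨g * a * g⁻¹, Normal.conj_mem ‹_› a ha g, by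
    rw [← e, conj_pow]⟩⟩
  have h9 : B = ⊥ := h.eq_bot_of_cent hN (fun b ⟨a, ha, e⟩ => e ▸ pow_mem ha 2)
    (fun t ht b ⟨a, ha, e⟩ => by
      have c1 : ⁅t, a⁆ ∈ N := mul_mem (Normal.conj_mem ‹_› a ha t) (inv_mem ha)
      have c2 : ⁅t, a⁆ * t = t * ⁅t, a⁆ := h6 ht _ (commutator_mem_commutator ht (h4 ha))
      have c3 := h8 a ha _ ((QuotientGroup.eq_one_iff (t * t)).1 (H11.klein_sq hV ht))
      have c4 : t * a * t⁻¹ = ⁅t, a⁆ * a := by rw [commutatorElement_def]; group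
      have c5 : ⁅t, a⁆ * ⁅t, a⁆ = 1 := mul_right_cancel (b := a) (calc
        _ = ⁅t, a⁆ * (t * a * t⁻¹) := by rw [c4, mul_assoc]
        _ = t * (⁅t, a⁆ * a) * t⁻¹ := by rw [← mul_assoc, ← mul_assoc, c2, mul_assoc t]
        _ = t * t * a * (t * t)⁻¹ := by rw [← c4]; group
        _ = _ := by rw [← c3]; group)
      rw [← e, eq_comm, ← mul_inv_eq_iff_eq_mul, ← conj_pow, c4, Commute.mul_pow (h8 _ c1 _ ha),
        sq ⁅t, a⁆, c5, one_mul]) h5
  exact ⟨h.pgroup_ker hN (IsPGroup.of_card (n := 2) hV.card_four) h0 h1, inferInstance,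
    fun n hn => mem_bot.1 (h9 ▸ ⟨n, hn, rfl⟩)⟩

theorem ker_eq_bot [IsSimpleGroup (G ⧸ N)] (hc : ¬ IsMulCommutative (G ⧸ N))
    (h1 : Nat.card (G ⧸ N) = 168) : N = ⊥ := by
  haveI := Fact.mk Nat.prime_seven
  haveI := Fact.mk Nat.prime_three
  obtain ⟨P⟩ : Nonempty (Sylow 7 (G ⧸ N)) := inferInstance
  have h2 : Nat.card P = 7 := by
    rw [P.card_eq_multiplicity, h1]; decide +kernel
  have h3 := card_sylow_modEq_one 7 (G ⧸ N)
  have h4 := P.card_dvd_index
  have h5 := (P : Subgroup (G ⧸ N)).card_mul_index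
  have h6 := (normalizer (P : Set (G ⧸ N))).card_mul_index
  rw [← P.card_eq_index_normalizer, h1] at h6
  rw [h2] at h5
  rw [show (P : Subgroup (G ⧸ N)).index = 24 by omega] at h4
  obtain ⟨y, hy, h7⟩ := exists_orderOf_eq_of_dvd (show 3 ∣ Nat.card (normalizer (P : Set (G ⧸ N))) by
    have := Nat.le_of_dvd (by decide) h4
    generalize Nat.card (Sylow 7 (G ⧸ N)) = n at *
    unfold Nat.ModEq at h3
    interval_cases n <;> omega)
  exact eq_bot_of_isPGroup_of_coprime (h.pgroup_ker hN P.isPGroup' (fun e => by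
    rw [e, card_bot] at h2; omega) (h.nilp_comap hN (by rw [h2]; decide) h7 hy).1)
    (coprime_of_isPGroup (by decide) (h.elem_ker hN hc).1)

omit hN in
/-- The theorem of Feit and Thompson on self-centralizing subgroups of order three. -/
theorem main : (∃ (N : Subgroup G) (_ : N.Normal), Group.IsNilpotent N ∧ (Nat.card N).Coprime 3 ∧
      (Nat.card (G ⧸ N) = 3 ∨ Nonempty (G ⧸ N ≃* Equiv.Perm (Fin 3)))) ∨
    (∃ (N : Subgroup G) (_ : N.Normal), IsMulCommutative N ∧ (∀ n ∈ N, n ^ 2 = 1) ∧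
      Nonempty (G ⧸ N ≃* alternatingGroup (Fin 5))) ∨ Nonempty (G ≃* PSL(2, ZMod 7)) := by
  have h1 := pPrimeCore_coprime 3 G
  have h2 := h.nilp (A := pPrimeCore 3 G) ⟨by rw [normalizer_eq_top]; trivial, h1⟩
  rcases (h.quot h1).cases (pPrimeCore_quotient_pPrimeCore 3 G) with e | e | ⟨_, hc⟩
  · exact .inl ⟨_, inferInstance, h2, h1, .inl e⟩
  · exact .inl ⟨_, inferInstance, h2, h1, .inr e⟩
  rcases (h.quot h1).simple hc with e | ⟨⟨e⟩⟩
  · exact .inr (.inl ⟨_, inferInstance, (h.elem_ker h1 hc).2.1, (h.elem_ker h1 hc).2.2, e⟩)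
  haveI := Fact.mk Nat.prime_seven
  have : 2 * Nat.card PSL(2, ZMod 7) = 336 := H12.card_PSL2 (ZMod.card 7)
  exact .inr (.inr ⟨(QuotientGroup.quotientBot.symm.trans (QuotientGroup.quotientMulEquivOfEq
    (h.ker_eq_bot h1 hc (by rw [Nat.card_congr e.toEquiv]; omega)).symm)).trans e⟩)

end SC3

end Cfsg.Agent.H4
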