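import Cfsg.Agent.H4.FT3a
import Cfsg.Agent.S3224

/-!
# Groups with a self-centralizing element of order three: the Sylow `2`-subgroups
-/

set_option autoImplicit false
set_option linter.style.haveILetI false
set_option linter.unusedSectionVars false

namespace Cfsg.Agent.H4

open Subgroup Cfsg.Agent.H10 Cfsg.Agent.H4
open Cfsg.Agent.H11 (cj IsSylIn)

variable {G : Type*} [Group G] [Finite G] {x y a g v : G} {A B D H M M' T : Subgroup G} {p : ℕ}

/-- Maximal `x`-invariant `3'`-subgroups. -/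
abbrev Mx3 (x : G) (M : Subgroup G) : Prop := Maximal (I3 x) M

/-- The centre of `O_p(M)`. -/
abbrev ZO3 (p : ℕ) (M : Subgroup G) : Subgroup G := OpOf p M ⊓ centralizer (OpOf p M : Set G)

theorem Mx3.le (hM : Mx3 x M) (hA : I3 x A) (hn : A ≤ normalizer (M : Set G)) : A ≤ M :=
  le_sup_left.trans (hM.2 (hA.sup hM.1 hn) le_sup_right)

theorem Mx3.cj (hM : Mx3 x M) (g : G) : Mx3 (g * x * g⁻¹) (cj g M) :=
  ⟨hM.1.cj g, fun B hB h => (H11.cj_le_cj_iff g⁻¹).1 (by
    rw [H11.cj_inv_cj]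
    exact hM.2 (by simpa [mul_assoc] using hB.cj g⁻¹) (H11.cj_le_iff'.1 h))⟩

theorem le_normalizer_of_relIndex (h : A ≤ T) (h2 : A.relIndex T ≤ 2) :
    T ≤ normalizer (A : Set G) := by
  have := Nat.pos_of_ne_zero (FiniteIndex.index_ne_zero (H := A.subgroupOf T))
  rcases (by change 0 < A.relIndex T at this; omega : A.relIndex T = 1 ∨ A.relIndex T = 2) with e | e
  · exact (relIndex_eq_one.1 e).trans le_normalizer
  · haveI := normal_of_index_eq_two e
    exact le_normalizer_of_normal_subgroupOf h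

theorem sum_le_prod_of_two_le (s : Finset ℕ) (h : ∀ r ∈ s, 2 ≤ r) : ∑ r ∈ s, r ≤ ∏ r ∈ s, r := by
  induction s using Finset.induction_on with
  | empty => simp
  | insert a s ha ih =>
    rw [Finset.sum_insert ha, Finset.prod_insert ha]
    have h1 := ih fun r hr => h r (Finset.mem_insert_of_mem hr)
    have h2 := h a (Finset.mem_insert_self _ _)
    rcases s.eq_empty_or_nonempty with rfl | ⟨b, hb⟩
    · simp
    · have := (h b (Finset.mem_insert_of_mem hb)).trans ((Finset.single_le_sum (f := id)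
        (fun _ _ => Nat.zero_le _) hb).trans h1)
      nlinarith

namespace SC3

variable (h : SC3 x) (hM : Mx3 x M)
include h hM

theorem relIndex : M.relIndex (normalizer (M : Set G)) = 3 ∨ M.relIndex (normalizer (M : Set G)) = 6 := by
  have h1 := h.card_lt hM.1.norm fun A hA hI => hM.le hI hA
  have h2 := card_dvd_of_le (zpowers_le.2 hM.1.norm)
  rw [← card_mul_relIndex (le_normalizer (H := M))] at h1 h2
  have := hM.1.cop.symm.dvd_of_dvd_mul_left (h.card ▸ h2)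
  have : M.relIndex (normalizer (M : Set G)) < 9 := by nlinarith
  have : M.relIndex (normalizer (M : Set G)) ≠ 0 := FiniteIndex.index_ne_zero
  omega

theorem le_O [Fact p.Prime] (hA : A ≤ M) (hp : IsPGroup p A) : A ≤ OpOf p M :=
  le_OpOf_of_le_FitOf ((FitOf_eq_self (h.nilp hM.1)).symm ▸ hA) hp

theorem O_ne [Fact p.Prime] (hp : p ∣ Nat.card M) : OpOf p M ≠ ⊥ :=
  OpOf_ne_bot_iff.2 ((FitOf_eq_self (h.nilp hM.1)).symm ▸ hp)

theorem cent_Z [Fact p.Prime] (hp : OpOf p M ≠ ⊥) : centralizer (ZO3 p M : Set G) = M := by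
  have h1 : M ≤ centralizer (ZO3 p M : Set G) := (FitOf_eq_self (h.nilp hM.1)).ge.trans
    ((FitOf_le_OpOf_sup_OqOf p).trans (sup_le (le_centralizer_iff.1 inf_le_right)
      (le_centralizer_iff.1 (inf_le_left.trans (commutator_eq_bot_iff_le_centralizer.1
        (commutator_OpOf_OqOf p))))))
  exact le_antisymm (hM.2 (h.i3_cent ((hM.1.OpOf p).of_le inf_le_left (zpowers_le.1
    (le_normalizer_center (zpowers_le.2 (hM.1.OpOf p).norm))))
    (center_ne_bot_of_isPGroup OpOf_isPGroup hp)) h1) h1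

theorem norm_O [Fact p.Prime] (hp : OpOf p M ≠ ⊥) :
    normalizer (OpOf p M : Set G) = normalizer (M : Set G) :=
  le_antisymm ((le_normalizer_centralizer (le_normalizer_center le_rfl)).trans
    (by rw [h.cent_Z hM hp])) normalizer_le_normalizer_OpOf

theorem exists_syl [hp : Fact p.Prime] (h3 : p ≠ 3) : ∃ T, IsSylIn p T (normalizer (M : Set G)) ∧
    OpOf p M ≤ T ∧ (OpOf p M).relIndex T ≤ 2 ∧ (p ≠ 2 → T = OpOf p M) := by
  obtain ⟨T, hT, h1⟩ := H11.exists_isSylIn_le (p := p) OpOf_isPGroup (OpOf_le.trans (le_normalizer (H := M)))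
  have h2 : (OpOf p M).relIndex T ∣ 2 * 3 := by
    rw [← le_antisymm (h.le_O hM inf_le_left hT.pg.to_inf_right) (le_inf OpOf_le h1),
      inf_relIndex_right, ← relIndex_sup_of_le_normalizer hT.le]
    refine (Dvd.intro _ (relIndex_mul_relIndex _ _ _ le_sup_right (sup_le hT.le le_normalizer))).trans ?_
    rcases h.relIndex hM with e | e <;> rw [e]; decide
  obtain ⟨k, hk⟩ := IsPGroup.iff_card.1 hT.pg
  obtain ⟨j, -, hj⟩ := (Nat.dvd_prime_pow hp.out).1 (hk ▸ relIndex_dvd_card (OpOf p M) T)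
  have h4 := (hj ▸ ((Nat.coprime_primes hp.out Nat.prime_three).2 h3).pow_left j).dvd_of_dvd_mul_right h2
  exact ⟨T, hT, h1, Nat.le_of_dvd two_pos h4, fun e => le_antisymm (relIndex_eq_one.1
    ((hj ▸ ((Nat.coprime_primes hp.out Nat.prime_two).2 e).pow_left j).eq_one_of_dvd h4)) h1⟩

theorem good (h16 : 16 ≤ Nat.card (OpOf 2 M)) (hT : IsPGroup 2 T) (hv : v ∈ T)
    (hn : T ≤ normalizer (OpOf 2 M : Set G)) (hD : D ≤ OpOf 2 M) (h2 : D.relIndex (OpOf 2 M) ≤ 2)
    (hc : D ≤ centralizer {v}) : v ∈ ZO3 2 M := by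
  have hP := hM.1.OpOf 2
  have h0 : OpOf 2 M ≠ ⊥ := fun e => by rw [e, card_bot] at h16; omega
  have h3 : ∀ g ∈ normalizer (OpOf 2 M : Set G), (H11.cj g D).relIndex (OpOf 2 M) ≤ 2 := fun g hg => by
    rwa [← H11.cj_eq_iff.2 hg, relIndex_map_map_of_injective _ _ (MulAut.conj g).injective]
  have h4 : D ⊓ H11.cj x D ⊓ H11.cj x⁻¹ D ≠ ⊥ := fun e => by
    have := relIndex_inf_le.trans (Nat.mul_le_mul (relIndex_inf_le.trans (Nat.mul_le_mul h2
      (h3 x hP.norm))) (h3 _ (inv_mem hP.norm)))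
    rw [e, relIndex_bot_left] at this
    omega
  have h5 := h.i3_cent (hP.of_le ((inf_le_left.trans inf_le_left).trans hD) (by
    rw [← H11.cj_eq_iff, H11.cj_inf, H11.cj_inf, H11.cj_cj_inv, ← H11.cj_mul,
      eq_inv_of_mul_eq_one_left h.cube, inf_comm, inf_assoc])) h4
  have h6 : v ∈ OpOf 2 M := h.le_O hM (zpowers_le.2 (hM.le (h5.of_le inf_le_left (zpowers_le.1
    (le_normalizer_inf (zpowers_le.2 h5.norm) (le_normalizer_of_le (zpowers_le.2 hM.1.norm)))))
    inf_le_right ⟨le_centralizer_singleton_iff.1 ((inf_le_left.trans inf_le_left).trans hc),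
      h.norm_O hM h0 ▸ hn hv⟩)) (hT.to_le (zpowers_le.2 hv)) (mem_zpowers v)
  refine ⟨h6, le_centralizer_singleton_iff.1 ((relIndex_eq_one.1 ?_).trans (inf_le_right (a := OpOf 2 M)))⟩
  have h7 := h.card_mod (hP.of_le inf_le_left (h.cent_inv hP h6))
  have h8 := h.card_mod hP
  have h9 := (relIndex_le_of_le_left (le_inf hD hc) FiniteIndex.index_ne_zero).trans h2
  rw [← card_mul_relIndex (inf_le_left (b := centralizer {v})), Nat.mul_mod, h7] at h8
  omega

theorem uniq (h' : SC3 y) (hM' : Mx3 y M') (h16 : 16 ≤ Nat.card (OpOf 2 M))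
    (h0 : OpOf 2 M' ≠ ⊥) (hT : IsPGroup 2 T) (h1 : OpOf 2 M ≤ T) (h2 : (OpOf 2 M).relIndex T ≤ 2)
    (h3 : OpOf 2 M' ≤ T) (h4 : (OpOf 2 M').relIndex T ≤ 2) : M ≤ M' := by
  rw [← h.cent_Z hM (p := 2) fun e => by rw [e, card_bot] at h16; omega, ← h'.cent_Z hM' h0]
  exact centralizer_le fun v hv => h.good hM h16 hT (h3 hv.1) (le_normalizer_of_relIndex h1 h2)
    inf_le_right ((inf_relIndex_right _ _).trans_le
      ((relIndex_le_of_le_right h1 FiniteIndex.index_ne_zero).trans h4))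
    (inf_le_left.trans (le_centralizer_singleton_iff.2 hv.2))

theorem exists_syl' [hp : Fact p.Prime] (h1 : p ∣ Nat.card M) (h2 : p = 2 → 16 ≤ Nat.card (OpOf 2 M)) :
    ∃ T, IsSylIn p T ⊤ ∧ T ≤ normalizer (M : Set G) ∧
    OpOf p M ≤ T ∧ (OpOf p M).relIndex T ≤ 2 ∧ (p ≠ 2 → T = OpOf p M) := by
  obtain ⟨T, hT, h3, h4, h5⟩ := h.exists_syl hM (p := p) fun e =>
    (Nat.Prime.coprime_iff_not_dvd Nat.prime_three).1 hM.1.cop.symm (e ▸ h1)
  refine ⟨T, hT.of_normalizer_le le_top fun g _ hg => ?_, hT.le, h3, h4, h5⟩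
  by_cases e : p = 2
  · subst e
    rw [← H11.cj_eq_iff] at hg ⊢
    have e : OpOf 2 (H11.cj g M) = H11.cj g (OpOf 2 M) := (conj_OpOf g).symm
    exact (eq_of_le_of_card_ge (h.uniq hM (h.cj g) (hM.cj g) (h2 rfl) (by
      rw [e, Ne, H11.cj_eq_bot_iff]; exact h.O_ne hM h1) hT.pg h3 h4 (e ▸ hg ▸ H11.cj_mono g h3) (by
      rwa [e, ← hg, relIndex_map_map_of_injective _ _ (MulAut.conj g).injective])) (H11.card_cj _ _).le).symm
  · rwa [h5 e, h.norm_O hM (h.O_ne hM h1)] at hg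

theorem exists_cj [hp : Fact p.Prime] (hM' : Mx3 x M') (h1 : p ∣ Nat.card M) (h1' : p ∣ Nat.card M')
    (h2 : p = 2 → 16 ≤ Nat.card (OpOf 2 M) ∧ 16 ≤ Nat.card (OpOf 2 M')) : ∃ g, H11.cj g M = M' := by
  obtain ⟨T, hT, -, h3, h4, h5⟩ := h.exists_syl' hM h1 fun e => (h2 e).1
  obtain ⟨T', hT', -, h3', h4', h5'⟩ := h.exists_syl' hM' h1' fun e => (h2 e).2
  obtain ⟨g, -, rfl⟩ := hT.exists_cj_eq hT'
  have e : OpOf p (H11.cj g M) = H11.cj g (OpOf p M) := (conj_OpOf g).symm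
  have h6 := (h.cj g).O_ne (hM.cj g) (H11.card_cj g M ▸ h1)
  refine ⟨g, ?_⟩
  by_cases e2 : p = 2
  · subst e2
    have h7 : (OpOf 2 (H11.cj g M)).relIndex (H11.cj g T) ≤ 2 := by
      rwa [e, relIndex_map_map_of_injective _ _ (MulAut.conj g).injective]
    exact le_antisymm ((h.cj g).uniq (hM.cj g) h hM' (by rw [e, H11.card_cj]; exact (h2 rfl).1)
      (h.O_ne hM' h1') hT'.pg (e ▸ H11.cj_mono g h3) h7 h3' h4')
      (h.uniq hM' (h.cj g) (hM.cj g) (h2 rfl).2 h6 hT'.pg h3' h4' (e ▸ H11.cj_mono g h3) h7)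
  · rw [← (h.cj g).cent_Z (hM.cj g) h6, ← h.cent_Z hM' (h.O_ne hM' h1'), ZO3, ZO3, e, ← h5 e2, h5' e2]

theorem card_conj_le (s : Finset (Subgroup G)) (hs : ∀ N ∈ s, I3 x N ∧ ∃ g, H11.cj g M = N) :
    s.card ≤ 2 := by
  classical
  haveI := Fact.mk Nat.prime_three
  have key : ∀ N ∈ s, ∃ n, n * x * n⁻¹ ∈ ({x, x⁻¹} : Finset G) ∧ H11.cj n M = N := fun N hN => by
    obtain ⟨h1, g, rfl⟩ := hs N hN
    obtain ⟨m, hm, e⟩ := ((h.cj g).syl.of_le (zpowers_le.2 (hM.1.cj g).norm) le_top).exists_cj_eq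
      (h.syl.of_le (zpowers_le.2 h1.norm) le_top)
    refine ⟨m * g, ?_, by rw [H11.cj_mul, H11.cj_eq_iff.2 hm]⟩
    rw [← H11.cj_zpowers, ← H11.cj_mul, H11.cj_zpowers] at e
    simpa using (mem_zpowers_three h.ord (e.le (mem_zpowers _))).resolve_left (h.cj _).ne_one
  choose! n h1 h2 using key
  refine (Finset.card_le_card_of_injOn (fun N => n N * x * (n N)⁻¹) h1 fun N hN N' hN' e => ?_).trans
    Finset.card_le_two
  have : (n N')⁻¹ * n N ∈ normalizer (M : Set G) := zpowers_le.2 hM.1.norm (h.cent.le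
    (H11.mem_cent1.2 (by rw [mul_assoc, mul_inv_eq_iff_eq_mul.1 e]; group)))
  rw [← h2 N hN, ← h2 N' hN', ← mul_inv_cancel_left (n N') (n N), H11.cj_mul, H11.cj_eq_iff.2 this]

end SC3

theorem ds_or_qd (S : Sylow 2 G) {V : Subgroup G} (hV : IsKleinFour V) (hS : V ≤ S)
    (hc : (S : Subgroup G) ⊓ centralizer (V : Set G) ≤ V) :
    GW.DS G ∨ ∃ n X Y, H11.MC (S : Subgroup G) n (H11.hh n) 0 X Y := by
  obtain ⟨z, hz, z2, zc⟩ := GW.exists_central_invol S.isPGroup' fun e =>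
    GW.klein_not_cyclic hV (by rw [le_bot_iff.1 (hS.trans e.le)]; infer_instance)
  have hzV : z ∈ V := hc ⟨hz, fun v hv => zc v (hS hv)⟩
  obtain ⟨v, hv, v1, vz⟩ := H11.klein_exists_other hV z
  have h1 : (S : Subgroup G) ⊓ centralizer {v} = V := le_antisymm (fun s hs => hc ⟨hs.1, by
    rw [H11.klein_eq_closure hV hzV hv (H11.ne_one_of_orderOf_two z2) v1 vz.symm]
    exact H11.mem_centralizer_closure_pair.2 ⟨zc s hs.1, H11.mem_cent1.1 hs.2⟩⟩)
    (le_inf hS fun s hs => H11.mem_cent1.2 (H11.klein_comm hV hs hv))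
  have h2 := hV.card_four ▸ card_le_of_le hS
  rcases S3224.result S.isPGroup' ⟨v, hS hv⟩ (by rw [orderOf_mk, H11.klein_orderOf hV hv v1]) (by
      rw [← hV.card_four, ← H11.card_subgroupOf hS, ← h1, GW.cent_subgroupOf, inf_subgroupOf_left]) with
    ⟨m, ⟨φ⟩⟩ | h4 | h4
  · rw [Nat.card_congr φ.toEquiv, DihedralGroup.nat_card] at h2
    exact .inl ⟨S, m, by omega, ⟨φ⟩⟩
  · obtain ⟨n, X, Y, -, h5⟩ := H11.exists_MC_of_qd h4
    exact .inr ⟨n, X, Y, h5⟩
  · exact .inl ⟨S, 2, le_rfl, H11.nonempty_dihedral_two_of_klein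
      (eq_of_le_of_card_ge hS (h4.trans hV.card_four.symm).le ▸ hV)⟩

theorem SC3.not_qd (h : SC3 x) (hno : ∀ H : Subgroup G, H.index ≠ 2) {S : Sylow 2 G} {n : ℕ}
    {X Y : ZMod (2 ^ n) → G} (hm : H11.MC (S : Subgroup G) n (H11.hh n) 0 X Y) : False := by
  haveI := Fact.mk Nat.prime_three
  have h1 : 0 + H11.hh n * 1 = H11.hh n := by simp
  obtain ⟨e⟩ := hm.eight_quaternion h1
  have h2 := hm.qd_six_of_uv (hm.closure_XY_le _ _) e (by_contra fun e =>
    let ⟨K, _, _, hK, _⟩ := hm.qd_K_of_not_uv e; hno K hK)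
  obtain ⟨y, hy, h3⟩ := exists_orderOf_eq_of_dvd (p := 3) (Dvd.dvd.trans ⟨2, h2⟩ (relIndex_dvd_card _ _))
  have h4 := hm.sub_eight h1
  generalize (Subgroup.closure {X (H11.qq n), Y 1} : Subgroup G) = Q at *
  have h5 : ∀ q ∈ Q, orderOf q = 2 → q = X (H11.qq n) ^ (H11.hh 2).val := fun q hq e => by
    obtain ⟨a, rfl | rfl⟩ := (h4.mem q).1 hq
    · rw [h4.orderOf_X_two.1 e]
    · exact absurd (h4.orderOf_Y_two.1 e) (by simp only [zero_mul, add_zero]; decide)
  have h6 := h5 _ (H11.conj_mem_of_mem_normalizer hy (h4.X_mem _)) ((H11.orderOf_conj _ _).trans h4.orderOf_z)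
  have := orderOf_dvd_of_mem_zpowers ((h.of_ord h3).cent.le (H11.mem_cent1.2
    (mul_inv_eq_iff_eq_mul.1 h6).symm))
  rw [h4.orderOf_z, h3] at this
  omega

theorem SC3.klein (h : SC3 x) (hA : I3 x A) (h4 : Nat.card A = 4) : IsKleinFour A := by
  obtain ⟨t, ht, t2⟩ := exists_orderOf_eq_of_dvd (p := 2) (h4 ▸ ⟨2, rfl⟩ : 2 ∣ Nat.card A)
  have h1 := H11.isKleinFour_closure t2 ((H11.orderOf_conj x t).trans t2) (fun e =>
    H11.ne_one_of_orderOf_two t2 (mem_bot.1 (h.fpf hA.cop ▸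
      ⟨ht, H11.mem_cent1.2 (eq_mul_inv_iff_mul_eq.1 e)⟩))) (h.comm hA ht)
  rwa [eq_of_le_of_card_ge (GW.closure_pair_le ht (H11.conj_mem_of_mem_normalizer hA.norm ht))
    (h4.trans h1.card_four.symm).le] at h1

/-- The Sylow `2`-subgroups are dihedral. -/
theorem SC3.ds [IsSimpleGroup G] (hnc : ¬ IsMulCommutative G) (h : SC3 x) : GW.DS G := by
  classical
  have hns : ¬ Group.IsSolvable G := fun hs => hnc ⟨⟨IsSimpleGroup.comm_iff_isSolvable.2 hs⟩⟩
  have hno := H11.no_index_two_of_simple (G := G) fun e =>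
    hnc (by haveI := isCyclic_of_prime_card (p := 2) e; infer_instance)
  by_contra hD
  have h1 : ∀ M : Subgroup G, Mx3 x M → 2 ∣ Nat.card M → 16 ≤ Nat.card (OpOf 2 M) := fun M hM h1 => by
    obtain ⟨k, hk⟩ := IsPGroup.iff_card.1 (OpOf_isPGroup (p := 2) (H := M))
    have h2 := h.card_mod (hM.1.OpOf 2)
    have h3 := h.O_ne hM h1
    by_contra! h4
    have h5 := mt card_eq_one.1 h3
    rw [hk] at h2 h4 h5
    have hK := h.klein (hM.1.OpOf 2) (by
      have := (Nat.pow_lt_pow_iff_right one_lt_two).1 (show 2 ^ k < 2 ^ 4 from h4)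
      interval_cases k <;> simp_all)
    obtain ⟨S, hS⟩ := (OpOf_isPGroup (p := 2) (H := M)).exists_le_sylow
    obtain ⟨n, X, Y, hm⟩ := (ds_or_qd S hK hS (h.le_O hM (inf_le_right.trans
      ((centralizer_le inf_le_left).trans (h.cent_Z hM h3).le)) S.isPGroup'.to_inf_left)).resolve_left hD
    exact h.not_qd hno hm
  obtain ⟨S⟩ : Nonempty (Sylow 2 G) := inferInstance
  obtain ⟨k, hk⟩ := IsPGroup.iff_card.1 S.isPGroup'
  have h2 : 8 ≤ Nat.card S := by
    by_contra! h2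
    have h3 : ¬ IsCyclic S := fun e => hns ((isSolvable_congr topEquiv).1
      (GW.nil2_of_cyclic (H11.isSylIn_top S) e).solvable)
    have := (Nat.pow_lt_pow_iff_right one_lt_two).1 (show 2 ^ k < 2 ^ 3 from hk ▸ h2)
    have h4 : ¬ Nat.card S ∣ 2 := fun e => h3 (isCyclic_of_card_dvd_prime e)
    haveI := Finite.one_lt_card_iff_nontrivial.1 (show 1 < Nat.card S by
      interval_cases k <;> simp_all)
    exact hD ⟨S, 2, le_rfl, H11.nonempty_dihedral_two_of_klein ⟨by interval_cases k <;> simp_all,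
      (not_isCyclic_iff_exponent_eq_prime Nat.prime_two (by interval_cases k <;> simp_all)).1 h3⟩⟩
  haveI := Fintype.ofFinite G
  haveI := Fintype.ofFinite (Subgroup G)
  let 𝓜 := Finset.univ.filter (Mx3 x)
  have h3 : ∀ M ∈ 𝓜, Mx3 x M := fun M hM => (Finset.mem_filter.1 hM).2
  have h4 : ∀ M : Subgroup G, Mx3 x M → 2 ≤ Nat.card M ∧ normalizer (M : Set G) ≠ ⊤ := fun M hM => by
    have h4 : M ≠ ⊥ := fun e => by
      have := h.relIndex hM
      have := card_subgroup_dvd_card (S : Subgroup G)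
      rw [e, normalizer_eq_top, relIndex_bot_left, card_top] at *
      have := Nat.le_of_dvd Nat.card_pos this
      omega
    refine ⟨(one_lt_card_iff_ne_bot M).2 h4, fun e => ?_⟩
    haveI := h.nilp hM.1
    rw [((normalizer_eq_top_iff.1 e).eq_bot_or_eq_top).resolve_left h4] at this
    exact hns ((isSolvable_congr topEquiv).1 inferInstance)
  have h5 : ∀ M : Subgroup G, Mx3 x M → ∀ M' : Subgroup G, Mx3 x M' → ¬ (Nat.card M).Coprime (Nat.card M') →
      ∃ g, H11.cj g M = M' := fun M hM M' hM' e => by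
    obtain ⟨p, hp, a, b⟩ := Nat.Prime.not_coprime_iff_dvd.1 e
    haveI := Fact.mk hp
    exact h.exists_cj hM hM' a b fun e => ⟨h1 M hM (e ▸ a), h1 M' hM' (e ▸ b)⟩
  let R := 𝓜.image fun M : Subgroup G => Nat.card M
  have h6 : Nat.card G < 18 * ∑ r ∈ R, r := by
    refine h.count.trans_le ((Nat.mul_le_mul_left 9 (?_ : _ ≤ 2 * ∑ r ∈ R, r)).trans (by omega))
    calc _ ≤ (𝓜.biUnion fun M => Finset.univ.filter (· ∈ M)).card := by
          rw [Nat.card_eq_fintype_card, Fintype.card_subtype]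
          refine Finset.card_le_card fun a ha => ?_
          obtain ⟨A, hA, ha⟩ := (Finset.mem_filter.1 ha).2
          obtain ⟨M, h7, hM⟩ := Finite.exists_le_maximal hA
          exact Finset.mem_biUnion.2 ⟨M, by simpa [𝓜] using hM, by simpa using h7 ha⟩
      _ ≤ ∑ M ∈ 𝓜, id (Nat.card M) := Finset.card_biUnion_le.trans (Finset.sum_le_sum fun M _ => by
          rw [id, Nat.card_eq_fintype_card, Fintype.card_subtype])
      _ ≤ _ := by
          rw [Finset.sum_comp id, Finset.mul_sum]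
          refine Finset.sum_le_sum fun r hr => Nat.mul_le_mul_right _ ?_
          obtain ⟨M, hM, rfl⟩ := Finset.mem_image.1 hr
          exact h.card_conj_le (h3 M hM) _ fun N hN => by
            obtain ⟨a, b⟩ := Finset.mem_filter.1 hN
            exact ⟨(h3 N a).1, h5 M (h3 M hM) N (h3 N a) (by
              have := (h4 M (h3 M hM)).1; rw [b, Nat.coprime_self]; omega)⟩
  have h7 : ∀ r ∈ R, ∀ r' ∈ R, ¬ r.Coprime r' → r = r' := fun r hr r' hr' e => by
    obtain ⟨M, hM, rfl⟩ := Finset.mem_image.1 hr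
    obtain ⟨M', hM', rfl⟩ := Finset.mem_image.1 hr'
    obtain ⟨g, rfl⟩ := h5 M (h3 M hM) M' (h3 M' hM') e
    exact (H11.card_cj _ _).symm
  have h8 : (∑ r ∈ R.filter Odd, r) * (3 * Nat.card S) ≤ Nat.card G := by
    refine (Nat.mul_le_mul_right _ (sum_le_prod_of_two_le _ fun r hr => ?_)).trans
      (Nat.le_of_dvd Nat.card_pos (Nat.Coprime.mul_dvd_of_dvd_of_dvd (Nat.Coprime.prod_left fun r hr => ?_)
        (Finset.prod_dvd_of_isRelPrime (fun r hr r' hr' e => Nat.coprime_iff_isRelPrime.1 ?_) fun r hr => ?_)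
        (Nat.Coprime.mul_dvd_of_dvd_of_dvd (hk ▸ Nat.Coprime.pow_right k (by decide))
          (h.ord ▸ orderOf_dvd_natCard x) (card_subgroup_dvd_card _))))
    all_goals obtain ⟨M, hM, rfl⟩ := Finset.mem_image.1 (Finset.mem_filter.1 hr).1
    · exact (h4 M (h3 M hM)).1
    · exact (h3 M hM).1.cop.mul_right (hk ▸ (GW.odd_iff_coprime.1 (Finset.mem_filter.1 hr).2).pow_right k)
    · exact by_contra fun e' => e (h7 _ (Finset.mem_filter.1 hr).1 _ (Finset.mem_filter.1 hr').1 e')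
    · exact card_subgroup_dvd_card _
  rw [← Finset.sum_filter_add_sum_filter_not R Odd] at h6
  rcases (R.filter (¬ Odd ·)).eq_empty_or_nonempty with e | ⟨r, hr⟩
  · rw [e, Finset.sum_empty] at h6
    nlinarith
  obtain ⟨h9, h10⟩ := Finset.mem_filter.1 hr
  rw [Finset.sum_eq_single_of_mem r hr fun r' hr' e => (e (h7 _ (Finset.mem_filter.1 hr').1 _ h9
    (Nat.Prime.not_coprime_iff_dvd.2 ⟨2, Nat.prime_two, (Nat.not_odd_iff_even.1
      (Finset.mem_filter.1 hr').2).two_dvd, (Nat.not_odd_iff_even.1 h10).two_dvd⟩))).elim] at h6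
  obtain ⟨M, hM, rfl⟩ := Finset.mem_image.1 h9
  replace hM := h3 M hM
  have h11 := (Nat.not_odd_iff_even.1 h10).two_dvd
  have h12 := (h1 M hM h11).trans ((H11.isSylIn_top S).card_le OpOf_isPGroup le_top)
  obtain ⟨T, hT, h13, -⟩ := h.exists_syl' hM h11 fun _ => h1 M hM h11
  have h14 : ¬ 2 ∣ (normalizer (M : Set G)).index := fun e =>
    hT.not_dvd_relIndex (relIndex_top_right T ▸ e.trans (index_dvd_of_le h13))
  haveI := Fact.mk Nat.prime_three
  have h15 : ¬ 3 ∣ (normalizer (M : Set G)).index := fun e => h.syl.not_dvd_relIndex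
    (relIndex_top_right (zpowers x) ▸ e.trans (index_dvd_of_le (zpowers_le.2 hM.1.norm)))
  have h16 := (normalizer (M : Set G)).card_mul_index
  rw [← card_mul_relIndex (le_normalizer (H := M))] at h16
  have h17 : (normalizer (M : Set G)).index < 10 := by
    by_contra! e'
    have a := (Nat.mul_le_mul_left _ (Nat.mul_le_mul_left 3 h12)).trans h8
    have b := Nat.mul_le_mul_left (Nat.card M * M.relIndex (normalizer (M : Set G))) e'
    have c : Nat.card G < 18 * ((∑ r ∈ R.filter Odd, r) + Nat.card M) := by convert h6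
    generalize (∑ r ∈ R.filter Odd, r) = s at a c
    rcases h.relIndex hM with e | e <;> rw [e] at h16 b <;> omega
  obtain ⟨f, hf⟩ := H11.exists_perm_hom_of_simple (h4 M hM).2 (n := 7) (by omega)
  have h18 := (card_subgroup_dvd_card (S : Subgroup G)).trans (card_dvd_of_injective (f.codRestrict _
    fun g => H11.range_le_alternating hno f ⟨g, rfl⟩) fun a b e => hf (congrArg Subtype.val e))
  rw [nat_card_alternatingGroup, Nat.card_eq_fintype_card (α := Fin 7), Fintype.card_fin, hk] at h18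
  have := (pow_dvd_pow 2 ((Nat.pow_le_pow_iff_right one_lt_two).1
    (show 2 ^ 4 ≤ 2 ^ k from hk ▸ h12))).trans h18
  revert this
  decide

end Cfsg.Agent.H4
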