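import Cfsg.Agent.H11.Klein
import Cfsg.Agent.H10.Im
import Cfsg.Agent.H10.Bender

/-!
# CIT-groups: maximal `2`-local subgroups and the amalgam argument
-/

set_option autoImplicit false
set_option linter.style.haveILetI false
set_option linter.unusedSectionVars false

namespace Cfsg.Agent.H4

open Subgroup Cfsg.Agent.H10
open Cfsg.Agent.H11 (cj IsSylIn mem_cent1)

variable {G : Type*} [Group G] {a g s t v w x y : G} {A B H K M M' N P T T' U Y : Subgroup G}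

/-- Centralizers of involutions are `2`-groups. -/
def CIT (G : Type*) [Group G] : Prop := ∀ t : G, orderOf t = 2 → IsPGroup 2 (centralizer ({t} : Set G))

/-- `2`-elements. -/
def E2 (x : G) : Prop := ∃ k, x ^ 2 ^ k = 1

theorem E2.of_mem (hP : IsPGroup 2 P) (hx : x ∈ P) : E2 x :=
  (hP ⟨x, hx⟩).imp fun _ e => congrArg Subtype.val e

theorem pg_of_e2 (h : ∀ x ∈ P, E2 x) : IsPGroup 2 P := fun x => (h x x.2).imp fun _ e => Subtype.ext e

theorem E2.pg (h : E2 x) : IsPGroup 2 (zpowers x) := let ⟨_, e⟩ := h; isPGroup_zpowers_of_pow_pow e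

theorem E2.of_sq (h : x * x = 1) : E2 x := ⟨1, (pow_two x).trans h⟩

theorem E2.eq_one (h : E2 x) (ho : Odd (orderOf x)) : x = 1 := by
  obtain ⟨k, e⟩ := h
  exact orderOf_eq_one_iff.1 (Nat.Coprime.eq_one_of_dvd (Nat.Coprime.pow_right k
    (Nat.coprime_two_right.2 ho)) (orderOf_dvd_of_pow_eq_one e))

theorem card_sdiff [Finite G] (h : A ≤ B) :
    Nat.card ↥((B : Set G) \ A) = Nat.card B - Nat.card A := Set.ncard_sdiff h

/-- `Ω₁(Z(O₂(M)))`. -/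
def Zm (M : Subgroup G) : Subgroup G where
  carrier := {v | v ∈ OpOf 2 M ⊓ centralizer (OpOf 2 M : Set G) ∧ v * v = 1}
  one_mem' := ⟨one_mem _, one_mul _⟩
  mul_mem' {a b} ha hb := ⟨mul_mem ha.1 hb.1, by
    rw [mul_assoc, ← mul_assoc b, ha.1.2 b hb.1.1, mul_assoc, hb.2, mul_one, ha.2]⟩
  inv_mem' ha := ⟨inv_mem ha.1, by rw [← mul_inv_rev, ha.2, inv_one]⟩

theorem Zm_le : Zm M ≤ OpOf 2 M := fun _ h => h.1.1
theorem Zm_sq (h : v ∈ Zm M) : v * v = 1 := h.2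
theorem Zm_comm (h : v ∈ Zm M) (hx : x ∈ OpOf 2 M) : x * v = v * x := h.1.2 x hx
theorem Zm_pg : IsPGroup 2 (Zm M) := OpOf_isPGroup.to_le Zm_le

theorem cj_O (g : G) : cj g (OpOf 2 M) = OpOf 2 (cj g M) := conj_OpOf g

theorem cj_Zm (g : G) : cj g (Zm M) = Zm (cj g M) := by
  ext v
  change _ ↔ v ∈ OpOf 2 (cj g M) ⊓ centralizer (OpOf 2 (cj g M) : Set G) ∧ _
  rw [← cj_O, ← H11.cj_centralizer, ← H11.cj_inf, H11.mem_cj, H11.mem_cj]
  exact and_congr_right fun _ => by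
    rw [show g⁻¹ * v * g * (g⁻¹ * v * g) = g⁻¹ * (v * v) * g⁻¹⁻¹ by group, conj_eq_one_iff]

theorem le_norm_Zm : M ≤ normalizer (Zm M : Set G) := fun g hg =>
  H11.cj_eq_iff.1 (by rw [cj_Zm, H11.cj_eq_of_mem hg])

theorem le_norm_O : M ≤ normalizer (OpOf 2 M : Set G) := le_normalizer_OpOf le_normalizer

theorem O_le_syl (hT : IsSylIn 2 T M) : OpOf 2 M ≤ T :=
  hT.le_of_normalized OpOf_isPGroup OpOf_le (hT.le.trans le_norm_O)

variable [Finite G]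

theorem Zm_ne (h : OpOf 2 M ≠ ⊥) : Zm M ≠ ⊥ := by
  obtain ⟨z, hz, h1, h2⟩ := H11.exists_orderOf_eq_centralizer_of_normalized (p := 2) OpOf_isPGroup
    OpOf_isPGroup h le_normalizer
  exact fun e => H11.ne_one_of_orderOf_two h1 (mem_bot.1 (e.le
    ⟨⟨hz, h2⟩, H11.mul_self_of_orderOf_two h1⟩))

theorem card_sq_le (hA : A ≤ U) (hn : A ≤ normalizer (cj g A : Set G)) (hg : cj g A ≤ U)
    (h : A ⊓ cj g A = ⊥) : Nat.card A ^ 2 ≤ Nat.card U := by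
  have := card_sup_mul_card_inf hn
  rw [h, card_bot, mul_one, H11.card_cj, ← sq] at this
  exact this ▸ card_le_of_le (sup_le hA hg)

theorem exists_comm (hA : ∀ a ∈ A, a * a = 1) (hw : w ∈ normalizer (A : Set G))
    (h2 : w * w ∈ centralizer (A : Set G)) (h : Nat.card ↥(A ⊓ centralizer {w}) ^ 2 ≤ Nat.card A) :
    Nat.card ↥(A ⊓ centralizer {w}) ^ 2 = Nat.card A ∧
      ∀ y ∈ A ⊓ centralizer {w}, ∃ a ∈ A, a * (w * a * w⁻¹) = y := by
  have hc := fun a b => H11.comm_of_sq_eq_one hA (x := a) (y := b)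
  have hm := fun a => H11.conj_mem_of_mem_normalizer hw (x := a)
  let φ : A →* G := MonoidHom.mk' (fun a => a * (w * a * w⁻¹)) fun a b => by
    rw [coe_mul, ← conj_mul, mul_assoc (a : G) b, ← mul_assoc (b : G), hc _ _ b.2 (hm _ a.2)]; group
  have h1 : φ.ker = (A ⊓ centralizer {w}).subgroupOf A := by
    ext a
    rw [inf_subgroupOf_left, mem_subgroupOf, mem_cent1, MonoidHom.mem_ker, eq_comm (a := (a : G) * w),
      ← mul_inv_eq_iff_eq_mul]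
    exact ⟨fun e => mul_left_cancel (e.trans (hA a a.2).symm), fun e => by
      change (a : G) * (w * a * w⁻¹) = 1; rw [e, hA a a.2]⟩
  have h3 : φ.range ≤ A ⊓ centralizer {w} := by
    rintro _ ⟨a, rfl⟩
    refine ⟨mul_mem a.2 (hm _ a.2), mem_cent1.2 (mul_inv_eq_iff_eq_mul.1 ?_).symm⟩
    change w * ((a : G) * (w * a * w⁻¹)) * w⁻¹ = (a : G) * (w * a * w⁻¹)
    rw [← conj_mul, show w * (w * a * w⁻¹) * w⁻¹ = w * w * a * (w * w)⁻¹ by group, ← h2 a a.2,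
      mul_inv_cancel_right, hc _ _ a.2 (hm _ a.2)]
  have h4 := φ.ker.card_mul_index
  rw [index_ker, h1, H11.card_subgroupOf inf_le_left] at h4
  have h5 := card_le_of_le h3
  have h6 : Nat.card ↥(A ⊓ centralizer {w}) ≤ Nat.card φ.range :=
    Nat.le_of_mul_le_mul_left (by rwa [h4, ← sq]) Nat.card_pos
  exact ⟨by rw [← h4, sq, le_antisymm h5 h6], fun y hy =>
    let ⟨a, e⟩ := (eq_of_le_of_card_ge h3 h6).ge hy; ⟨a, a.2, e⟩⟩

namespace CIT

variable (h : CIT G)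
include h

theorem e2 (ha : a ≠ 1) (h2 : E2 a) (e : x * a = a * x) : E2 x := by
  obtain ⟨k, hk⟩ := (Nat.dvd_prime_pow Nat.prime_two).1 (orderOf_dvd_of_pow_eq_one h2.choose_spec)
  refine E2.of_mem (h _ (H11.orderOf_pow_half (orderOf_pos a) ?_)) (mem_cent1.2 (Commute.pow_right e _))
  exact Nat.not_odd_iff_even.1 fun ho => ha (h2.eq_one ho)

theorem cent1 (ha : a ≠ 1) (h2 : E2 a) : IsPGroup 2 (centralizer ({a} : Set G)) :=
  pg_of_e2 fun _ hx => h.e2 ha h2 (mem_cent1.1 hx)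

theorem cent (hA : IsPGroup 2 A) (h1 : A ≠ ⊥) : IsPGroup 2 (centralizer (A : Set G)) := by
  obtain ⟨a, ha⟩ := ne_bot_iff_exists_ne_one.1 h1
  exact (h.cent1 (fun e => ha (Subtype.ext e)) (.of_mem hA a.2)).to_le
    (centralizer_le (Set.singleton_subset_iff.2 a.2))

theorem inj (hx : ¬ E2 x) (hU : IsPGroup 2 U) {u : G} (hu : u ∈ U) (hv : v ∈ U)
    (e : u⁻¹ * (x * u * x⁻¹) = v⁻¹ * (x * v * x⁻¹)) : u = v := by
  by_contra e'
  refine hx (h.e2 (a := v * u⁻¹) (fun e => e' (mul_inv_eq_one.1 e).symm)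
    (.of_mem hU (mul_mem hv (inv_mem hu))) ?_)
  calc _ = v * (v⁻¹ * (x * v * x⁻¹)) * x * u⁻¹ := by group
    _ = _ := by rw [← e]; group

theorem card_le (hx : ¬ E2 x) (hU : IsPGroup 2 U) (e : ∀ u ∈ U, u⁻¹ * (x * u * x⁻¹) ∈ A) :
    Nat.card U ≤ Nat.card A :=
  Nat.card_le_card_of_injective (fun u : U => (⟨_, e u u.2⟩ : A)) fun u v e =>
    Subtype.ext (h.inj hx hU u.2 v.2 (congrArg Subtype.val e))

theorem surj (hx : ¬ E2 x) (hU : IsPGroup 2 U) (hn : x ∈ normalizer (U : Set G)) (hv : v ∈ U) :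
    ∃ u ∈ U, u⁻¹ * (x * u * x⁻¹) = v :=
  let ⟨u, e⟩ := Finite.injective_iff_surjective.1 (show Function.Injective fun u : U =>
    (⟨_, mul_mem (inv_mem u.2) (H11.conj_mem_of_mem_normalizer hn u.2)⟩ : U) from fun u v e =>
      Subtype.ext (h.inj hx hU u.2 v.2 (congrArg Subtype.val e))) ⟨v, hv⟩
  ⟨u, u.2, congrArg Subtype.val e⟩

theorem inv (hK : Odd (Nat.card K)) (ht : orderOf t = 2) (hn : t ∈ normalizer (K : Set G)) (hx : x ∈ K) :
    t * x * t⁻¹ = x⁻¹ :=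
  congrArg Subtype.val (congrFun (MonoidHom.FixedPointFree.coe_eq_inv_of_involutive
    (φ := K.normalizerMonoidHom ⟨t, hn⟩) (fun a e => Subtype.ext ((E2.of_mem (h t ht) (mem_cent1.2
      (mul_inv_eq_iff_eq_mul.1 (congrArg Subtype.val e)).symm)).eq_one (H11.odd_orderOf_of_odd_card hK a.2)))
    fun a => Subtype.ext (by
      change t * (t * a * t⁻¹) * t⁻¹ = a
      rw [show t * (t * a * t⁻¹) * t⁻¹ = t * t * a * (t * t)⁻¹ by group, H11.mul_self_of_orderOf_two ht]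
      group)) ⟨x, hx⟩)

theorem three (hA : ∀ a ∈ A, a * a = 1) (hx : ¬ E2 x) (hn : x ∈ normalizer (A : Set G))
    (h3 : x * x * x ∈ centralizer (A : Set G)) (hy : y ∈ A) :
    y * (x * y * x⁻¹) * (x * (x * y * x⁻¹) * x⁻¹) = 1 := by
  have h1 := H11.conj_mem_of_mem_normalizer hn hy
  have h2 := H11.conj_mem_of_mem_normalizer hn h1
  by_contra e
  refine hx (h.e2 e (.of_sq (hA _ (mul_mem (mul_mem hy h1) h2))) (mul_inv_eq_iff_eq_mul.1 ?_))
  rw [← conj_mul, ← conj_mul, show x * (x * (x * y * x⁻¹) * x⁻¹) * x⁻¹ = x * x * x * y * (x * x * x)⁻¹ by group,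
    ← h3 y hy, mul_inv_cancel_right, H11.comm_of_sq_eq_one hA (mul_mem h1 h2) hy, mul_assoc y]

theorem of_inj {G' : Type*} [Group G'] (f : G' →* G) (hf : Function.Injective f) : CIT G' :=
  fun t ht => pg_of_e2 fun x hx => (E2.of_mem (h (f t) ((orderOf_injective f hf t).trans ht))
    (mem_cent1.2 (by rw [← map_mul, mem_cent1.1 hx, map_mul] : f x * _ = _))).imp fun k e =>
      hf (by rw [map_pow, e, map_one])

theorem quot [N.Normal] (hN : IsPGroup 2 N) : CIT (G ⧸ N) := fun t ht => pg_of_e2 fun x hx => by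
  obtain ⟨x, rfl⟩ := QuotientGroup.mk_surjective x
  by_contra e
  have := h.card_le (x := x) (A := N) (fun ⟨k, e'⟩ => e ⟨k, by rw [← QuotientGroup.mk_pow, e']; rfl⟩)
    ((isPGroup_zpowers ht).comap_of_ker_isPGroup (QuotientGroup.mk' N) (by rwa [QuotientGroup.ker_mk']))
    fun u ⟨k, hk⟩ => (QuotientGroup.eq_one_iff _).1 (by
      have : (u : G ⧸ N) = t ^ k := hk.symm
      simp [this, (Commute.zpow_right (mem_cent1.1 hx) k).eq])
  rw [card_comap_mk', Nat.card_zpowers, ht] at this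
  have := Nat.card_pos (α := N)
  omega

end CIT

/-- Distinct Sylow `2`-subgroups of `M` meet in `O₂(M)`. -/
def TI2 (M : Subgroup G) : Prop :=
  ∀ T T', IsSylIn 2 T M → IsSylIn 2 T' M → T ≠ T' → T ⊓ T' ≤ OpOf 2 M

/-- Maximal `2`-local subgroups. -/
structure ML (M : Subgroup G) : Prop where
  ne : OpOf 2 M ≠ ⊥
  max : ∀ K : Subgroup G, IsPGroup 2 K → K ≠ ⊥ → M ≤ normalizer (K : Set G) → normalizer (K : Set G) = M

theorem exists_ml (hY : IsPGroup 2 Y) (h1 : Y ≠ ⊥) : ∃ M, ML M ∧ normalizer (Y : Set G) ≤ M := by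
  obtain ⟨M, h2, ⟨K, a, b, rfl⟩, h3⟩ := Finite.exists_le_maximal (p := fun M : Subgroup G =>
    ∃ K : Subgroup G, IsPGroup 2 K ∧ K ≠ ⊥ ∧ normalizer (K : Set G) = M) ⟨Y, hY, h1, rfl⟩
  exact ⟨_, ⟨fun e => b (eq_bot_iff.2 ((le_OpOf le_normalizer le_rfl a).trans e.le)),
    fun L c d e => le_antisymm (h3 ⟨L, c, d, rfl⟩ e) e⟩, h2⟩

theorem ML.cj (h : ML M) (g : G) : ML (cj g M) :=
  ⟨by rw [← cj_O, Ne, H11.cj_eq_bot_iff]; exact h.ne, fun K a b c => by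
    rw [← h.max (H11.cj g⁻¹ K) (H11.IsPGroup_cj a _) (mt H11.cj_eq_bot_iff.1 b)
      (by rw [← H11.cj_normalizer]; exact H11.cj_le_iff'.1 c), ← H11.cj_normalizer, H11.cj_cj_inv]⟩

theorem ML.norm_O (h : ML M) : normalizer (OpOf 2 M : Set G) = M := h.max _ OpOf_isPGroup h.ne le_norm_O

theorem ML.norm_Z (h : ML M) : normalizer (Zm M : Set G) = M := h.max _ Zm_pg (Zm_ne h.ne) le_norm_Zm

theorem ML.norm (h : ML M) : normalizer (M : Set G) = M :=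
  le_antisymm (normalizer_le_normalizer_OpOf.trans h.norm_O.le) le_normalizer

theorem ML.cent_Z (hM : ML M) (h : CIT G) : centralizer (Zm M : Set G) = OpOf 2 M :=
  le_antisymm (le_OpOf ((centralizer_le_normalizer _).trans hM.norm_Z.le) (le_normalizer_centralizer le_norm_Zm)
    (h.cent Zm_pg (Zm_ne hM.ne))) fun _ hx _ hv => (Zm_comm hv hx).symm

/-- The vertices of the amalgam graph. -/
structure Vx (M : Subgroup G) : Prop extends ML M where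
  cit : CIT G
  ti : TI2 M
  nc : ¬ IsSylIn 2 (OpOf 2 M) M

namespace Vx

variable (h : Vx M)
include h

theorem cj (g : G) : Vx (cj g M) :=
  ⟨h.toML.cj g, h.cit, fun T T' a b c => by
    have := h.ti _ _ (H11.cj_inv_cj g M ▸ a.cj g⁻¹) (H11.cj_inv_cj g M ▸ b.cj g⁻¹)
      (mt (H11.cj_injective _) c)
    rwa [← H11.cj_inf, H11.cj_le_iff', inv_inv, cj_O] at this, fun e => h.nc (by
      have := e.cj g⁻¹; rwa [← cj_O, H11.cj_inv_cj, H11.cj_inv_cj] at this)⟩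

theorem eq (hT : IsSylIn 2 T M) (hT' : IsSylIn 2 T' M) (h1 : w ∈ T) (h2 : w ∈ T') (h3 : w ∉ OpOf 2 M) :
    T = T' := by_contra fun e => h3 (h.ti T T' hT hT' e ⟨h1, h2⟩)

theorem eq_of_comm (hT : IsSylIn 2 T M) (hT' : IsSylIn 2 T' M) (h1 : w ∈ T) (h2 : w ∉ OpOf 2 M)
    (h3 : x ∈ T') (h4 : x ∉ OpOf 2 M) (hv : v ≠ 1) (e2 : E2 v) (e : v * w = w * v) (e' : v * x = x * v) :
    T = T' := by
  obtain ⟨S, hS, h5⟩ := H11.exists_isSylIn_le (h.cit.cent1 hv e2).to_inf_right (inf_le_left (a := M))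
  exact (h.eq hT hS h1 (h5 ⟨hT.le h1, mem_cent1.2 e.symm⟩) h2).trans
    (h.eq hS hT' (h5 ⟨hT'.le h3, mem_cent1.2 e'.symm⟩) h3 h4)

theorem exists_ne (hT : IsSylIn 2 T M) : ∃ g ∈ M, H11.cj g T ≠ T := by
  by_contra! e
  exact h.nc (le_antisymm (le_OpOf hT.le (fun g hg => H11.cj_eq_iff.1 (e g hg)) hT.pg) (O_le_syl hT) ▸ hT)

theorem conj_not_mem (hg : g ∈ M) (hw : w ∉ OpOf 2 M) : g * w * g⁻¹ ∉ OpOf 2 M := fun e =>
  hw (by simpa [mul_assoc] using H11.conj_mem_of_mem_normalizer' (le_norm_O hg) e)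

theorem inf_cj (hT : IsSylIn 2 T M) (h1 : w ∈ T) (h2 : w ∉ OpOf 2 M) (hg : g ∈ M) (e : H11.cj g T ≠ T)
    (hA : IsPGroup 2 A) (hc : A ≤ centralizer {w}) : A ⊓ H11.cj g A = ⊥ :=
  eq_bot_iff.2 fun v hv => by_contra fun v1 => e (h.eq_of_comm (hT.cj_of_mem (le_normalizer hg)) hT
    (H11.conj_mem_map_conj g h1) (h.conj_not_mem hg h2) h1 h2 v1 (.of_mem hA hv.1)
    (mem_cent1.1 (H11.cj_cent1 g w ▸ H11.cj_mono g hc hv.2)) (mem_cent1.1 (hc hv.1)))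

theorem not_e2 (hT : IsSylIn 2 T M) (hT' : IsSylIn 2 T' M) (ne : T ≠ T') (h1 : w ∈ T) (h2 : w ∉ OpOf 2 M)
    (h3 : x ∈ T') (h4 : x ∉ OpOf 2 M) (h5 : w * w ∈ OpOf 2 M) (h6 : x * x ∈ OpOf 2 M) : ¬ E2 (w * x) := fun e => by
  have a1 := mul_mem (hT.le h1) (hT'.le h3)
  obtain ⟨S, hS, a2⟩ := H11.exists_isSylIn_le ((E2.of_mem hT.pg h1).pg.to_sup_of_normal_right'
    (e.pg.to_sup_of_normal_right' OpOf_isPGroup ((zpowers_le.2 a1).trans le_norm_O))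
    (zpowers_le.2 (H11.mem_normalizer_of_cj_le (by
      rw [H11.cj_sup, H11.cj_eq_iff.2 (le_norm_O (hT.le h1)), H11.cj_zpowers]
      refine sup_le (zpowers_le.2 ?_) le_sup_right
      rw [show w * (w * x) * w⁻¹ = w * w * (x * x) * (w * x)⁻¹ by group]
      exact mul_mem (mem_sup_right (mul_mem h5 h6)) (mem_sup_left (inv_mem (mem_zpowers _))))))) (sup_le (zpowers_le.2 (hT.le h1)) (sup_le (zpowers_le.2 a1) OpOf_le))
  have a3 := a2 (mem_sup_left (mem_zpowers w))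
  exact ne ((h.eq hT hS h1 a3 h2).trans (h.eq hS hT' ((mul_mem_cancel_left a3).1
    (a2 (mem_sup_right (mem_sup_left (mem_zpowers _))))) h3 h4))

theorem card_cent (hw : w ∈ M) (h1 : w ∉ OpOf 2 M) (h2 : w * w ∈ OpOf 2 M) :
    Nat.card ↥(Zm M ⊓ centralizer {w}) ^ 2 = Nat.card (Zm M) ∧
      ∀ y ∈ Zm M ⊓ centralizer {w}, ∃ a ∈ Zm M, a * (w * a * w⁻¹) = y := by
  obtain ⟨k, hk⟩ := E2.of_mem OpOf_isPGroup h2
  obtain ⟨T, hT, h3⟩ := H11.exists_isSylIn_le (E2.pg ⟨k + 1, by rwa [pow_succ', pow_mul, sq]⟩)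
    (zpowers_le.2 hw)
  obtain ⟨g, hg, e⟩ := h.exists_ne hT
  have h4 : H11.cj g (Zm M ⊓ centralizer {w}) ≤ Zm M :=
    (H11.cj_mono g inf_le_left).trans (H11.cj_eq_iff.2 (le_norm_Zm hg)).le
  exact exists_comm (fun _ => Zm_sq) (le_norm_Zm hw) (fun v hv => (Zm_comm hv h2).symm)
    (card_sq_le inf_le_left (le_normalizer_of_le_centralizer fun v hv u hu =>
      Zm_comm hv.1 (Zm_le (h4 hu))) h4 (h.inf_cj hT (h3 (mem_zpowers w)) h1 hg e Zm_pg.to_inf_left inf_le_right))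

theorem card_syl (hT : IsSylIn 2 T M) (hw : w ∈ T) (h1 : w ∉ OpOf 2 M) (h2 : w * w ∈ OpOf 2 M) :
    Nat.card T ≤ Nat.card (OpOf 2 M) * Nat.card ↥(Zm M ⊓ centralizer {w}) := by
  obtain ⟨g, hg, e⟩ := h.exists_ne hT
  have hT' := hT.cj_of_mem (le_normalizer hg)
  have h3 := (h.card_cent (hT.le hw) h1 h2).1
  set Y := Zm M ⊓ centralizer {w}
  have h4 : ∀ y ∈ H11.cj g Y, y ∈ Zm M ∧ y * (g * w * g⁻¹) = g * w * g⁻¹ * y := fun y hy => by
    rw [H11.cj_inf, H11.cj_eq_iff.2 (le_norm_Zm hg), H11.cj_cent1] at hy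
    exact ⟨hy.1, mem_cent1.1 hy.2⟩
  have h5 : ∀ s ∈ T, ∀ y ∈ H11.cj g Y, y ≠ 1 → ∀ S x, IsSylIn 2 S M → x ∈ S → x ∉ OpOf 2 M →
      s * y * s⁻¹ * x = x * (s * y * s⁻¹) → H11.cj s (H11.cj g T) = S := fun s hs y hy y1 S x a b c d =>
    h.eq_of_comm (hT'.cj_of_mem (le_normalizer (hT.le hs))) a (H11.conj_mem_map_conj s
      (H11.conj_mem_map_conj g hw)) (h.conj_not_mem (hT.le hs) (h.conj_not_mem hg h1)) b c
      (by simpa using y1) (.of_mem Zm_pg (H11.conj_mem_of_mem_normalizer (le_norm_Zm (hT.le hs)) (h4 y hy).1))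
      (by rw [conj_mul, conj_mul, (h4 y hy).2]) d
  have h6 := Nat.card_le_card_of_injective (α := (T ⧸ (OpOf 2 M).subgroupOf T) ×
      ↥((H11.cj g Y : Set G) \ (⊥ : Subgroup G))) (β := ↥((Zm M : Set G) \ Y))
    (fun p => ⟨(p.1.out : G) * p.2 * (p.1.out : G)⁻¹, H11.conj_mem_of_mem_normalizer (le_norm_Zm (hT.le p.1.out.2))
      (h4 _ p.2.2.1).1, fun e' => e (H11.cj_injective _ ((h5 _ p.1.out.2 _ p.2.2.1 p.2.2.2 T w hT hw h1
        (mem_cent1.1 e'.2)).trans (H11.cj_eq_of_mem p.1.out.2).symm))⟩) fun ⟨c, y⟩ ⟨c', y'⟩ e' => by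
      replace e' : (c.out : G) * y * (c.out : G)⁻¹ = (c'.out : G) * y' * (c'.out : G)⁻¹ := congrArg Subtype.val e'
      have h7 : ((c.out⁻¹ * c'.out : T) : G) * y' * ((c.out⁻¹ * c'.out : T) : G)⁻¹ = y := by
        rw [coe_mul, coe_inv, mul_inv_rev, mul_assoc, mul_assoc, ← mul_assoc (c'.out : G),
          ← mul_assoc ((c'.out : G) * y' : G), ← e']; group
      have h8 := h5 _ (c.out⁻¹ * c'.out).2 _ y'.2.1 y'.2.2 _ _ hT' (H11.conj_mem_map_conj g hw)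
        (h.conj_not_mem hg h1) (by rw [h7, (h4 _ y.2.1).2])
      have h9 := h.ti _ _ hT' hT e ⟨hT'.le_of_normalizes (E2.of_mem hT.pg (c.out⁻¹ * c'.out).2).pg
        (zpowers_le.2 (hT.le (c.out⁻¹ * c'.out).2)) (zpowers_le.2 (H11.cj_eq_iff.1 h8)) (mem_zpowers _),
        (c.out⁻¹ * c'.out).2⟩
      obtain rfl : c = c' := by
        rw [← c.out_eq', ← c'.out_eq']; exact QuotientGroup.eq.2 h9
      exact Prod.ext rfl (Subtype.ext (by simpa using e'))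
  rw [Nat.card_prod, card_sdiff bot_le, card_sdiff inf_le_left, H11.card_cj, card_bot, ← h3] at h6
  have h7 : 1 < Nat.card Y := by
    have := (one_lt_card_iff_ne_bot _).2 (Zm_ne h.ne)
    nlinarith [Nat.card_pos (α := Y)]
  rw [← card_mul_relIndex (O_le_syl hT)]
  refine Nat.mul_le_mul_left _ (Nat.le_of_mul_le_mul_right (h6.trans ?_) (Nat.sub_pos_of_lt h7))
  rw [Nat.mul_sub_one, sq]

end Vx

/-- One half of the properties of a critical pair. -/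
structure Crit (M M' : Subgroup G) : Prop where
  nle : ¬ Zm M' ≤ OpOf 2 M
  syl : IsSylIn 2 (Zm M' ⊔ OpOf 2 M) M
  cent : ∀ w ∈ Zm M', w ∉ OpOf 2 M → Zm M ⊓ centralizer {w} = Zm M ⊓ Zm M'
  inf : Zm M ⊓ OpOf 2 M' = Zm M ⊓ Zm M'
  card : Nat.card ↥(Zm M ⊓ Zm M') ^ 2 = Nat.card (Zm M)

theorem Vx.aux (h : Vx M) (h' : Vx M') (h1 : Zm M ≤ M') (h2 : Zm M' ≤ M) (hw : w ∈ Zm M)
    (h3 : w ∉ OpOf 2 M') (hx : x ∈ Zm M') (h4 : x ∉ OpOf 2 M) :
    Nat.card ↥(Zm M' ⊓ centralizer {w}) ≤ Nat.card ↥(Zm M ⊓ centralizer {x}) ∧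
    (Nat.card ↥(Zm M ⊓ centralizer {x}) ≤ Nat.card ↥(Zm M' ⊓ centralizer {w}) →
      IsSylIn 2 (Zm M' ⊔ OpOf 2 M) M ∧ Zm M' ⊓ OpOf 2 M = Zm M' ⊓ centralizer {w}) := by
  have a1 : IsPGroup 2 ↥(Zm M' ⊔ OpOf 2 M) := Zm_pg.to_sup_of_normal_right' OpOf_isPGroup (h2.trans le_norm_O)
  obtain ⟨T, hT, a2⟩ := H11.exists_isSylIn_le a1 (sup_le h2 OpOf_le)
  have a3 := h.card_syl hT (a2 (mem_sup_left hx)) h4 (Zm_sq hx ▸ one_mem _)
  have a4 := (h'.card_cent (h1 hw) h3 (Zm_sq hw ▸ one_mem _)).1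
  have a5 := card_sup_mul_card_inf (h2.trans le_norm_O)
  have a6 : Zm M' ⊓ OpOf 2 M ≤ Zm M' ⊓ centralizer {w} := fun v hv => ⟨hv.1, mem_cent1.2 (Zm_comm hw hv.2)⟩
  have a7 := card_le_of_le a6
  have a8 := card_le_of_le a2
  have a9 := Nat.card_pos (α := OpOf 2 M)
  have a10 := Nat.card_pos (α := ↥(Zm M' ⊓ centralizer {w}))
  rw [← a4] at a5
  refine ⟨by_contra fun e => ?_, fun e => ⟨hT.of_card_ge a1 (sup_le h2 OpOf_le) (by_contra fun e' => ?_),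
    eq_of_le_of_card_ge a6 (by_contra fun e' => ?_)⟩⟩
  all_goals
    generalize Nat.card ↥(Zm M' ⊓ centralizer {w}) = r' at *
    generalize Nat.card ↥(Zm M ⊓ centralizer {x}) = r at *
    generalize Nat.card ↥(Zm M' ⊔ OpOf 2 M) = j at *
    generalize Nat.card ↥(Zm M' ⊓ OpOf 2 M) = c at *
    generalize Nat.card ↥(OpOf 2 M) = q at *
  · have := Nat.mul_le_mul (a8.trans a3) a7
    have := Nat.mul_lt_mul_of_pos_left (not_le.1 e) (Nat.mul_pos a9 a10)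
    nlinarith
  · have := Nat.mul_lt_mul_of_lt_of_le ((not_le.1 e').trans_le (a3.trans (Nat.mul_le_mul_left q e))) a7 a10
    nlinarith
  · have := Nat.mul_lt_mul_of_le_of_lt (a8.trans (a3.trans (Nat.mul_le_mul_left q e))) (not_le.1 e')
      (Nat.mul_pos a9 a10)
    nlinarith

theorem Vx.crit (h : Vx M) (h' : Vx M') (h1 : Zm M ≤ M') (h2 : Zm M' ≤ M) (h3 : ¬ Zm M ≤ OpOf 2 M') :
    Crit M M' := by
  obtain ⟨w, hw, h4⟩ := SetLike.not_le_iff_exists.1 h3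
  have h5 : ¬ Zm M' ≤ OpOf 2 M := fun e => by
    have a := (h'.card_cent (h1 hw) h4 (Zm_sq hw ▸ one_mem _)).1
    rw [inf_eq_left.2 fun v hv => mem_cent1.2 (Zm_comm hw (e hv))] at a
    have := (one_lt_card_iff_ne_bot _).2 (Zm_ne h'.ne)
    nlinarith
  have key := fun x hx e => (h'.aux h h2 h1 hx e hw h4).2 (h.aux h' h1 h2 hw h4 (x := x) hx e).1
  obtain ⟨x, hx, h6⟩ := SetLike.not_le_iff_exists.1 h5
  have h7 := h.card_cent (h2 hx) h6 (Zm_sq hx ▸ one_mem _)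
  have h8 : Zm M ⊓ OpOf 2 M' = Zm M ⊓ Zm M' := le_antisymm (fun y hy => ⟨hy.1, by
    obtain ⟨a, ha, rfl⟩ := h7.2 y ((key x hx h6).2.le hy)
    have := mul_mem (H11.conj_mem_of_mem_normalizer (le_norm_Zm (h1 ha)) hx) (inv_mem hx)
    rwa [inv_eq_of_mul_eq_one_right (Zm_sq ha), mul_assoc, mul_assoc, ← mul_assoc x] at this⟩)
    (inf_le_inf_left _ Zm_le)
  exact ⟨h5, ((h.aux h' h1 h2 hw h4 hx h6).2 (h'.aux h h2 h1 hx h6 hw h4).1).1,
    fun y hy e => (key y hy e).2.symm.trans h8, h8, by rw [← h8, (key x hx h6).2, h7.1]⟩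

theorem Crit.ne_bot (c : Crit M M') (h : ML M) : Zm M ⊓ Zm M' ≠ ⊥ := fun e => by
  have := c.card
  rw [e, card_bot, one_pow, eq_comm, card_eq_one] at this
  exact Zm_ne h.ne this

theorem Crit.eq (c : Crit M M') (hT : IsSylIn 2 T M) (h : Zm M' ≤ T) : T = Zm M' ⊔ OpOf 2 M :=
  c.syl.eq hT.pg (sup_le h (O_le_syl hT)) hT.le

/-- Adjacency in the amalgam graph. -/
def Adj (M M' : Subgroup G) : Prop :=
  Vx M ∧ Vx M' ∧ M ≠ M' ∧ ∃ T, IsSylIn 2 T M ∧ IsSylIn 2 T M'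

theorem Adj.symm (h : Adj M M') : Adj M' M :=
  let ⟨a, b, c, T, d, e⟩ := h; ⟨b, a, c.symm, T, e, d⟩

theorem Adj.cj (h : Adj M M') (g : G) : Adj (cj g M) (cj g M') :=
  let ⟨a, b, c, _, d, e⟩ := h; ⟨a.cj g, b.cj g, mt (H11.cj_injective g) c, _, d.cj g, e.cj g⟩

theorem Adj.le (h : Adj M M') : OpOf 2 M ≤ M' := let ⟨_, _, _, _, d, e⟩ := h; (O_le_syl d).trans e.le

/-- Paths in the amalgam graph. -/
inductive Pth : ℕ → Subgroup G → Subgroup G → Prop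
  | nil (M : Subgroup G) : Pth 0 M M
  | cons {n : ℕ} {M K L : Subgroup G} : Adj M K → Pth n K L → Pth (n + 1) M L

theorem Pth.snoc {n : ℕ} {L : Subgroup G} (h : Pth n M K) (h' : Adj K L) : Pth (n + 1) M L := by
  induction h with
  | nil => exact .cons h' (.nil _)
  | cons a _ ih => exact .cons a (ih h')

theorem Pth.symm {n : ℕ} (h : Pth n M K) : Pth n K M := by
  induction h with
  | nil => exact .nil _
  | cons a _ ih => exact ih.snoc a.symm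

theorem Pth.cj {n : ℕ} (h : Pth n M K) (g : G) : Pth n (cj g M) (cj g K) := by
  induction h with
  | nil => exact .nil _
  | cons a _ ih => exact .cons (a.cj g) ih

theorem Adj.exists_pth (h : Adj M M') : ∃ n, ∃ M M' : Subgroup G, Pth n M M' ∧ ¬ Zm M ≤ OpOf 2 M' := by
  by_contra! e
  have key : ∀ {M M' : Subgroup G}, Adj M M' → normalizer ((⨆ (K) (_ : ∃ n, Pth n K M), Zm K : Subgroup G) :
      Set G) = M := fun {M M'} h => h.1.max _ (OpOf_isPGroup.to_le (iSup₂_le fun K ⟨n, hK⟩ => e n K M hK))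
    (fun e => Zm_ne h.1.ne (eq_bot_iff.2 ((le_iSup₂_of_le (f := fun K (_ : ∃ n, Pth n K M) => Zm K) M
      ⟨0, .nil _⟩ le_rfl).trans e.le))) fun g hg => H11.mem_normalizer_of_cj_le (by
        rw [H11.cj_le_iff']
        refine iSup₂_le fun K ⟨n, hK⟩ => H11.cj_le_iff'.1 ?_
        rw [cj_Zm]
        exact le_iSup₂_of_le (f := fun K (_ : ∃ n, Pth n K M) => Zm K) _
          ⟨n, H11.cj_eq_of_mem hg ▸ hK.cj g⟩ le_rfl)
  refine h.2.2.1 ((key h).symm.trans (Eq.trans ?_ (key h.symm)))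
  simp only [show ∀ K, (∃ n, Pth n K M) ↔ ∃ n, Pth n K M' from fun K =>
    ⟨fun ⟨_, e⟩ => ⟨_, e.snoc h⟩, fun ⟨_, e⟩ => ⟨_, e.snoc h.symm⟩⟩]

theorem Adj.exists_one (h : Adj M M') : ∃ M M' : Subgroup G, Adj M M' ∧ ¬ Zm M ≤ OpOf 2 M' := by
  classical
  obtain ⟨n, ⟨α, α', hp, hn⟩, hm⟩ := Nat.findX h.exists_pth
  have hm : ∀ {k} {M M' : Subgroup G}, k < n → Pth k M M' → Zm M ≤ OpOf 2 M' := fun a b =>
    by_contra fun c => hm _ a ⟨_, _, b, c⟩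
  rcases hp with _ | @⟨n, _, β, _, a1, hp⟩
  · exact (hn Zm_le).elim
  rcases hp.symm with _ | @⟨n, _, γ, _, a2, hq⟩
  · exact ⟨_, _, a1, hn⟩
  exfalso
  have p1 : Pth (n + 1) α γ := .cons a1 hq.symm
  have b1 := hm (by omega) p1
  have b2 := hm (by omega) hp.symm
  obtain ⟨hα, hβ, ne, T, t1, t2⟩ := id a1
  obtain ⟨hα', hγ, -, T', t1', t2'⟩ := id a2
  have c := hα.crit hα' (b1.trans a2.symm.le) (b2.trans a1.symm.le) hn
  have c' := hα'.crit hα (b2.trans a1.symm.le) (b1.trans a2.symm.le) c.nle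
  obtain ⟨g, hg, e⟩ := hα.exists_ne t1
  have a3 : Adj (H11.cj g β) α := H11.cj_eq_of_mem hg ▸ a1.symm.cj g
  have t3 := t1.cj_of_mem (le_normalizer hg)
  obtain ⟨w, hw, w1⟩ := SetLike.not_le_iff_exists.1 c.nle
  have wT := O_le_syl t2 (b2 hw)
  by_cases h1 : Zm (H11.cj g β) ≤ OpOf 2 γ
  · obtain ⟨s, hs, s1⟩ := SetLike.not_le_iff_exists.1 (show ¬ H11.cj g T ≤ OpOf 2 α from fun e =>
      hα.nc (le_antisymm e (O_le_syl t3) ▸ t3))
    have h2 : H11.cj g T ≤ normalizer ((Zm (H11.cj g β) ⊔ Zm α : Subgroup G) : Set G) :=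
      le_normalizer_sup ((t2.cj g).le.trans le_norm_Zm) (t3.le.trans le_norm_Zm)
    have h3 : Zm (H11.cj g β) ⊔ Zm α ≤ Zm α ⊔ OpOf 2 α' :=
      sup_le (h1.trans ((O_le_syl t2').trans (c'.eq t1' (b1.trans (O_le_syl t2'))).le)) le_sup_left
    have wα := t1.le wT
    have h4 : ∀ u ∈ Zm (H11.cj g β) ⊔ Zm α, u⁻¹ * (w * u * w⁻¹) ∈ Zm α := fun u hu => by
      obtain ⟨a, ha, q, hq, e⟩ := (mem_sup_iff_of_left_le_normalizer
        ((b1.trans a2.symm.le).trans le_norm_O)).1 (h3 (inv_mem hu))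
      rw [← inv_inv u, ← e, inv_inv, show a * q * (w * (a * q)⁻¹ * w⁻¹) = a * (q * w * q⁻¹ * a⁻¹ * w⁻¹) by group,
        Zm_comm hw hq, mul_inv_cancel_right]
      exact mul_mem ha (H11.conj_mem_of_mem_normalizer (le_norm_Zm wα) (inv_mem ha))
    have sα := t3.le hs
    have h5 : ¬ E2 (w * (s * w * s⁻¹)) := hα.not_e2 t1 (t1.cj_of_mem (le_normalizer sα)) (fun h7 =>
      e (hα.eq t3 t1 hs (t1.le_of_normalizes (E2.of_mem t3.pg hs).pg (zpowers_le.2 sα)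
        (zpowers_le.2 (H11.cj_eq_iff.1 h7.symm)) (mem_zpowers s)) s1)) wT w1 (H11.conj_mem_map_conj s wT)
      (hα.conj_not_mem sα w1) (Zm_sq hw ▸ one_mem _) (by rw [conj_mul, Zm_sq hw]; simp)
    have h6 := hα.cit.card_le h5 (U := Zm (H11.cj g β) ⊔ Zm α) (A := Zm α) (t3.pg.to_le (sup_le
      (Zm_le.trans (O_le_syl (t2.cj g))) (Zm_le.trans (O_le_syl t3)))) fun u hu => by
        have a := H11.conj_mem_of_mem_normalizer (le_norm_Zm wα) (H11.conj_mem_of_mem_normalizer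
          (le_norm_Zm (t3.le hs)) (h4 _ (H11.conj_mem_of_mem_normalizer' (h2 hs) hu)))
        have := mul_mem (h4 u hu) a
        convert this using 1
        group
    have h7 : Zm (H11.cj g β) ≤ Zm α := le_sup_left.trans (eq_of_le_of_card_ge le_sup_right h6).ge
    rw [← cj_Zm, H11.cj_le_iff', H11.cj_eq_iff.2 (le_norm_Zm (inv_mem hg))] at h7
    have h8 : T ≤ centralizer (Zm β : Set G) := (c.eq t1 (b2.trans (O_le_syl t2))).le.trans (sup_le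
      (fun y hy v hv => (Zm_comm (c.inf.le ⟨h7 hv, hm (by omega) hp hv⟩).2 (Zm_le hy)).symm)
      fun y hy v hv => (Zm_comm (h7 hv) hy).symm)
    exact hβ.nc (le_antisymm (hβ.cent_Z hβ.cit ▸ h8) (O_le_syl t2) ▸ t2)
  · have hb := a3.1
    have p2 : Zm γ ≤ OpOf 2 α := hm (by omega) p1.symm
    have c2 := hb.crit hγ (by
      rcases p1.symm with _ | ⟨a4, p3⟩
      exact (hm (by omega) (p3.snoc a3.symm).symm).trans a4.symm.le) (p2.trans a3.symm.le) h1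
    obtain ⟨v, hv⟩ := ne_bot_iff_exists_ne_one.1 (c2.ne_bot hb.toML)
    obtain ⟨s, hs, s1⟩ := SetLike.not_le_iff_exists.1 (show ¬ H11.cj g T ≤ OpOf 2 α from fun e =>
      hα.nc (le_antisymm e (O_le_syl t3) ▸ t3))
    refine e (hα.eq_of_comm t3 t1 hs s1 wT w1 (fun e => hv (Subtype.ext e)) (.of_mem Zm_pg v.2.1)
      (mem_cent1.1 ((c2.eq (t2.cj g) (p2.trans (O_le_syl t3))).le.trans (sup_le (fun y hy => mem_cent1.2
        (Zm_comm v.2.2 (Zm_le hy))) fun y hy => mem_cent1.2 (Zm_comm v.2.1 hy)) hs)).symm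
      (Zm_comm v.2.2 (hm (by omega) (.cons a2 (.nil _)) hw)).symm)

end Cfsg.Agent.H4
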