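import Cfsg.Agent.H4.CIT1
import Cfsg.Agent.H11.StrEmb
import Cfsg.Agent.GW.Dih

/-!
# CIT-groups: the rank two configuration and the structure of `2`-local subgroups
-/

set_option autoImplicit false
set_option linter.style.haveILetI false
set_option linter.unusedSectionVars false

namespace Cfsg.Agent.H4

open Subgroup Cfsg.Agent.H10
open Cfsg.Agent.H11 (cj IsSylIn mem_cent1)

universe u

variable {G : Type*} [Group G] [Finite G] {a e f g r s t v w x y : G} {A B H K M M' N P T T' U Y : Subgroup G}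

local notation "𝐎" => OpOf 2

/-- The rank two configuration. -/
structure Cfg (M M' : Subgroup G) : Prop where
  vx : Vx M
  vx' : Vx M'
  ne : M ≠ M'
  z : Zm M = 𝐎 M
  z' : Zm M' = 𝐎 M'
  cr : Crit M M'
  cr' : Crit M' M

theorem Crit.z (c : Crit M M') (c' : Crit M' M) (h : Vx M) (hT : IsSylIn 2 T M) (hT' : IsSylIn 2 T M') :
    Zm M = 𝐎 M := by
  obtain ⟨w, hw, w1⟩ := SetLike.not_le_iff_exists.1 c.nle
  obtain ⟨g, hg, e⟩ := h.exists_ne hT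
  have h1 := card_sq_le (A := 𝐎 M ⊓ 𝐎 M') (g := g) (U := 𝐎 M) inf_le_left (inf_le_left.trans
    ((O_le_syl (hT.cj_of_mem (le_normalizer hg))).trans ((H11.cj_mono g
      (le_normalizer_inf (hT.le.trans le_norm_O) (hT'.le.trans le_norm_O))).trans (H11.cj_normalizer _ _).le)))
    ((H11.cj_mono g inf_le_left).trans (H11.cj_eq_iff.2 (le_norm_O hg)).le)
    (h.inf_cj hT (O_le_syl hT' (Zm_le hw)) w1 hg e OpOf_isPGroup.to_inf_left
      fun v hv => mem_cent1.2 (Zm_comm hw hv.2))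
  have h2 := card_sup_mul_card_inf (((O_le_syl hT).trans hT'.le).trans le_norm_O)
  have h3 := card_sup_mul_card_inf ((Zm_le.trans ((O_le_syl hT).trans hT'.le)).trans le_norm_O)
  have h4 := card_le_of_le (sup_le (O_le_syl hT) (O_le_syl hT'))
  rw [← c'.eq hT' (Zm_le.trans (O_le_syl hT)), c.inf, ← c.card] at h3
  refine eq_of_le_of_card_ge Zm_le ?_
  rw [← c.card]
  have h5 := Nat.card_pos (α := 𝐎 M')
  have h6 := Nat.card_pos (α := 𝐎 M)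
  have h7 := Nat.card_pos (α := ↥(Zm M ⊓ Zm M'))
  generalize Nat.card ↥(Zm M ⊓ Zm M') = q at *
  have h8 : Nat.card T = q * Nat.card (𝐎 M') := Nat.eq_of_mul_eq_mul_right h7 (by rw [h3]; ring)
  have h9 : Nat.card (𝐎 M) ≤ q * Nat.card ↥(𝐎 M ⊓ 𝐎 M') :=
    Nat.le_of_mul_le_mul_right (by rw [← h2]; nlinarith) h5
  nlinarith [Nat.mul_le_mul h9 h9]

theorem Adj.exists_cfg (h : Adj M M') : ∃ M M' : Subgroup G, Cfg M M' := by
  obtain ⟨M, M', h, h1⟩ := h.exists_one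
  obtain ⟨a, b, c, T, d, e⟩ := id h
  have c1 := a.crit b (Zm_le.trans h.le) (Zm_le.trans h.symm.le) h1
  have c2 := b.crit a (Zm_le.trans h.symm.le) (Zm_le.trans h.le) c1.nle
  exact ⟨M, M', a, b, c, c1.z c2 a d e, c2.z c1 b e d, c1, c2⟩

theorem Crit.cj (c : Crit M M') (g : G) : Crit (cj g M) (cj g M') := by
  refine ⟨?_, ?_, fun w hw h1 => ?_, ?_, ?_⟩ <;> simp only [← cj_Zm, ← cj_O, ← H11.cj_inf, ← H11.cj_sup] at *
  exacts [mt (H11.cj_le_cj_iff g).1 c.nle, c.syl.cj g, by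
    rw [← c.cent _ (H11.mem_cj.1 hw) (mt H11.mem_cj.2 h1), H11.cj_inf, H11.cj_cent1]; simp [mul_assoc],
    by rw [c.inf], by rw [H11.card_cj, H11.card_cj, c.card]]

namespace Cfg

variable (h : Cfg M M')
include h

theorem symm : Cfg M' M := ⟨h.vx', h.vx, h.ne.symm, h.z', h.z, h.cr', h.cr⟩

theorem cj (g : G) : Cfg (cj g M) (cj g M') :=
  ⟨h.vx.cj g, h.vx'.cj g, mt (H11.cj_injective g) h.ne, by rw [← cj_Zm, ← cj_O, h.z],
    by rw [← cj_Zm, ← cj_O, h.z'], h.cr.cj g, h.cr'.cj g⟩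

theorem sq (hv : v ∈ 𝐎 M) : v * v = 1 := Zm_sq (h.z.ge hv)
theorem comm (hv : v ∈ 𝐎 M) (hw : w ∈ 𝐎 M) : v * w = w * v := Zm_comm (h.z.ge hw) hv
theorem cent_O : centralizer (𝐎 M : Set G) = 𝐎 M := by
  have := h.vx.cent_Z h.vx.cit; rwa [h.z] at this
theorem syl : IsSylIn 2 (𝐎 M ⊔ 𝐎 M') M := by have := h.cr.syl; rwa [h.z', sup_comm] at this
theorem syl' : IsSylIn 2 (𝐎 M ⊔ 𝐎 M') M' := by rw [sup_comm]; exact h.symm.syl
theorem le : 𝐎 M' ≤ M := le_sup_right.trans h.syl.le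
theorem nle : ∃ w ∈ 𝐎 M', w ∉ 𝐎 M := SetLike.not_le_iff_exists.1 (h.z' ▸ h.cr.nle)
theorem card : Nat.card ↥(𝐎 M ⊓ 𝐎 M') ^ 2 = Nat.card (𝐎 M) := by have := h.cr.card; rwa [h.z, h.z'] at this
theorem ne_bot : 𝐎 M ⊓ 𝐎 M' ≠ ⊥ := by have := h.cr.ne_bot h.vx.toML; rwa [h.z, h.z'] at this

theorem cent (hw : w ∈ 𝐎 M') (h1 : w ∉ 𝐎 M) (hv : v ∈ 𝐎 M) (e : v * w = w * v) : v ∈ 𝐎 M' :=
  Zm_le ((h.cr.cent w (h.z'.ge hw) h1).le ⟨h.z.ge hv, mem_cent1.2 e⟩).2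

theorem exists_comm (hw : w ∈ 𝐎 M') (h1 : w ∉ 𝐎 M) (hy : y ∈ 𝐎 M ⊓ 𝐎 M') :
    ∃ a ∈ 𝐎 M, a * (w * a * w⁻¹) = y :=
  h.z ▸ (h.vx.card_cent (h.le hw) h1 (h.symm.sq hw ▸ one_mem _)).2 y
    ⟨h.z.ge hy.1, mem_cent1.2 (h.symm.comm hy.2 hw)⟩

theorem comm_mem (hv : v ∈ 𝐎 M) (hw : w ∈ 𝐎 M') : v * w * v * w ∈ 𝐎 M ⊓ 𝐎 M' := by
  have h1 := mul_mem hv (H11.conj_mem_of_mem_normalizer (le_norm_O (h.le hw)) hv)
  have h2 := mul_mem (H11.conj_mem_of_mem_normalizer (le_norm_O (h.symm.le hv)) hw) hw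
  rw [inv_eq_of_mul_eq_one_right (h.symm.sq hw), ← mul_assoc, ← mul_assoc] at h1
  rw [inv_eq_of_mul_eq_one_right (h.sq hv)] at h2
  exact ⟨h1, h2⟩

theorem mem_T (hx : x ∈ 𝐎 M ⊔ 𝐎 M') : ∃ a ∈ 𝐎 M, ∃ b ∈ 𝐎 M', a * b = x :=
  (mem_sup_iff_of_right_le_normalizer (h.le.trans le_norm_O)).1 hx

theorem centT (hw : w ∈ 𝐎 M') (h1 : w ∉ 𝐎 M) (hx : x ∈ 𝐎 M ⊔ 𝐎 M') (e : x * w = w * x) : x ∈ 𝐎 M' := by
  obtain ⟨a, ha, b, hb, rfl⟩ := h.mem_T hx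
  rw [mul_assoc, h.symm.comm hb hw, ← mul_assoc, ← mul_assoc] at e
  exact mul_mem (h.cent hw h1 ha (mul_right_cancel e)) hb

theorem centR (hv : v ∈ 𝐎 M ⊓ 𝐎 M') : 𝐎 M ⊔ 𝐎 M' ≤ centralizer {v} :=
  sup_le (fun _ hx => mem_cent1.2 (h.comm hx hv.1)) fun _ hx => mem_cent1.2 (h.symm.comm hx hv.2)

theorem invol (hx : x ∈ 𝐎 M ⊔ 𝐎 M') (e : x * x = 1) : x ∈ 𝐎 M ∨ x ∈ 𝐎 M' := by
  obtain ⟨a, ha, b, hb, rfl⟩ := h.mem_T hx
  by_cases h1 : b ∈ 𝐎 M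
  · exact .inl (mul_mem ha h1)
  refine .inr (mul_mem (h.cent hb h1 ha ?_) hb)
  rw [← inv_eq_of_mul_eq_one_right e, mul_inv_rev, inv_eq_of_mul_eq_one_right (h.sq ha),
    inv_eq_of_mul_eq_one_right (h.symm.sq hb)]

theorem normT (hg : g ∈ M) (e : H11.cj g (𝐎 M ⊔ 𝐎 M') = 𝐎 M ⊔ 𝐎 M') : g ∈ M' := by
  obtain ⟨w, hw, h1⟩ := h.nle
  have h2 := fun v (hv : v ∈ 𝐎 M') => e.le (H11.conj_mem_map_conj g (mem_sup_right hv))
  have h3 := h.vx.conj_not_mem hg h1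
  exact h.vx'.norm_O.le (H11.mem_normalizer_of_forall fun v hv => h.centT ((h.invol (h2 w hw)
    (by rw [conj_mul, h.symm.sq hw]; simp)).resolve_left h3) h3 (h2 v hv)
    (by rw [conj_mul, conj_mul, h.symm.comm hv hw]))

theorem cj_T (hg : g ∈ M) (hg' : g ∈ M') : H11.cj g (𝐎 M ⊔ 𝐎 M') = 𝐎 M ⊔ 𝐎 M' := by
  rw [H11.cj_sup, H11.cj_eq_iff.2 (le_norm_O hg), H11.cj_eq_iff.2 (le_norm_O hg')]

theorem exists_not_mem : ∃ g ∈ M, g ∉ M' :=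
  let ⟨g, hg, e⟩ := h.vx.exists_ne h.syl; ⟨g, hg, fun e' => e (h.cj_T hg e')⟩

theorem inf_cj (hg : g ∈ M) (h1 : g ∉ M') (hv : v ∈ 𝐎 M ⊓ 𝐎 M') (h2 : v ∈ 𝐎 (H11.cj g M')) : v = 1 := by
  obtain ⟨w, hw, w1⟩ := h.nle
  refine mem_bot.1 ((h.vx.inf_cj h.syl (mem_sup_right hw) w1 hg (mt (h.normT hg) h1)
    OpOf_isPGroup.to_inf_left fun v hv => mem_cent1.2 (h.symm.comm hv.2 hw)).le ⟨hv, ?_⟩)
  rw [H11.cj_inf, H11.cj_eq_iff.2 (le_norm_O hg), cj_O]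
  exact ⟨hv.1, h2⟩

theorem cfg_cj (hg : g ∈ M) : Cfg M (H11.cj g M') := by
  have := h.cj g; rwa [H11.cj_eq_of_mem hg] at this

theorem not_e2 (hg : g ∈ M) (h1 : g ∉ M') (hw : w ∈ 𝐎 M') (w1 : w ∉ 𝐎 M) (hx : x ∈ 𝐎 (H11.cj g M'))
    (x1 : x ∉ 𝐎 M) : ¬ E2 (w * x) :=
  h.vx.not_e2 h.syl (h.cfg_cj hg).syl (fun e => h1 (h.normT hg (by
    rw [H11.cj_sup, H11.cj_eq_iff.2 (le_norm_O hg), cj_O, e]))) (mem_sup_right hw) w1 (mem_sup_right hx) x1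
    (h.symm.sq hw ▸ one_mem _) ((h.cfg_cj hg).symm.sq hx ▸ one_mem _)

theorem odd_mul (hg : g ∈ M) (h1 : g ∉ M') (hw : w ∈ 𝐎 M') (w1 : w ∉ 𝐎 M) (hx : x ∈ 𝐎 (H11.cj g M'))
    (x1 : x ∉ 𝐎 M) : Odd (orderOf (w * x)) := by
  by_contra e
  obtain ⟨a, b, c⟩ := H11.half_pow_commute (orderOf_pos _) (h.symm.sq hw) ((h.cfg_cj hg).symm.sq hx)
    (Nat.not_odd_iff_even.1 e)
  exact h1 (h.normT hg (by
    rw [H11.cj_sup, H11.cj_eq_iff.2 (le_norm_O hg), cj_O]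
    exact h.vx.eq_of_comm (h.cfg_cj hg).syl h.syl (mem_sup_right hx) x1 (mem_sup_right hw) w1
      (H11.ne_one_of_orderOf_two a) (.of_sq (H11.mul_self_of_orderOf_two a)) c b))

theorem mem_of_conj (hg : g ∈ M) (hw : w ∈ 𝐎 M ⊔ 𝐎 M') (w1 : w ∉ 𝐎 M) (e : g * w * g⁻¹ ∈ 𝐎 M ⊔ 𝐎 M') :
    g ∈ M' :=
  h.normT hg (h.vx.eq (h.syl.cj_of_mem (le_normalizer hg)) h.syl (H11.conj_mem_map_conj g hw) e
    (h.vx.conj_not_mem hg w1))

theorem trans (hw : w ∈ 𝐎 M') (w1 : w ∉ 𝐎 M) (hx : x ∈ 𝐎 M') (x1 : x ∉ 𝐎 M) :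
    ∃ b ∈ M ⊓ M', b * w * b⁻¹ = x := by
  obtain ⟨g, hg, h1⟩ := h.exists_not_mem
  have h2 : g * w * g⁻¹ ∈ 𝐎 (H11.cj g M') := cj_O g ▸ H11.conj_mem_map_conj g hw
  have h3 := h.vx.conj_not_mem hg w1
  obtain ⟨m, hm⟩ := H11.exists_pow_conj_of_odd (h.symm.sq hx) ((h.cfg_cj hg).symm.sq h2)
    (h.odd_mul hg h1 hx x1 h2 h3)
  have h4 := mul_mem (inv_mem (pow_mem (mul_mem (h.le hx) ((h.cfg_cj hg).le h2)) m)) hg
  have h5 : ((x * (g * w * g⁻¹)) ^ m)⁻¹ * g * w * (((x * (g * w * g⁻¹)) ^ m)⁻¹ * g)⁻¹ = x := by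
    rw [mul_inv_rev, mul_assoc, mul_assoc, ← mul_assoc w, ← mul_assoc g, ← mul_assoc g]
    nth_rw 2 [← hm]
    group
  exact ⟨_, ⟨h4, h.mem_of_conj h4 (mem_sup_right hw) w1 (h5.symm ▸ mem_sup_right hx)⟩, h5⟩

theorem conj (hv : v ∈ 𝐎 M) (v1 : v ≠ 1) (hw : w ∈ 𝐎 M) (w1 : w ≠ 1) : ∃ m ∈ M, m * v * m⁻¹ = w := by
  obtain ⟨g, hg, h1⟩ := h.exists_not_mem
  have key : ∀ v ∈ 𝐎 M, v ≠ 1 → ∃ m ∈ M, m * v * m⁻¹ ∉ 𝐎 M' := fun v hv v1 => by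
    by_cases e : v ∈ 𝐎 M'
    · exact ⟨g, hg, fun e' => v1 (conj_eq_one_iff.1 (h.inf_cj hg h1 ⟨H11.conj_mem_of_mem_normalizer
        (le_norm_O hg) hv, e'⟩ (cj_O g ▸ H11.conj_mem_map_conj g e)))⟩
    · exact ⟨1, one_mem _, by simpa⟩
  obtain ⟨m, hm, e⟩ := key v hv v1
  obtain ⟨n, hn, e'⟩ := key w hw w1
  obtain ⟨b, hb, e''⟩ := h.symm.trans (H11.conj_mem_of_mem_normalizer (le_norm_O hm) hv) e
    (H11.conj_mem_of_mem_normalizer (le_norm_O hn) hw) e'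
  exact ⟨n⁻¹ * b * m, mul_mem (mul_mem (inv_mem hn) hb.2) hm, by
    rw [← inv_mul_cancel_left n w, ← mul_inv_cancel_right (n * w) n⁻¹, ← e'']; group⟩

theorem three (hg : g ∈ M) (h1 : g ∉ M') (he : e ∈ 𝐎 M') (e1 : e ∉ 𝐎 M) (hA : A ≤ 𝐎 (H11.cj g M'))
    (hA' : 𝐎 (H11.cj g M') ≤ A ⊔ 𝐎 M) : ∃ f ∈ A, f ∉ 𝐎 M ∧ (e * f) ^ 3 = 1 := by
  have h' := h.cfg_cj hg
  obtain ⟨⟨r, hr⟩, r1⟩ := ne_bot_iff_exists_ne_one.1 h'.ne_bot
  replace r1 : r ≠ 1 := fun e => r1 (Subtype.ext e)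
  have h2 := h.comm_mem hr.1 he
  have h3 : r * e * r * e ≠ 1 := fun e' => r1 (h.inf_cj hg h1 ⟨hr.1, h.cent he e1 hr.1 (by
    rw [eq_inv_of_mul_eq_one_left ((mul_assoc _ _ _).symm.trans e'), mul_inv_rev,
      inv_eq_of_mul_eq_one_right (h.sq hr.1), inv_eq_of_mul_eq_one_right (h.symm.sq he)])⟩ hr.2)
  set c := r * e * r * e with hc
  obtain ⟨a, ha, h4⟩ := h'.symm.exists_comm h2.1 (fun e => h3 (h.inf_cj hg h1 h2 e)) ⟨hr.2, hr.1⟩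
  obtain ⟨f, hf, b, hb, rfl⟩ := (mem_sup_iff_of_left_le_normalizer (hA.trans (h'.le.trans le_norm_O))).1 (hA' ha)
  have ff := h'.symm.sq (hA hf)
  have ee := h.symm.sq he
  have h5 : f * c * f⁻¹ = r * c := by
    rw [← h4, mul_assoc (f * b), inv_mul_cancel_right, ← mul_assoc (f * b)]
    nth_rw 2 [← inv_eq_of_mul_eq_one_right (h'.symm.sq ha)]
    rw [mul_assoc f b, h.comm hb h2.1]; group
  have f1 : f ∉ 𝐎 M := fun e => r1 (by rwa [h.comm e h2.1, mul_inv_cancel_right, eq_comm, mul_eq_right] at h5)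
  have h6 : f * r * f⁻¹ = r := by rw [h'.symm.comm (hA hf) hr.2, mul_inv_cancel_right]
  have h7 : e * r * e⁻¹ = r * c := by
    rw [hc, inv_eq_of_mul_eq_one_right ee, ← mul_assoc, ← mul_assoc, ← mul_assoc, h.sq hr.1, one_mul]
  have h8 : e * c * e⁻¹ = c := by rw [h.symm.comm he h2.2, mul_inv_cancel_right]
  have h9 : e * f * r * (e * f)⁻¹ = r * c := by rw [← h7, ← h6, h6]; nth_rw 2 [← h6]; group
  have h10 : e * f * c * (e * f)⁻¹ = r := by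
    rw [show e * f * c * (e * f)⁻¹ = e * (f * c * f⁻¹) * e⁻¹ by group, h5, ← conj_mul, h7, h8, mul_assoc,
      h.sq h2.1, mul_one]
  refine ⟨f, hf, f1, (h.vx.cit.e2 r1 (.of_sq (h.sq hr.1)) (mul_inv_eq_iff_eq_mul.1 ?_)).eq_one
    (H11.odd_orderOf_pow (h.odd_mul hg h1 he e1 (hA hf) f1) 3)⟩
  generalize e * f = x at h9 h10
  rw [show x ^ 3 * r * (x ^ 3)⁻¹ = x * (x * (x * r * x⁻¹) * x⁻¹) * x⁻¹ by rw [pow_three]; group, h9,
    ← conj_mul (a := r), h9, h10, h.comm hr.1 h2.1, mul_assoc c, h.sq hr.1, mul_one, h10]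

theorem not_mem_cj (hg : g ∈ M) (h1 : g ∉ M') (hf : f ∈ 𝐎 (H11.cj g M')) (f1 : f ∉ 𝐎 M) : f ∉ M' := fun e => by
  have h2 := (h.cfg_cj hg).le hf
  refine h1 (h.normT hg ?_)
  rw [H11.cj_sup, H11.cj_eq_iff.2 (le_norm_O hg), cj_O]
  exact h.vx.eq (h.cfg_cj hg).syl h.syl (mem_sup_right hf) (h.syl.le_of_normalizes
    (E2.of_mem OpOf_isPGroup hf).pg (zpowers_le.2 h2) (zpowers_le.2 (H11.cj_eq_iff.1 (h.cj_T h2 e)))
    (mem_zpowers f)) f1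

theorem exists_three : ∃ x ∈ M, x ∉ M' ∧ x ^ 3 = 1 ∧ ¬ E2 x := by
  obtain ⟨g, hg, h1⟩ := h.exists_not_mem
  obtain ⟨e, he, e1⟩ := h.nle
  obtain ⟨f, hf, f1, h2⟩ := h.three hg h1 he e1 le_rfl le_sup_left
  exact ⟨e * f, mul_mem (h.le he) ((h.cfg_cj hg).le hf), fun e' => h.not_mem_cj hg h1 hf f1
    ((mul_mem_cancel_left (OpOf_le he)).1 e'), h2, h.not_e2 hg h1 he e1 hf f1⟩

theorem no_act {W : Type*} [Group W] [Nontrivial W] (hW : ∀ w : W, w * w = 1) (ρ : G →* MulAut W)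
    (hρ : ∀ g w, w ≠ 1 → ρ g w = w → E2 g) : False := by
  have hc : ∀ a b : W, a * b = b * a := fun a b =>
    H11.comm_of_sq_eq_one (V := ⊤) (fun a _ => hW a) (mem_top a) (mem_top b)
  have hm : ∀ a b w, ρ (a * b) w = ρ a (ρ b w) := fun a b w => by rw [map_mul]; rfl
  have h3 : ∀ x, ¬ E2 x → x ^ 3 = 1 → ∀ w, w * ρ x w * ρ x (ρ x w) = 1 := fun x hx e w => by_contra fun e' =>
    hx (hρ x _ e' (by
      rw [map_mul, map_mul, ← hm, ← hm, ← pow_three, e, map_one, MulAut.one_apply, hc _ w, mul_assoc]))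
  have key : ∀ {M M' : Subgroup G}, Cfg M M' → ∃ x ∈ M, x ∉ M' ∧ ∀ a ∈ 𝐎 M, ∀ w, ρ a w = w →
      ρ a (ρ x w) = ρ x w := fun {M M'} h => by
    obtain ⟨x, hx, x1, x2, x3⟩ := h.exists_three
    refine ⟨x, hx, x1, fun a ha w e => ?_⟩
    have h4 : (x * a) ^ 3 = 1 := by
      have := h.vx.cit.three (fun _ => h.sq) x3 (le_norm_O hx) (by rw [← pow_three', x2]; exact one_mem _) ha
      rw [show (x * a) ^ 3 = a⁻¹ * (a * (x * a * x⁻¹) * (x * (x * a * x⁻¹) * x⁻¹)) * x ^ 3 * a by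
        simp only [pow_three]; group, this, x2]
      group
    have h5 := h3 (x * a) (fun e' => x3 (by
      rw [eq_inv_of_mul_eq_one_left (e'.eq_one (Odd.of_dvd_nat (by decide) (orderOf_dvd_of_pow_eq_one h4)))]
      exact .of_mem OpOf_isPGroup (inv_mem ha))) h4 w
    rw [hm, e, hm, ← h3 x x3 x2 w] at h5
    exact (ρ x).injective (mul_left_cancel h5)
  obtain ⟨x, hx, x1, k1⟩ := key h
  obtain ⟨y, hy, y1, k2⟩ := key h.symm
  obtain ⟨⟨z, hz⟩, z1⟩ := ne_bot_iff_exists_ne_one.1 h.ne_bot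
  obtain ⟨w, w1, hw⟩ : ∃ w, w ≠ 1 ∧ ρ z w = w := by
    obtain ⟨w, w1⟩ := exists_ne (1 : W)
    by_cases e : w * ρ z w = 1
    · exact ⟨w, w1, mul_left_cancel (e.trans (hW w).symm)⟩
    · exact ⟨_, e, by rw [map_mul, ← hm, h.sq hz.1, map_one, MulAut.one_apply, hc]⟩
  have h4 : ∀ w, ρ z w = w → ρ (x⁻¹ * z * x⁻¹⁻¹) w = w := fun w e => by
    rw [inv_inv, hm, hm, k1 z hz.1 w e, ← hm, inv_mul_cancel, map_one, MulAut.one_apply]
  have h5 := H11.conj_mem_of_mem_normalizer (le_norm_O (inv_mem hx)) hz.1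
  have h6 : x⁻¹ * z * x⁻¹⁻¹ ∉ 𝐎 M' := fun e => z1 (Subtype.ext (conj_eq_one_iff.1 (h.inf_cj (inv_mem hx)
    (mt inv_mem_iff.1 x1) ⟨h5, e⟩ (cj_O x⁻¹ ▸ H11.conj_mem_map_conj _ hz.2))))
  refine h.symm.not_e2 (inv_mem hy) (mt inv_mem_iff.1 y1) h5 h6 (cj_O y⁻¹ ▸ H11.conj_mem_map_conj _ h5)
    (h.vx'.conj_not_mem (inv_mem hy) h6) (hρ _ w w1 ?_)
  generalize x⁻¹ * z * x⁻¹⁻¹ = a at *
  rw [hm, hm, hm, inv_inv y, h4 _ (k2 z hz.2 w hw), ← hm y⁻¹, inv_mul_cancel, map_one, MulAut.one_apply, h4 w hw]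

end Cfg

theorem Vx.exists_invol (h : Vx M) : ∃ n ∈ M, n ∉ 𝐎 M ∧ orderOf n = 2 := by
  obtain ⟨T, hT⟩ := H11.exists_isSylIn 2 M
  obtain ⟨t, ht, t1, -, t2⟩ := H11.exists_mem_normalizer_pow_mem hT.pg ((O_le_syl hT).lt_of_ne fun e => h.nc (e ▸ hT))
  obtain ⟨g, hg, e⟩ := h.exists_ne hT
  rw [sq] at t2
  have h1 : g * t * g⁻¹ * (g * t * g⁻¹) ∈ 𝐎 M := by
    rw [conj_mul]; exact H11.conj_mem_of_mem_normalizer (le_norm_O hg) t2
  have h2 := h.not_e2 hT (hT.cj_of_mem (le_normalizer hg)) e.symm ht t1 (H11.conj_mem_map_conj g ht)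
    (h.conj_not_mem hg t1) t2 h1
  have h3 := mul_mem (hT.le ht) (mul_mem (mul_mem hg (hT.le ht)) (inv_mem hg))
  generalize g * t * g⁻¹ = s at *
  obtain ⟨u, hu, h4⟩ := h.cit.surj (x := (t * s)⁻¹) (fun ⟨k, e⟩ => h2 ⟨k, by rwa [inv_pow, inv_eq_one] at e⟩)
    OpOf_isPGroup (le_norm_O (inv_mem h3)) (mul_mem t2 h1)
  have h5 : u * t * (t * s) * (u * t)⁻¹ = (t * s)⁻¹ := by
    rw [show u * t * (t * s) * (u * t)⁻¹ = u * (t * t * (s * s)) * (t * s)⁻¹ * u⁻¹ by group, ← h4]; group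
  have h6 : u * t ∉ 𝐎 M := fun e => t1 ((mul_mem_cancel_left hu).1 e)
  refine ⟨u * t, mul_mem (OpOf_le hu) (hT.le ht), h6, orderOf_eq_prime (by_contra fun e => h2 (h.cit.e2 e
    (.of_mem (P := 𝐎 M) OpOf_isPGroup ?_) (mul_inv_eq_iff_eq_mul.1 ?_).symm)) fun e => h6 (e ▸ one_mem _)⟩
  · rw [show (u * t) ^ 2 = u * (t * u * t⁻¹) * (t * t) by rw [sq]; group]
    exact mul_mem (mul_mem hu (H11.conj_mem_of_mem_normalizer (le_norm_O (hT.le ht)) hu)) t2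
  · rw [show (u * t) ^ 2 * (t * s) * ((u * t) ^ 2)⁻¹ = u * t * (u * t * (t * s) * (u * t)⁻¹) * (u * t)⁻¹ by
      rw [sq]; group, h5, ← conj_inv, h5, inv_inv]

theorem CIT.ti_or (h : CIT G) (h0 : 𝐎 (⊤ : Subgroup G) = ⊥) (h1 : ∀ M : Subgroup G, ML M → TI2 M) :
    TI2 (⊤ : Subgroup G) ∨ ∃ M M' : Subgroup G, Cfg M M' := by
  refine or_iff_not_imp_right.2 fun h2 S S' hS hS' ne => by_contra fun e => ?_
  have ad : ∀ {M M' T : Subgroup G}, Vx M → Vx M' → IsSylIn 2 T M → IsSylIn 2 T M' → M = M' :=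
    fun a b c d => by_contra fun e => h2 (Adj.exists_cfg ⟨a, b, e, _, c, d⟩)
  have vx : ∀ {M : Subgroup G}, ML M → ¬ IsSylIn 2 (𝐎 M) M → Vx M := fun a b => ⟨a, h, h1 _ a, b⟩
  have h3 : ∀ {M T : Subgroup G}, ML M → IsSylIn 2 T M → normalizer (T : Set G) ≤ M := fun {M T} a b g hg => by
    by_cases c : IsSylIn 2 (𝐎 M) M
    · rwa [c.eq b.pg (O_le_syl b) b.le, a.norm_O] at hg
    · exact a.norm.le (H11.cj_eq_iff.1 (ad ((vx a c).cj g) (vx a c) (H11.cj_eq_iff.2 hg ▸ b.cj g) b))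
  have h4 : ∀ {M M' T : Subgroup G}, ML M → ML M' → IsSylIn 2 T M → IsSylIn 2 T M' → M = M' := by
    have key : ∀ {M M' T : Subgroup G}, ML M → ML M' → IsSylIn 2 T M → IsSylIn 2 T M' →
        IsSylIn 2 (𝐎 M) M → M' = M := fun a b c d e => by
      rw [← b.norm_O]
      refine a.max _ OpOf_isPGroup b.ne (le_trans ?_ ((h3 b d).trans le_norm_O))
      rw [e.eq c.pg (O_le_syl c) c.le, a.norm_O]
    intro M M' T a b c d
    by_cases e : IsSylIn 2 (𝐎 M) M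
    · exact (key a b c d e).symm
    by_cases e' : IsSylIn 2 (𝐎 M') M'
    · exact key b a d c e'
    exact ad (vx a e) (vx b e') c d
  have h5 : ∀ (n : ℕ) {M M' P : Subgroup G}, Nat.card G - Nat.card P < n → ML M → ML M' → IsPGroup 2 P →
      P ≠ ⊥ → P ≤ M → P ≤ M' → M = M' := by
    intro n
    induction n with
    | zero => exact fun a => absurd a (Nat.not_lt_zero _)
    | succ n ih =>
      intro M M' P a b c d e f g
      obtain ⟨K, hK, k⟩ := exists_ml d e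
      have key : ∀ {M : Subgroup G}, ML M → P ≤ M → M = K := fun {M} b f => by
        by_cases c : IsSylIn 2 P M
        · exact h4 b hK c (c.of_normalizer_le (le_normalizer.trans k) fun x _ hx => h3 b c hx)
        obtain ⟨Q, q1, q2, q3, q4⟩ := H11.exists_lt_normalizer_of_not_isSylIn d f c
        have := H11.card_lt_of_lt q2
        have := Q.card_le_card_group
        exact ih (by omega) b hK q1 (fun e' => not_lt_bot (e' ▸ q2)) q3 (q4.trans k)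
      exact (key b f).trans (key c g).symm
  replace h5 : ∀ {M M' P : Subgroup G}, ML M → ML M' → IsPGroup 2 P → P ≠ ⊥ → P ≤ M → P ≤ M' → M = M' :=
    h5 _ (Nat.lt_succ_self _)
  replace e : S ⊓ S' ≠ ⊥ := fun e' => e (e'.le.trans bot_le)
  obtain ⟨M, hM, m1⟩ := exists_ml hS.pg fun e' => e (by rw [e', bot_inf_eq])
  obtain ⟨M', hM', m2⟩ := exists_ml hS'.pg fun e' => e (by rw [e', inf_bot_eq])
  obtain rfl := h5 hM hM' hS.pg.to_inf_left e (inf_le_left.trans (le_normalizer.trans m1))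
    (inf_le_right.trans (le_normalizer.trans m2))
  have s1 := hS.of_le (le_normalizer.trans m1) le_top
  have s2 := hS'.of_le (le_normalizer.trans m2) le_top
  obtain ⟨n, n1, n2, n3⟩ := (vx hM fun c =>
    ne ((c.eq s1.pg (O_le_syl s1) s1.le).trans (c.eq s2.pg (O_le_syl s2) s2.le).symm)).exists_invol
  obtain ⟨z, z1, z2, -⟩ := H11.exists_orderOf_eq_centralizer_of_normalized (p := 2) OpOf_isPGroup
    OpOf_isPGroup hM.ne le_normalizer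
  obtain ⟨m, hm, rfl⟩ := H11.SE.exists_conj_eq ((H11.isStronglyEmbedded_iff (H := M)).2 ⟨fun c => hM.ne (by rw [c, h0]),
    even_iff_two_dvd.2 (z2 ▸ Subgroup.orderOf_dvd_natCard _ (OpOf_le z1)), fun t ht t2 g hg =>
      hM.norm.le (H11.cj_eq_iff.1 (h5 (hM.cj g) hM (isPGroup_zpowers (by rw [H11.orderOf_conj, t2]))
        (fun c => H11.ne_one_of_orderOf_two t2 (conj_eq_one_iff.1 (zpowers_eq_bot.1 c)))
        (zpowers_le.2 (H11.conj_mem_map_conj g ht)) (zpowers_le.2 hg)))⟩) (OpOf_le z1) z2 n1 n3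
  exact n2 (H11.conj_mem_of_mem_normalizer (le_norm_O hm) z1)

theorem CIT.ti_aux (n : ℕ) : ∀ {G : Type u} [Group G] [Finite G], CIT G → ∀ M : Subgroup G,
    Nat.card M < n → 𝐎 M ≠ ⊥ → TI2 M := by
  induction n with
  | zero => exact fun _ _ a => absurd a (Nat.not_lt_zero _)
  | succ n ih =>
  intro G _ _ h M h1 h2
  have h3 : CIT (M ⧸ pCore 2 M) := (h.of_inj M.subtype M.subtype_injective).quot (pCore_isPGroup' 2 M)
  have h4 : 𝐎 (⊤ : Subgroup (M ⧸ pCore 2 M)) = ⊥ := by rw [OpOf_top, pCore_quotient_pCore]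
  have h5 : Nat.card (M ⧸ pCore 2 M) < n := by
    have a := (pCore 2 M).card_mul_index
    have b := (one_lt_card_iff_ne_bot (pCore 2 M)).2 fun e => h2 (by rw [OpOf_def, e, Subgroup.map_bot])
    have := Nat.pos_of_ne_zero (pCore 2 M).index_ne_zero_of_finite
    rw [← index_eq_card]; nlinarith
  rcases h3.ti_or h4 fun K hK => ih h3 K (K.card_le_card_group.trans_lt h5) hK.ne with h6 | ⟨K, K', h6⟩
  · intro T T' a b c
    obtain ⟨S, rfl⟩ := a.exists_sylow'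
    obtain ⟨S', rfl⟩ := b.exists_sylow'
    have k := fun S : Sylow 2 M => GW.sylIn_map (H11.isSylIn_top S) (QuotientGroup.mk' (pCore 2 M))
    have k' : ∀ S : Sylow 2 M, ((S : Subgroup M).map (QuotientGroup.mk' (pCore 2 M))).comap
        (QuotientGroup.mk' (pCore 2 M)) = S := fun S => by
      rw [comap_map_eq, QuotientGroup.ker_mk', sup_eq_left, ← OpOf_top]; exact O_le_syl (H11.isSylIn_top S)
    simp only [map_top_of_surjective _ (QuotientGroup.mk'_surjective _)] at k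
    have := comap_mono (f := QuotientGroup.mk' (pCore 2 M)) (h6 _ _ (k S) (k S') fun e => c (by
      rw [← k' S, e, k']))
    rw [comap_inf, k', k', h4, MonoidHom.comap_bot, QuotientGroup.ker_mk'] at this
    rw [← map_inf _ _ _ M.subtype_injective, OpOf_def]
    exact map_mono this
  haveI := (Zm M).nontrivial_iff_ne_bot.2 (Zm_ne h2)
  refine (h6.no_act (W := Zm M) (fun w => Subtype.ext (Zm_sq w.2)) (QuotientGroup.lift _
    ((Zm M).normalizerMonoidHom.comp (inclusion le_norm_Zm)) fun x hx => MulEquiv.ext fun w => Subtype.ext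
      (mul_inv_eq_iff_eq_mul.2 (Zm_comm w.2 (mem_map_of_mem _ hx)))) fun g w w1 e => ?_).elim
  obtain ⟨g, rfl⟩ := QuotientGroup.mk_surjective g
  obtain ⟨k, hk⟩ := h.e2 (x := (g : G)) (a := (w : G)) (fun e => w1 (Subtype.ext e)) (.of_sq (Zm_sq w.2))
    (mul_inv_eq_iff_eq_mul.1 (congrArg Subtype.val e))
  exact ⟨k, by rw [← QuotientGroup.mk_pow, show g ^ 2 ^ k = 1 from Subtype.ext hk]; rfl⟩

/-- In a CIT-group, the Sylow `2`-subgroups of a `2`-local subgroup are TI modulo `O₂`. -/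
theorem CIT.ti (h : CIT G) (h1 : 𝐎 M ≠ ⊥) : TI2 M := CIT.ti_aux _ h M (Nat.lt_succ_self _) h1

theorem CIT.main (h : CIT G) (h0 : 𝐎 (⊤ : Subgroup G) = ⊥) :
    TI2 (⊤ : Subgroup G) ∨ ∃ M M' : Subgroup G, Cfg M M' := h.ti_or h0 fun _ hM => h.ti hM.ne

end Cfsg.Agent.H4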