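import Cfsg.Agent.H4.CIT2

/-!
# CIT-groups: the projective plane of the rank two configuration
-/

set_option autoImplicit false
set_option linter.style.haveILetI false
set_option linter.unusedSectionVars false

namespace Cfsg.Agent.H4

open Subgroup Cfsg.Agent.H10
open Cfsg.Agent.H11 (cj IsSylIn mem_cent1)

variable {G : Type*} [Group G] [Finite G] {a e f g r s t v w x y : G} {A E K K' L M M' S Y : Subgroup G}

local notation "𝐎" => OpOf 2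

theorem CIT.exists_inv (h : CIT G) (hA : IsPGroup 2 A) (ht : t ∈ normalizer (A : Set G))
    (hs : s ∈ normalizer (A : Set G)) (t2 : t * t ∈ A) (s2 : s * s ∈ A) (h2 : ¬ E2 (t * s)) :
    ∃ u ∈ A, u * t * (u * t) = 1 ∧ u * t * (t * s) * (u * t)⁻¹ = (t * s)⁻¹ := by
  obtain ⟨u, hu, h4⟩ := h.surj (x := (t * s)⁻¹) (fun ⟨k, e⟩ => h2 ⟨k, by rwa [inv_pow, inv_eq_one] at e⟩)
    hA (inv_mem (mul_mem ht hs)) (mul_mem t2 s2)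
  have h5 : u * t * (t * s) * (u * t)⁻¹ = (t * s)⁻¹ := by
    rw [show u * t * (t * s) * (u * t)⁻¹ = u * (t * t * (s * s)) * (t * s)⁻¹ * u⁻¹ by group, ← h4]; group
  refine ⟨u, hu, by_contra fun e => h2 (h.e2 e (.of_mem hA ?_) (mul_inv_eq_iff_eq_mul.1 ?_).symm), h5⟩
  · rw [show u * t * (u * t) = u * (t * u * t⁻¹) * (t * t) by group]
    exact mul_mem (mul_mem hu (H11.conj_mem_of_mem_normalizer ht hu)) t2
  · rw [show u * t * (u * t) * (t * s) * (u * t * (u * t))⁻¹ = u * t * (u * t * (t * s) * (u * t)⁻¹) * (u * t)⁻¹ by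
      group, h5, ← conj_inv, h5, inv_inv]

theorem mem_O_cj (g : G) (hv : v ∈ 𝐎 M) : g * v * g⁻¹ ∈ 𝐎 (cj g M) := cj_O g ▸ H11.conj_mem_map_conj g hv

theorem card_O_cj (g : G) (M : Subgroup G) : Nat.card (𝐎 (cj g M)) = Nat.card (𝐎 M) := by
  rw [← cj_O, H11.card_cj]

namespace Cfg

variable (h : Cfg M M')
include h

theorem card_eq : Nat.card (𝐎 M) = Nat.card (𝐎 M') := by rw [← h.card, ← h.symm.card, inf_comm]

theorem mem_iff : g ∈ M ↔ H11.cj g M = M := by rw [H11.cj_eq_iff, h.vx.norm]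

theorem exists_R : ∃ r ∈ 𝐎 M ⊓ 𝐎 M', r ≠ 1 :=
  let ⟨r, e⟩ := ne_bot_iff_exists_ne_one.1 h.ne_bot; ⟨r, r.2, fun e' => e (Subtype.ext e')⟩

theorem eq_of_le (k : Cfg K K') (hK : 𝐎 K ≤ 𝐎 M) : K = M := by
  rw [← k.vx.norm_O, ← h.vx.norm_O, le_antisymm hK (k.cent_O ▸ fun _ hx _ hy => h.comm (hK hy) hx)]

theorem eq_or (k : Cfg K K') (hK : 𝐎 K ≤ 𝐎 M ⊔ 𝐎 M') : K = M ∨ K = M' := by
  refine or_iff_not_imp_left.2 fun e => h.symm.eq_of_le k fun v hv => ?_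
  obtain ⟨w, hw, w1⟩ := SetLike.not_le_iff_exists.1 (mt (h.eq_of_le k) e)
  exact h.centT ((h.invol (hK hw) (k.sq hw)).resolve_left w1) w1 (hK hv) (k.comm hv hw)

theorem cj_sup (g : G) : H11.cj g (𝐎 M ⊔ 𝐎 M') = 𝐎 (H11.cj g M) ⊔ 𝐎 (H11.cj g M') := by
  rw [H11.cj_sup, cj_O, cj_O]

theorem exists_cj (k : Cfg M K) : ∃ g ∈ M, H11.cj g M' = K := by
  obtain ⟨g, hg, e⟩ := h.syl.exists_cj_eq k.syl
  refine ⟨g, hg, (k.eq_or (h.cfg_cj hg).symm (by rw [← e, h.cj_sup]; exact le_sup_right)).resolve_left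
    (h.cfg_cj hg).ne.symm⟩

theorem eq_of_mem (k : Cfg M K) (hv : v ∈ 𝐎 M ⊓ 𝐎 M') (h1 : v ∈ 𝐎 K) (v1 : v ≠ 1) : M' = K := by
  obtain ⟨g, hg, rfl⟩ := h.exists_cj k
  exact by_contra fun e => v1 (h.inf_cj hg (fun e' => e (H11.cj_eq_of_mem e').symm) hv h1)

theorem mem_O (k : Cfg M K) (ne : M' ≠ K) (hf : f ∈ 𝐎 K) (h1 : f ∈ M') : f ∈ 𝐎 M := by
  obtain ⟨g, hg, rfl⟩ := h.exists_cj k
  exact by_contra fun e => h.not_mem_cj hg (fun e' => ne (H11.cj_eq_of_mem e').symm) hf e h1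

theorem uniq (k : Cfg M K) (h' : Cfg L M') (k' : Cfg L K) (ne : L ≠ M) : M' = K :=
  let ⟨_, hr, r1⟩ := h.exists_R
  h.eq_of_mem k hr (k'.symm.mem_O k.symm ne hr.1 (h'.le hr.2)) r1

theorem mem_sup (k : Cfg M K) (ne : M' ≠ K) (hv : v ∈ 𝐎 M) :
    ∃ a ∈ 𝐎 M ⊓ 𝐎 M', ∃ b ∈ 𝐎 M ⊓ 𝐎 K, a * b = v := by
  have h1 : 𝐎 M ⊓ 𝐎 M' ≤ normalizer ((𝐎 M ⊓ 𝐎 K : Subgroup G) : Set G) :=
    le_normalizer_of_le_centralizer fun _ a _ b => h.comm b.1 a.1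
  have h2 := card_sup_mul_card_inf h1
  have h3 : Nat.card ↥(𝐎 M ⊓ 𝐎 K) = Nat.card ↥(𝐎 M ⊓ 𝐎 M') :=
    Nat.pow_left_injective two_ne_zero (k.card.trans h.card.symm)
  rw [show 𝐎 M ⊓ 𝐎 M' ⊓ (𝐎 M ⊓ 𝐎 K) = ⊥ from eq_bot_iff.2 fun v hv =>
    by_contra fun e => ne (h.eq_of_mem k hv.1 hv.2.2 e), card_bot,
    mul_one, h3, ← _root_.sq, h.card] at h2
  exact (mem_sup_iff_of_left_le_normalizer h1).1
    ((eq_of_le_of_card_ge (sup_le inf_le_left inf_le_left) h2.ge).ge hv)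

theorem trans_O (k : Cfg M K) (k' : Cfg M K') (n1 : M' ≠ K) (n2 : M' ≠ K') : ∃ v ∈ 𝐎 M', H11.cj v K = K' := by
  obtain ⟨r, hr, r1⟩ := k'.exists_R
  obtain ⟨a, ha, b, hb, rfl⟩ := h.mem_sup k n1 hr.1
  have b1 : b ∉ 𝐎 M' := fun e => n2 (h.eq_of_mem k' ⟨hr.1, mul_mem ha.2 e⟩ hr.2 r1)
  obtain ⟨v, hv, rfl⟩ := h.symm.exists_comm hb.1 b1 ⟨ha.2, ha.1⟩
  refine ⟨v, hv, (k.cfg_cj (h.le hv)).eq_of_mem k' ⟨hr.1, ?_⟩ hr.2 r1⟩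
  have := mem_O_cj v hb.2
  rwa [inv_eq_of_mul_eq_one_right (h.symm.sq hv), ← inv_mul_cancel_right (v * b * v) b, mul_assoc v b v,
    mul_assoc v] at this

theorem exists_cfg (hv : v ∈ 𝐎 M) (v1 : v ≠ 1) : ∃ K, Cfg M K ∧ v ∈ 𝐎 K := by
  obtain ⟨r, hr, r1⟩ := h.exists_R
  obtain ⟨m, hm, rfl⟩ := h.conj hr.1 r1 hv v1
  exact ⟨_, h.cfg_cj hm, mem_O_cj m hr.2⟩

theorem exists_ne : ∃ K, Cfg M K ∧ M' ≠ K :=
  let ⟨g, hg, e⟩ := h.exists_not_mem; ⟨_, h.cfg_cj hg, fun e' => e (h.symm.mem_iff.2 e'.symm)⟩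

theorem mem_T_of (h1 : g ∈ M) (h2 : g ∈ M') (e : E2 g) : g ∈ 𝐎 M ⊔ 𝐎 M' :=
  h.syl.le_of_normalizes e.pg (zpowers_le.2 h1) (zpowers_le.2 (H11.cj_eq_iff.1 (h.cj_T h1 h2))) (mem_zpowers g)

theorem swap (hg : g ∈ normalizer ((𝐎 M ⊔ 𝐎 M' : Subgroup G) : Set G)) (h1 : g ∉ M) :
    H11.cj g M = M' ∧ H11.cj g M' = M := by
  have h2 := (h.cj_sup g).symm.trans (H11.cj_eq_iff.2 hg)
  have h3 := (h.eq_or (h.cj g) (le_sup_left.trans h2.le)).resolve_left (mt h.mem_iff.2 h1)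
  exact ⟨h3, (h.eq_or (h.cj g).symm (le_sup_right.trans h2.le)).resolve_right fun e =>
    h.ne (H11.cj_injective g (h3.trans e.symm))⟩

theorem mul_mem_of (hg : g ∈ normalizer ((𝐎 M ⊔ 𝐎 M' : Subgroup G) : Set G)) (h1 : g ∉ M)
    (hs : s ∈ normalizer ((𝐎 M ⊔ 𝐎 M' : Subgroup G) : Set G)) (h2 : s ∉ M) : g * s ∈ M :=
  h.mem_iff.2 (by rw [H11.cj_mul, (h.swap hs h2).1, (h.swap hg h1).2])

theorem mem_T_of' (h1 : g ∈ M) (hg : g ∈ normalizer ((𝐎 M ⊔ 𝐎 M' : Subgroup G) : Set G)) (e : E2 g) :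
    g ∈ 𝐎 M ⊔ 𝐎 M' := h.mem_T_of h1 (h.normT h1 (H11.cj_eq_iff.2 hg)) e

theorem cent_swap (hs : s ∈ normalizer ((𝐎 M ⊔ 𝐎 M' : Subgroup G) : Set G)) (h1 : s ∉ M) (hx : x ∈ 𝐎 M ⊔ 𝐎 M')
    (e : x * x = 1) (c : s * x = x * s) : x ∈ 𝐎 M ⊓ 𝐎 M' := by
  have k : ∀ {K}, x ∈ 𝐎 K → x ∈ 𝐎 (H11.cj s K) := fun a => by
    have := mem_O_cj s a; rwa [c, mul_inv_cancel_right] at this
  obtain ⟨a, b⟩ := h.swap hs h1
  exact (h.invol hx e).elim (fun e => ⟨e, a ▸ k e⟩) fun e => ⟨b ▸ k e, e⟩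

theorem sq_mem (hx : x ∈ 𝐎 M ⊔ 𝐎 M') : x * x ∈ 𝐎 M ⊓ 𝐎 M' := by
  obtain ⟨a, ha, b, hb, rfl⟩ := h.mem_T hx
  exact mul_assoc (a * b) a b ▸ h.comm_mem ha hb

theorem exists_flag (hv : g * v * g⁻¹ ∈ 𝐎 M ⊔ 𝐎 M') (v1 : orderOf v = 2) : ∃ K K', Cfg K K' ∧
    (∃ g, H11.cj g M = K) ∧ (∃ g, H11.cj g M' = K') ∧ v ∈ 𝐎 K ⊓ 𝐎 K' := by
  have key : ∀ {M M' : Subgroup G}, Cfg M M' → g * v * g⁻¹ ∈ 𝐎 M → ∃ K K', Cfg K K' ∧
      (∃ g, H11.cj g M = K) ∧ (∃ g, H11.cj g M' = K') ∧ v ∈ 𝐎 K ⊓ 𝐎 K' := fun h hv => by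
    obtain ⟨K, k, hK⟩ := h.exists_cfg hv (mt conj_eq_one_iff.1 (H11.ne_one_of_orderOf_two v1))
    obtain ⟨m, -, rfl⟩ := h.exists_cj k
    exact ⟨_, _, k.cj g⁻¹, ⟨_, rfl⟩, ⟨_, H11.cj_mul _ _ _⟩, by
      simpa [mul_assoc] using mem_O_cj g⁻¹ hv, by simpa [mul_assoc] using mem_O_cj g⁻¹ hK⟩
  rcases h.invol hv (by rw [conj_mul, H11.mul_self_of_orderOf_two v1]; simp) with e | e
  · exact key h e
  · obtain ⟨K, K', a, b, c, d⟩ := key h.symm e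
    exact ⟨K', K, a.symm, c, b, d.2, d.1⟩

variable (hq : 4 < Nat.card (𝐎 M))
include hq

theorem J (k : Cfg K K') (hK : Nat.card (𝐎 K) = Nat.card (𝐎 M))
    (hE : 𝐎 K ≤ normalizer ((𝐎 M ⊔ 𝐎 M' : Subgroup G) : Set G)) : 𝐎 K ≤ 𝐎 M ⊔ 𝐎 M' := by
  have h1 := fun x hx a => h.mem_T_of' (g := x) a (hE hx) (.of_sq (k.sq hx))
  intro s hs
  by_contra e
  have h2 := mt (h1 s hs) e
  have h3 := Nat.le_of_dvd two_pos ((relIndex_dvd_two_iff (H := M)).2 ⟨s, hs, fun b hb =>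
    or_iff_not_imp_right.2 fun c => h.mul_mem_of (hE hb) c (hE hs) h2⟩)
  have h4 := card_le_of_le (show M ⊓ 𝐎 K ≤ 𝐎 M ⊓ 𝐎 M' from fun x hx =>
    h.cent_swap (hE hs) h2 (h1 x hx.2 hx.1) (k.sq hx.2) (k.comm hs hx.2))
  have h5 := card_mul_relIndex (inf_le_right : M ⊓ 𝐎 K ≤ _)
  rw [inf_relIndex_right, hK, ← h.card] at h5
  rw [← h.card] at hq
  nlinarith [Nat.mul_le_mul h4 h3]

theorem le_norm (hY : IsPGroup 2 Y) (h1 : 𝐎 M ⊔ 𝐎 M' ≤ Y) : Y ≤ normalizer ((𝐎 M ⊔ 𝐎 M' : Subgroup G) : Set G) := by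
  by_contra e
  obtain ⟨y, hy, y1, y2⟩ := H11.exists_mem_normalizer_of_lt hY ((inf_lt_left (a := Y)).2 e)
  have h2 := (H11.cj_mono y (le_inf h1 le_normalizer)).trans ((H11.cj_eq_iff.2 y2).le.trans inf_le_right)
  rw [h.cj_sup, sup_le_iff] at h2
  refine y1 ⟨hy, H11.mem_normalizer_of_cj_le ?_⟩
  rw [h.cj_sup]
  exact sup_le (h.J hq (h.cj y) (card_O_cj _ _) h2.1)
    (h.J hq (h.cj y).symm ((card_O_cj _ _).trans h.card_eq.symm) h2.2)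

theorem exists_two : ∃ v ∈ 𝐎 M, ∃ w ∈ 𝐎 M, v ∉ 𝐎 M' ∧ w ∉ 𝐎 M' ∧ v * w ∉ 𝐎 M' := by
  obtain ⟨v, hv, v1⟩ := h.symm.nle
  by_contra! e
  have h3 := Nat.le_of_dvd two_pos ((relIndex_dvd_two_iff (H := 𝐎 M')).2 ⟨v, hv, fun b hb =>
    or_iff_not_imp_right.2 fun c => e b hb v hv c v1⟩)
  have h5 := card_mul_relIndex (inf_le_left : 𝐎 M ⊓ 𝐎 M' ≤ _)
  rw [inf_relIndex_left, ← h.card] at h5
  rw [← h.card] at hq
  nlinarith [Nat.mul_le_mul_left (Nat.card ↥(𝐎 M ⊓ 𝐎 M')) h3]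

theorem exists_odd : ∃ b ∈ M ⊓ M', ¬ E2 b := by
  obtain ⟨v, hv, w, hw, v1, w1, h1⟩ := h.exists_two hq
  obtain ⟨b, hb, rfl⟩ := h.symm.trans hv v1 hw w1
  refine ⟨b, ⟨hb.2, hb.1⟩, fun e => h1 ?_⟩
  obtain ⟨a, ha, c, hc, rfl⟩ := h.symm.mem_T (h.symm.mem_T_of hb.1 hb.2 e)
  have := (h.comm_mem hv ha).2
  rwa [mul_inv_rev, mul_assoc a, mul_assoc a, ← mul_assoc _ c⁻¹, h.comm hc hv, mul_inv_cancel_right,
    inv_eq_of_mul_eq_one_right (h.symm.sq ha), ← mul_assoc, ← mul_assoc]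

theorem sylow (hno : ∀ H : Subgroup G, H.index ≠ 2) : IsSylIn 2 (𝐎 M ⊔ 𝐎 M') ⊤ := by
  obtain ⟨S, hS, h1⟩ := H11.exists_isSylIn_le h.syl.pg le_top
  have h2 := h.le_norm hq hS.pg h1
  obtain ⟨b, hb, b1⟩ := h.exists_odd hq
  have hb' := H11.cj_eq_iff.1 (h.cj_T hb.1 hb.2)
  refine hS.of_card_ge h.syl.pg le_top (h.vx.cit.card_le b1 hS.pg fun t ht => by_contra fun e => ?_)
  have h3 := fun x hx a => h.mem_T_of' (g := x) a (h2 hx) (.of_mem hS.pg hx)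
  have t1 : t ∉ M := fun a => e (mul_mem (inv_mem (h3 t ht a)) (H11.conj_mem_of_mem_normalizer hb' (h3 t ht a)))
  have t2 := h3 _ (mul_mem ht ht) (h.mul_mem_of (h2 ht) t1 (h2 ht) t1)
  have s1 := mul_mem (mul_mem hb' (h2 ht)) (inv_mem hb')
  have x1 := h.mul_mem_of (inv_mem (h2 ht)) (mt inv_mem_iff.1 t1) s1 fun a =>
    t1 ((M.mul_mem_cancel_left hb.1).1 ((M.mul_mem_cancel_right (M.inv_mem hb.1)).1 a))
  have x2 := mul_mem (inv_mem (h2 ht)) s1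
  have x3 := mt (h.mem_T_of' x1 x2) e
  obtain ⟨u, hu, n1, n2⟩ := h.vx.cit.exists_inv h.syl.pg (inv_mem (h2 ht)) s1
    (by rw [← mul_inv_rev]; exact inv_mem t2) (by rw [conj_mul]; exact H11.conj_mem_of_mem_normalizer hb' t2) x3
  have n3 : u * t⁻¹ ∉ M := fun a => t1 (inv_mem_iff.1 ((mul_mem_cancel_left (h.syl.le hu)).1 a))
  have n4 := h2 (mul_mem (h1 hu) (inv_mem ht))
  obtain ⟨P, rfl⟩ := hS.exists_sylow_top
  obtain ⟨g, hg⟩ := H11.thompson_transfer_sylow hno P h1 (relIndex_eq_two_iff_exists_notMem_and.2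
    ⟨t, ht, mt (h.syl.le ·) t1, fun b hb => or_iff_not_imp_right.2 fun c => h3 _ (mul_mem hb ht)
      (h.mul_mem_of (h2 hb) (mt (h3 b hb) c) (h2 ht) t1)⟩) n1
  generalize u * t⁻¹ = n at *
  generalize t⁻¹ * (b * t * b⁻¹) = x at *
  have n0 : n ≠ 1 := fun e => n3 (e ▸ one_mem _)
  obtain ⟨K, K', k, ⟨m, rfl⟩, -, hn⟩ := h.exists_flag hg (H11.orderOf_two_of n0 n1)
  have hq' := (card_O_cj m M).symm ▸ hq
  have c1 := h.vx.cit.cent1 n0 (.of_sq n1)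
  have c2 := k.le_norm hq' c1 (k.centR hn)
  obtain ⟨w1, w2⟩ := h.swap n4 n3
  have x4 : H11.cj x (𝐎 M ⊓ 𝐎 M') = 𝐎 M ⊓ 𝐎 M' := by
    rw [H11.cj_inf, cj_O, cj_O, h.mem_iff.1 x1, h.symm.mem_iff.1 (h.normT x1 (H11.cj_eq_iff.2 x2))]
  have x5 := (H11.cj_mono x (inf_le_left (b := centralizer {n}))).trans x4.le
  have h4 := (H4.exists_comm (A := 𝐎 M ⊓ 𝐎 M') (fun a ha => h.sq ha.1) (H11.cj_eq_iff.1 (by
    rw [H11.cj_inf, cj_O, cj_O, w1, w2, inf_comm])) (n1 ▸ one_mem _) (card_sq_le inf_le_left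
      (le_normalizer_of_le_centralizer fun _ a _ b => h.comm (x5 b).1 a.1.1) x5 (eq_bot_iff.2 fun y hy =>
        by_contra fun y1 => x3 ?_))).2
  swap
  · obtain ⟨k, hk⟩ := h.vx.cit.e2 (x := x * x) y1 (.of_sq (h.sq hy.1.1.1)) (by
      have a := mem_cent1.1 (H11.cj_cent1 x n ▸ H11.cj_mono x inf_le_right hy.2)
      rw [show x * n * x⁻¹ = x * (n * x * n⁻¹)⁻¹ * n by group, n2, inv_inv, mul_assoc _ n, ← mem_cent1.1 hy.1.2,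
        ← mul_assoc, ← mul_assoc _ y] at a
      exact (mul_right_cancel a).symm)
    exact ⟨k + 1, by rwa [pow_succ', pow_mul, _root_.sq]⟩
  have h5 : ∀ v ∈ 𝐎 M, ∃ y ∈ 𝐎 M', v * y ∈ centralizer {n} := fun v hv => by
    have a := w1 ▸ mem_O_cj n hv
    have b : n * (n * v * n⁻¹) * n⁻¹ = v := by
      rw [show n * (n * v * n⁻¹) * n⁻¹ = n * n * v * (n * n)⁻¹ by group, n1]; group
    generalize c : n * v * n⁻¹ = v' at a b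
    have d := h.comm_mem hv a
    have i1 := inv_eq_of_mul_eq_one_right (h.sq hv)
    have i2 := inv_eq_of_mul_eq_one_right (h.symm.sq a)
    obtain ⟨r, hr, e⟩ := h4 _ ⟨d, mem_cent1.2 (mul_inv_eq_iff_eq_mul.1 (by
      rw [← conj_mul, ← conj_mul, ← conj_mul, b, c, ← inv_eq_of_mul_eq_one_right (h.sq d.1)]
      simp only [mul_inv_rev, i1, i2, mul_assoc])).symm⟩
    refine ⟨v' * r, mul_mem a hr.2, mem_cent1.2 (mul_inv_eq_iff_eq_mul.1 ?_).symm⟩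
    rw [← conj_mul, ← conj_mul, b, c, eq_inv_mul_of_mul_eq e, inv_eq_of_mul_eq_one_right (h.sq hr.1),
      h.comm hr.1 d.1]
    nth_rw 1 [← i1, ← i2]
    group
  have h6 : ∀ a ∈ 𝐎 M ⊔ 𝐎 M', a ∈ centralizer {n} → a ∈ H11.cj m M → a ∈ 𝐎 M' := fun a a1 a2 a3 => by
    by_contra a4
    have a5 := mt (fun e => (h.cent_swap n4 n3 a1 e (mem_cent1.1 a2).symm).2) a4
    have a6 := k.sq_mem (k.mem_T_of' a3 (c2 a2) (.of_mem c1 a2))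
    exact n3 (h.syl.le (h.J hq k (card_O_cj _ _) ((le_sup_left.trans (k.centR a6)).trans (h.le_norm hq
      (h.vx.cit.cent1 a5 (.of_sq (h.sq (h.sq_mem a1).1))) (h.centR (h.sq_mem a1)))) hn.1))
  obtain ⟨v, hv, w, hw, v1, v2, v3⟩ := h.exists_two hq
  obtain ⟨y, hy, y1⟩ := h5 v hv
  obtain ⟨z, hz, z1⟩ := h5 w hw
  have y2 := mul_mem (mem_sup_left hv) (mem_sup_right hy)
  have z2 := mul_mem (mem_sup_left hw) (mem_sup_right hz)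
  have := h6 _ (mul_mem y2 z2) (mul_mem y1 z1) (k.mul_mem_of
    (c2 y1) (fun a => v1 ((mul_mem_cancel_right hy).1 (h6 _ y2 y1 a)))
    (c2 z1) (fun a => v2 ((mul_mem_cancel_right hz).1 (h6 _ z2 z1 a))))
  rw [show v * y * (w * z) = v * w * (w⁻¹ * y * w * z) by group] at this
  exact v3 ((mul_mem_cancel_right (mul_mem (H11.conj_mem_of_mem_normalizer' (le_norm_O (h.symm.le hw)) hy) hz)).1 this)

variable (hno : ∀ H : Subgroup G, H.index ≠ 2)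
include hno

theorem cent_eq (hv : v ∈ 𝐎 M ⊓ 𝐎 M') (v1 : v ≠ 1) : centralizer {v} = 𝐎 M ⊔ 𝐎 M' :=
  (h.sylow hq hno).eq (h.vx.cit.cent1 v1 (.of_sq (h.sq hv.1))) (h.centR hv) le_top

theorem cent_le (hv : v ∈ 𝐎 M) (v1 : v ≠ 1) : centralizer {v} ≤ M :=
  let ⟨_, k, e⟩ := h.exists_cfg hv v1; (k.cent_eq hq hno ⟨hv, e⟩ v1).le.trans k.syl.le

theorem not_conj (g : G) : H11.cj g M ≠ M' := fun e => by
  obtain ⟨m, hm, e'⟩ := (show Cfg M' (H11.cj g M') from e ▸ h.cj g).exists_cj h.symm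
  have h1 : H11.cj (m * g) M = M' := by rw [H11.cj_mul, e, H11.cj_eq_of_mem hm]
  have h2 : m * g ∉ M := fun a => h.ne ((H11.cj_eq_of_mem a).symm.trans h1)
  have h3 := H11.cj_eq_iff.1 (show H11.cj (m * g) (𝐎 M ⊔ 𝐎 M') = 𝐎 M ⊔ 𝐎 M' by
    rw [h.cj_sup, h1, H11.cj_mul, e', sup_comm])
  generalize m * g = n at *
  obtain ⟨a, k, ⟨k, rfl⟩, hk⟩ := Nat.exists_eq_two_pow_mul_odd (orderOf_pos n).ne'
  have h4 := h.syl.le ((h.sylow hq hno).le_of_normalizes (E2.pg ⟨a, by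
    rw [← pow_mul, mul_comm, ← hk, pow_orderOf_eq_one]⟩) le_top (zpowers_le.2 (pow_mem h3 (2 * k + 1)))
    (mem_zpowers _))
  rw [pow_succ, pow_mul, _root_.sq] at h4
  exact h2 ((M.mul_mem_cancel_left (pow_mem (h.mul_mem_of h3 h2 h3 h2) k)).1 h4)

theorem pt_eq (hv : v ∈ 𝐎 M) (h1 : v ∈ 𝐎 (H11.cj g M)) (v1 : v ≠ 1) : H11.cj g M = M := by
  obtain ⟨K, k, e⟩ := h.exists_cfg hv v1
  exact (k.eq_or (h.cj g) (k.cent_eq hq hno ⟨hv, e⟩ v1 ▸ fun _ a => mem_cent1.2 ((h.cj g).comm a h1))).resolve_right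
    (k.not_conj hq hno g)

theorem collinear (g : G) : ∃ K, Cfg M K ∧ Cfg (H11.cj g M) K := by
  by_contra! hn
  have k := h.cj g
  have hq' := (card_O_cj g M).symm ▸ hq
  have F : ∀ {M M' : Subgroup G} {u}, Cfg M M' → u ∈ M → orderOf u = 2 →
      ∃ m ∈ M, u ∈ 𝐎 (H11.cj m M') := fun {M M' u} h hu u2 => by
    obtain ⟨m, hm, e⟩ := h.syl.exists_conj_invol_mem u2 hu
    rcases h.invol e (by rw [conj_mul, H11.mul_self_of_orderOf_two u2]; simp) with e | e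
    · obtain ⟨K, k, e⟩ := h.exists_cfg (v := u) (by
        simpa [mul_assoc] using H11.conj_mem_of_mem_normalizer' (le_norm_O hm) e) (H11.ne_one_of_orderOf_two u2)
      obtain ⟨m, hm, rfl⟩ := h.exists_cj k
      exact ⟨m, hm, e⟩
    · exact ⟨m⁻¹, inv_mem hm, by simpa [mul_assoc] using mem_O_cj m⁻¹ e⟩
  have h1 : Odd (Nat.card ↥(M ⊓ H11.cj g M)) := H11.odd_card_iff_no_invol.2 fun u hu u2 => by
    obtain ⟨m, hm, a⟩ := F h hu.1 u2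
    obtain ⟨n, hn', b⟩ := F k hu.2 u2
    refine hn _ (h.cfg_cj hm) ?_
    rw [← (h.cfg_cj hm).symm.pt_eq ((h.cfg_cj hm).card_eq ▸ hq) hno (g := n * g * m⁻¹) a
      (by rwa [H11.cj_mul, H11.cj_inv_cj, H11.cj_mul]) (H11.ne_one_of_orderOf_two u2), H11.cj_mul,
      H11.cj_inv_cj, H11.cj_mul]
    exact k.cfg_cj hn'
  have h0 := H11.odd_card_iff_no_invol.1 h1
  obtain ⟨s, ⟨hs, -⟩, s1⟩ := k.exists_R
  have h2 : ∀ t ∈ 𝐎 M, t ≠ 1 → ∃ w, orderOf w = 2 ∧ w * t * w⁻¹ = s ∧ H11.cj w M = H11.cj g M ∧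
      H11.cj w (H11.cj g M) = M := fun t ht t1 => by
    obtain ⟨m, hm⟩ := H11.exists_pow_conj_of_odd (h.sq ht) (k.sq hs) (by_contra fun e =>
      let ⟨a, b, c⟩ := H11.half_pow_commute (orderOf_pos _) (h.sq ht) (k.sq hs) (Nat.not_odd_iff_even.1 e)
      h0 _ ⟨h.cent_le hq hno ht t1 (mem_cent1.2 b), k.cent_le hq' hno hs s1 (mem_cent1.2 c)⟩ a)
    have a1 : (t * s) ^ m * t * ((t * s) ^ m * t) = 1 := by
      nth_rw 1 [H11.pow_mul_of_inv (H11.invol_inverts_left (h.sq ht) (k.sq hs))]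
      rw [mul_assoc, inv_mul_cancel_left, h.sq ht]
    have a2 : (t * s) ^ m * t * t * ((t * s) ^ m * t)⁻¹ = s := by nth_rw 3 [← hm]; group
    generalize (t * s) ^ m * t = w at a1 a2
    have a3 : H11.cj w M = H11.cj g M := by
      have := k.pt_eq hq' hno (g := w * g⁻¹) hs (by
        rw [H11.cj_mul, H11.cj_inv_cj, ← a2]; exact mem_O_cj w ht) s1
      rwa [H11.cj_mul, H11.cj_inv_cj] at this
    exact ⟨w, H11.orderOf_two_of (fun e => hn _ h (by rwa [← a3, e, H11.cj_one])) a1, a2, a3, by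
      rw [← a3, ← H11.cj_mul, a1, H11.cj_one]⟩
  have h3 : ∀ t ∈ 𝐎 M, t ≠ 1 → ∀ t' ∈ 𝐎 M, t' ≠ 1 → ∃ d ∈ M ⊓ H11.cj g M, d * t * d⁻¹ = t' :=
    fun t ht t1 t' ht' t1' => by
    obtain ⟨w, -, a, b, c⟩ := h2 t ht t1
    obtain ⟨w', -, a', b', c'⟩ := h2 t' ht' t1'
    exact ⟨w'⁻¹ * w, ⟨h.mem_iff.2 (by rw [H11.cj_mul, b, ← b', H11.cj_inv_cj]), k.mem_iff.2 (by
      rw [H11.cj_mul, c]; nth_rw 1 [← c']; rw [H11.cj_inv_cj])⟩, by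
        rw [← inv_mul_cancel_left w' t', ← mul_inv_cancel_right (w' * t') w'⁻¹, a', ← a]; group⟩
  obtain ⟨z, hz, z1⟩ := h.exists_R
  obtain ⟨b, hb, b1⟩ := h.exists_odd hq
  obtain ⟨w, w2, -, w3, w4⟩ := h2 z hz.1 z1
  have h4 := fun x => h.vx.cit.inv (x := x) h1 w2 (H11.cj_eq_iff.1 (by rw [H11.cj_inf, w3, w4, inf_comm]))
  have z2 := H11.conj_mem_of_mem_normalizer (le_norm_O hb.1) hz.1
  obtain ⟨d, hd, e⟩ := h3 z hz.1 z1 _ z2 (mt conj_eq_one_iff.1 z1)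
  have d1 : H11.cj d M' = M' := (h.eq_of_mem (h.cfg_cj hd.1) ⟨z2, H11.conj_mem_of_mem_normalizer
    (le_norm_O hb.2) hz.2⟩ (e ▸ mem_O_cj d hz.2) (mt conj_eq_one_iff.1 z1)).symm
  have d2 : ∀ K, Cfg M K → d ∈ K := fun K k' => by
    obtain ⟨r, hr, r1⟩ := k'.exists_R
    obtain ⟨c, hc, rfl⟩ := h3 z hz.1 z1 r hr.1 r1
    have := h4 _ (mul_mem hd hc)
    rw [← conj_mul, h4 d hd, h4 c hc, ← mul_inv_rev, inv_inj] at this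
    rw [k'.symm.mem_iff, k'.eq_of_mem (h.cfg_cj hc.1) hr (mem_O_cj c hz.2) r1, ← H11.cj_mul, ← this,
      H11.cj_mul, d1]
  obtain ⟨K, k', ne⟩ := h.exists_ne
  have := h.vx.cit.card_le (x := d) (A := 𝐎 M ⊓ 𝐎 M') (fun a => b1 (h.vx.cit.e2 z1 (.of_sq (h.sq hz.1))
    (mul_inv_eq_iff_eq_mul.1 (by simp [← e, a.eq_one (H11.odd_orderOf_of_odd_card h1 hd)])))) OpOf_isPGroup
    fun u hu => by
      have a := mul_mem (inv_mem hu) (H11.conj_mem_of_mem_normalizer (le_norm_O (d2 _ h)) hu)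
      refine ⟨k'.mem_O h ne.symm a ?_, a⟩
      rw [← mul_assoc, ← mul_assoc]
      exact mul_mem (H11.mem_cj.1 (d2 _ (k'.cfg_cj (h.le hu)))) (inv_mem (d2 _ k'))
  rw [← h.card_eq, ← h.card] at this
  rw [← h.card] at hq
  nlinarith

end Cfg

end Cfsg.Agent.H4
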