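import Cfsg.Agent.H4.CIT3
import Cfsg.Agent.H14.Cl3
import Cfsg.Agent.H28.RgA

/-!
# CIT-groups: identification of `PSL₃(4)`
-/

set_option autoImplicit false
set_option linter.style.haveILetI false
set_option linter.unusedSectionVars false

namespace Cfsg.Agent.H4

open Subgroup Cfsg.Agent.H10
open Cfsg.Agent.H11 (cj IsSylIn mem_cent1)
open scoped commutatorElement MatrixGroups

variable {G : Type*} [Group G] [Finite G] {a b c d e f x y : G} {A K L M M' : Subgroup G}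

local notation "𝐎" => OpOf 2

theorem not_e2_of_three (h : x ^ 3 = 1) (h1 : x ≠ 1) : ¬ E2 x := fun e =>
  h1 (e.eq_one (Odd.of_dvd_nat (by decide) (orderOf_dvd_of_pow_eq_one h)))

theorem CIT.quad (h : CIT G) (hA : ∀ a ∈ A, a * a = 1) (he : e ∈ normalizer (A : Set G))
    (hf : f ∈ normalizer (A : Set G)) (e2 : e * e = 1) (f2 : f * f = 1) (h3 : (e * f) ^ 3 = 1) (ne : e ≠ f)
    (hy : y ∈ A) (c : f * y = y * f) : e * f * e * y * (e * f * e)⁻¹ = ⁅e, y⁆ ∧ ⁅f, ⁅e, y⁆⁆ = y := by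
  have i1 := inv_eq_of_mul_eq_one_right e2
  have i2 := inv_eq_of_mul_eq_one_right f2
  have h1 := h.three hA (not_e2_of_three h3 fun e => ne (i2 ▸ eq_inv_of_mul_eq_one_left e)) (mul_mem he hf)
    (by rw [← pow_three', h3]; exact one_mem _) hy
  have h2 : e * f * y * (e * f)⁻¹ = e * y * e⁻¹ := by rw [mul_assoc e, c]; group
  have h4 := H11.conj_mem_of_mem_normalizer he hy
  have h5 : e * f * e * y * (e * f * e)⁻¹ = ⁅e, y⁆ := by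
    rw [h2] at h1
    rw [commutatorElement_def, ← inv_eq_of_mul_eq_one_right (hA _ h4), ← mul_inv_rev,
      inv_eq_of_mul_eq_one_right h1]; group
  refine ⟨h5, ?_⟩
  have h6 : e * f * e = f * e * f := by
    rw [← inv_eq_of_mul_eq_one_right (show f * e * f * (e * f * e) = 1 by
      rw [← conj_eq_one_iff (a := e), ← h3, i1, pow_three, mul_assoc, mul_assoc, mul_assoc (e * f), e2]; group)]
    simp only [mul_inv_rev, i1, i2, mul_assoc]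
  rw [commutatorElement_def f, ← h5]
  nth_rw 1 [h6, h6]
  rw [show f * (f * e * f * y * (f * e * f)⁻¹) * f⁻¹ = f * f * (e * f * y * (e * f)⁻¹) * (f * f)⁻¹ by group, f2, h2,
    h5, commutatorElement_def, mul_inv_rev, inv_inv, inv_eq_of_mul_eq_one_right (hA _ h4),
    H11.comm_of_sq_eq_one hA hy h4, one_mul, inv_one, mul_one, ← mul_assoc, hA _ h4, one_mul]

namespace Cfg

variable (h : Cfg M M')
include h

theorem cm_mem (ha : a ∈ 𝐎 M) (hb : b ∈ 𝐎 M') : ⁅a, b⁆ ∈ 𝐎 M ⊓ 𝐎 M' := by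
  rw [commutatorElement_def, inv_eq_of_mul_eq_one_right (h.sq ha), inv_eq_of_mul_eq_one_right (h.symm.sq hb)]
  exact h.comm_mem ha hb

theorem cm_symm (ha : a ∈ 𝐎 M) (hb : b ∈ 𝐎 M') : ⁅b, a⁆ = ⁅a, b⁆ := by
  rw [← commutatorElement_inv, inv_eq_of_mul_eq_one_right (h.sq (h.cm_mem ha hb).1)]

theorem cm_left (ha : a ∈ 𝐎 M) (hb : b ∈ 𝐎 M') (hc : c ∈ 𝐎 M) : ⁅a * c, b⁆ = ⁅a, b⁆ * ⁅c, b⁆ := by
  rw [h.comm (h.cm_mem ha hb).1 (h.cm_mem hc hb).1, ← mul_inv_cancel_right ⁅c, b⁆ a,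
    h.comm (h.cm_mem hc hb).1 ha]
  simp only [commutatorElement_def]; group

theorem cm_right (ha : a ∈ 𝐎 M) (hb : b ∈ 𝐎 M') (hc : c ∈ 𝐎 M') : ⁅a, b * c⁆ = ⁅a, b⁆ * ⁅a, c⁆ := by
  rw [← h.cm_symm ha (mul_mem hb hc), h.symm.cm_left hb ha hc, h.cm_symm ha hb, h.cm_symm ha hc]

end Cfg

/-- The field with four elements. -/
abbrev K4 : Type := QuadraticAlgebra (ZMod 2) 1 1

instance : Fact (∀ r : ZMod 2, r ^ 2 ≠ 1 + 1 * r) := ⟨by decide⟩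

instance : Fintype K4 := Fintype.ofEquiv _ (QuadraticAlgebra.equivProd (1 : ZMod 2) 1).symm

theorem card_K4 : Fintype.card K4 = 4 := by rw [Fintype.ofEquiv_card]; rfl

/-- Coordinates on a root subgroup. -/
def Y4 (d e : G) (t : K4) : G := e ^ t.re.val * (d * e * d⁻¹) ^ t.im.val

theorem cm_pow (a b : G) (s t : ZMod 2) : ⁅a ^ s.val, b ^ t.val⁆ = ⁅a, b⁆ ^ (s * t).val := by
  have : ∀ s : ZMod 2, s = 0 ∨ s = 1 := by decide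
  rcases this s with rfl | rfl <;> rcases this t with rfl | rfl <;> simp [ZMod.val_one]

/-- Triangles in the projective plane. -/
structure Tri (p l : Fin 3 → Subgroup G) : Prop where
  cfg : ∀ {i j}, i ≠ j → Cfg (p i) (l j)
  pi : Function.Injective p
  li : Function.Injective l

theorem fin3 {i j k : Fin 3} (ij : i ≠ j) (jk : j ≠ k) (ik : i ≠ k) (m : Fin 3) : m = i ∨ m = j ∨ m = k := by
  omega

theorem fin3' {i j : Fin 3} (ij : i ≠ j) : ∃ k, j ≠ k ∧ i ≠ k := by revert i j; decide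

theorem fin3'' (i : Fin 3) : ∃ j k, i ≠ j ∧ i ≠ k ∧ j ≠ k := by revert i; decide

namespace Tri

variable {p l : Fin 3 → Subgroup G} (h : Tri p l) {i j k : Fin 3}
include h

theorem dual : Tri l p := ⟨fun e => (h.cfg e.symm).symm, h.li, h.pi⟩

theorem cit : CIT G := (h.cfg zero_ne_one).vx.cit

theorem mem_l (hd : d ∈ ⨅ i, p i) (k : Fin 3) : d ∈ l k := by
  obtain ⟨i, j, ij, ik, jk⟩ : ∃ i j, i ≠ j ∧ i ≠ k ∧ j ≠ k := by revert k; decide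
  exact (h.cfg ik).symm.mem_iff.2 ((h.cfg ik).uniq ((h.cfg ik).cfg_cj (mem_iInf.1 hd i)) (h.cfg jk)
    ((h.cfg jk).cfg_cj (mem_iInf.1 hd j)) (h.pi.ne ij.symm)).symm

theorem mem_dual (hd : d ∈ ⨅ i, p i) : d ∈ ⨅ i, l i := mem_iInf.2 (h.mem_l hd)

theorem conj_mem (hd : d ∈ ⨅ i, p i) (he : e ∈ 𝐎 (p i) ⊓ 𝐎 (l j)) : d * e * d⁻¹ ∈ 𝐎 (p i) ⊓ 𝐎 (l j) :=
  ⟨H11.conj_mem_of_mem_normalizer (le_norm_O (mem_iInf.1 hd i)) he.1,
    H11.conj_mem_of_mem_normalizer (le_norm_O (h.mem_l hd j)) he.2⟩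

theorem odd : Odd (Nat.card ↥(⨅ i, p i)) := H11.odd_card_iff_no_invol.2 fun u hu u2 => by
  have key : ∀ {i j k}, i ≠ j → i ≠ k → j ≠ k → u ∈ 𝐎 (p i) := fun {i j k} ij ik jk =>
    ((h.cfg ij).invol ((h.cfg ij).mem_T_of (mem_iInf.1 hu i) (h.mem_l hu j) (.of_sq
      (H11.mul_self_of_orderOf_two u2))) (H11.mul_self_of_orderOf_two u2)).elim id fun e =>
        (h.cfg ik).mem_O (h.cfg ij) (h.li.ne jk.symm) e (h.mem_l hu k)
  have a : u ∈ 𝐎 (p 0) := key (j := 1) (k := 2) (by decide) (by decide) (by decide)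
  have c0 := (h.cfg (i := 0) (j := 2) (by decide)).symm
  have c1 := (h.cfg (i := 1) (j := 2) (by decide)).symm
  exact h.pi.ne zero_ne_one (c0.eq_of_mem c1 ⟨c1.mem_O c0 (h.pi.ne one_ne_zero) a (mem_iInf.1 hu 1), a⟩
    (key (j := 0) (k := 2) (by decide) (by decide) (by decide)) (H11.ne_one_of_orderOf_two u2))

theorem fix (hd : d ∈ ⨅ i, p i) (e1 : e ≠ 1) (e2 : e * e = 1) (c : d * e * d⁻¹ = e) : d = 1 :=
  (h.cit.e2 e1 (.of_sq e2) (mul_inv_eq_iff_eq_mul.1 c)).eq_one (H11.odd_orderOf_of_odd_card h.odd hd)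

variable (ij : i ≠ j) (jk : j ≠ k) (ik : i ≠ k)
include ij jk ik

theorem not_l (he : e ∈ 𝐎 (p i) ⊓ 𝐎 (l j)) (e1 : e ≠ 1) : e ∉ 𝐎 (l k) := fun a =>
  h.li.ne jk ((h.cfg ij).eq_of_mem (h.cfg ik) he a e1)

theorem not_p (he : e ∈ 𝐎 (p j) ⊓ 𝐎 (l k)) (e1 : e ≠ 1) : e ∉ 𝐎 (p i) :=
  h.dual.not_l jk.symm ij.symm ik.symm ⟨he.2, he.1⟩ e1

theorem cm_ne (he : e ∈ 𝐎 (p i) ⊓ 𝐎 (l j)) (e1 : e ≠ 1) (hy : y ∈ 𝐎 (p j) ⊓ 𝐎 (l k)) (y1 : y ≠ 1) :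
    ⁅e, y⁆ ≠ 1 := fun a => h.not_l ij jk ik he e1 ((h.cfg ik).cent hy.2 (h.not_p ij jk ik hy y1) he.1
      (commutatorElement_eq_one_iff_mul_comm.1 a))

theorem att (he : e ∈ 𝐎 (p i) ⊓ 𝐎 (l j)) (e1 : e ≠ 1) :
    ∃ f ∈ 𝐎 (p j) ⊓ 𝐎 (l i), f ≠ 1 ∧ (e * f) ^ 3 = 1 := by
  obtain ⟨g, hg, e2⟩ := (h.cfg ik).symm.exists_cj (h.cfg jk).symm
  obtain ⟨f, hf, f1, f2⟩ := (h.cfg ik).symm.three (A := 𝐎 (p j) ⊓ 𝐎 (l i)) hg (fun a => h.pi.ne ij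
    ((H11.cj_eq_of_mem a).symm.trans e2)) he.1 (h.not_l ij jk ik he e1) (e2 ▸ inf_le_left) (fun v hv => by
      rw [e2] at hv
      obtain ⟨a, ha, b, hb, rfl⟩ := (h.cfg ij.symm).mem_sup (h.cfg jk) (h.li.ne ik) hv
      exact mul_mem (mem_sup_left ha) (mem_sup_right hb.2))
  exact ⟨f, hf, fun a => f1 (a ▸ one_mem _), f2⟩

theorem quad (he : e ∈ 𝐎 (p i) ⊓ 𝐎 (l j)) (e1 : e ≠ 1) (hf : f ∈ 𝐎 (p j) ⊓ 𝐎 (l i)) (h3 : (e * f) ^ 3 = 1)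
    (hy : y ∈ 𝐎 (p j) ⊓ 𝐎 (l k)) : e * f * e * y * (e * f * e)⁻¹ = ⁅e, y⁆ ∧ ⁅f, ⁅e, y⁆⁆ = y :=
  h.cit.quad (fun _ => (h.cfg ik).symm.sq) (le_norm_O ((h.cfg ik).symm.le he.1))
    (le_norm_O ((h.cfg jk).symm.le hf.1)) ((h.cfg ij).sq he.1) ((h.cfg jk).sq hf.1) h3
    (fun a => h.not_l ij jk ik he e1 ((h.cfg jk).symm.mem_O (h.cfg ik).symm (h.pi.ne ij.symm) he.1
      (OpOf_le (a ▸ hf.1)))) hy.2 ((h.cfg jk).comm hf.1 hy.1)

theorem inv (he : e ∈ 𝐎 (p i) ⊓ 𝐎 (l j)) (e1 : e ≠ 1) (hf : f ∈ 𝐎 (p j) ⊓ 𝐎 (l i)) (h3 : (e * f) ^ 3 = 1)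
    (hd : d ∈ ⨅ i, p i) : e * f * e * d * (e * f * e)⁻¹ = d⁻¹ := by
  obtain ⟨y, hy, y1⟩ := (h.cfg jk).exists_R
  have e2 := (h.cfg ij).sq he.1
  have w1 : e * f * e * (e * f * e) = 1 := by
    rw [mul_assoc, ← mul_assoc e (e * f), ← mul_assoc e, e2, one_mul, mul_assoc e, ← mul_assoc f,
      (h.cfg jk).sq hf.1, one_mul, e2]
  have w2 := (h.quad ij jk ik he e1 hf h3 hy).1
  have w3 := (h.cfg ik).cm_mem he.1 hy.2
  have w4 : e * f * e ∈ l k := mul_mem (mul_mem ((h.cfg ik).symm.le he.1) ((h.cfg jk).symm.le hf.1))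
    ((h.cfg ik).symm.le he.1)
  have w5 : e * f * e ∈ p k := mul_mem (mul_mem ((h.cfg jk.symm).le he.2) ((h.cfg ik.symm).le hf.2))
    ((h.cfg jk.symm).le he.2)
  generalize e * f * e = w at *
  have w6 : cj w (p j) = p i := ((h.cfg ik).symm.eq_of_mem ((h.cfg jk).symm.cfg_cj w4) ⟨w3.2, w3.1⟩
    (w2 ▸ mem_O_cj w hy.1) (h.cm_ne ij jk ik he e1 hy y1)).symm
  have w7 : cj w (p i) = p j := by rw [← w6, ← H11.cj_mul, w1, H11.cj_one]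
  refine h.cit.inv h.odd (H11.orderOf_two_of (fun a => h.pi.ne ij (by rw [← w7, a, H11.cj_one])) w1)
    (H11.mem_normalizer_of_forall fun x hx => mem_iInf.2 fun m => ?_) hd
  rcases fin3 ij jk ik m with rfl | rfl | rfl
  exacts [w6 ▸ H11.conj_mem_map_conj w (mem_iInf.1 hx j), w7 ▸ H11.conj_mem_map_conj w (mem_iInf.1 hx i),
    mul_mem (mul_mem w5 (mem_iInf.1 hx m)) (inv_mem w5)]

theorem cm_conj (he : e ∈ 𝐎 (p i) ⊓ 𝐎 (l j)) (e1 : e ≠ 1) (hy : y ∈ 𝐎 (p j) ⊓ 𝐎 (l k)) (hd : d ∈ ⨅ i, p i) :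
    ⁅d * e * d⁻¹, y⁆ = d * d * ⁅e, y⁆ * (d * d)⁻¹ := by
  obtain ⟨f, hf, -, h3⟩ := h.att ij jk ik he e1
  have h1 := (h.quad ij jk ik he e1 hf h3 (h.conj_mem (inv_mem hd) hy)).1
  rw [← conj_mul, ← conj_mul, h.inv ij jk ik he e1 hf h3 (inv_mem hd), (h.quad ij jk ik he e1 hf h3 hy).1,
    h.inv ij jk ik he e1 hf h3 (inv_mem (inv_mem hd)), inv_inv] at h1
  rw [show d * d * ⁅e, y⁆ * (d * d)⁻¹ = d * (d * ⁅e, y⁆ * d⁻¹) * d⁻¹ by simp only [mul_inv_rev, mul_assoc], h1]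
  simp only [commutatorElement_def]; group

theorem cm_conj' (he : e ∈ 𝐎 (p i) ⊓ 𝐎 (l j)) (hy : y ∈ 𝐎 (p j) ⊓ 𝐎 (l k)) (y1 : y ≠ 1) (hd : d ∈ ⨅ i, p i) :
    ⁅e, d * y * d⁻¹⁆ = d * d * ⁅e, y⁆ * (d * d)⁻¹ := by
  rw [← commutatorElement_inv, h.dual.cm_conj jk.symm ij.symm ik.symm ⟨hy.2, hy.1⟩ y1 ⟨he.2, he.1⟩
    (h.mem_dual hd), ← commutatorElement_inv y, conj_inv]

omit ij jk ik in
theorem three (hd : d ∈ ⨅ i, p i) : d ^ 3 = 1 := by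
  have ij : (0 : Fin 3) ≠ 1 := by decide
  have jk : (1 : Fin 3) ≠ 2 := by decide
  have ik : (0 : Fin 3) ≠ 2 := by decide
  obtain ⟨e, he, e1⟩ := (h.cfg ij).exists_R
  obtain ⟨y, hy, y1⟩ := (h.cfg jk).exists_R
  have h1 := h.cm_conj ij jk ik he e1 (h.conj_mem hd hy) hd
  rw [h.cm_conj' ij jk ik he hy y1 hd, ← conjugate_commutatorElement] at h1
  refine h.fix (pow_mem hd 3) (h.cm_ne ij jk ik he e1 hy y1) ((h.cfg ik).sq ((h.cfg ik).cm_mem he.1 hy.2).1) ?_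
  calc _ = d⁻¹ * (d * d * (d * d * ⁅e, y⁆ * (d * d)⁻¹) * (d * d)⁻¹) * d := by simp [pow_three, mul_assoc]
    _ = _ := by rw [← h1]; group

theorem trans (he : e ∈ 𝐎 (p i) ⊓ 𝐎 (l j)) (e1 : e ≠ 1) (hf : f ∈ 𝐎 (p i) ⊓ 𝐎 (l j)) (f1 : f ≠ 1) :
    ∃ d ∈ ⨅ i, p i, d * e * d⁻¹ = f := by
  obtain ⟨b, hb, rfl⟩ := (h.cfg ik).symm.trans he.1 (h.not_l ij jk ik he e1) hf.1 (h.not_l ij jk ik hf f1)
  have key : ∀ {j k b}, i ≠ j → j ≠ k → i ≠ k → b ∈ p i → b ∈ l k → ∃ r ∈ 𝐎 (p i) ⊓ 𝐎 (l j), r * b ∈ p j := by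
    intro j k b ij jk ik b1 b2
    obtain ⟨v, hv, a⟩ := (h.cfg ik).symm.trans_O ((h.cfg jk).symm.cfg_cj b2) (h.cfg jk).symm (fun a => h.pi.ne ij
      (H11.cj_injective b ((H11.cj_eq_of_mem b1).trans a))) (h.pi.ne ij)
    obtain ⟨r, hr, s, hs, rfl⟩ := (h.cfg ij).mem_sup (h.cfg ik) (h.li.ne jk) hv
    refine ⟨r, hr, (h.cfg jk).mem_iff.2 ?_⟩
    rwa [H11.cj_mul, H11.cj_eq_of_mem (((h.cfg jk).symm.cfg_cj b2).symm.le hs.2), ← H11.cj_mul] at a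
  obtain ⟨r, hr, r1⟩ := key ij jk ik hb.2 hb.1
  have b1 : b ∈ l j := (h.cfg ij).symm.mem_iff.2 ((h.cfg ij).eq_of_mem ((h.cfg ij).cfg_cj hb.2) hf
    (mem_O_cj b he.2) f1).symm
  have r2 := mul_mem (OpOf_le hr.1) hb.2
  obtain ⟨s, hs, s1⟩ := key ik jk.symm ij r2 (mul_mem (OpOf_le hr.2) b1)
  refine ⟨s * (r * b), mem_iInf.2 fun m => ?_, ?_⟩
  · rcases fin3 ij jk ik m with rfl | rfl | rfl
    exacts [mul_mem (OpOf_le hs.1) r2, mul_mem ((h.cfg jk).le hs.2) r1, s1]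
  · rw [show s * (r * b) * e * (s * (r * b))⁻¹ = s * r * (b * e * b⁻¹) * (s * r)⁻¹ by group,
      (h.cfg ij).comm (mul_mem hs.1 hr.1) hf.1, mul_inv_cancel_right]

omit jk ik in
theorem rel (hd : d ∈ ⨅ i, p i) (d1 : d ≠ 1) (he : e ∈ 𝐎 (p i) ⊓ 𝐎 (l j)) :
    d * (d * e * d⁻¹) * d⁻¹ = e * (d * e * d⁻¹) := by
  have := h.cit.three (fun _ => (h.cfg ij).sq) (not_e2_of_three (h.three hd) d1) (le_norm_O (mem_iInf.1 hd i))
    (by rw [← pow_three', h.three hd]; exact one_mem _) he.1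
  rw [eq_inv_of_mul_eq_one_right this, inv_eq_of_mul_eq_one_right ((h.cfg ij).sq
    (mul_mem he.1 (h.conj_mem hd he).1))]

omit ij jk ik in
theorem eq_or (hd : d ∈ ⨅ i, p i) (d1 : d ≠ 1) (hc : c ∈ ⨅ i, p i) (c1 : c ≠ 1) : c = d ∨ d * c = 1 := by
  have ij : (0 : Fin 3) ≠ 1 := by decide
  obtain ⟨e, he, e1⟩ := (h.cfg ij).exists_R
  obtain ⟨f, hf, -, h3⟩ := h.att (k := 2) ij (by decide) (by decide) he e1
  have h1 := fun x => h.inv (k := 2) (d := x) ij (by decide) (by decide) he e1 hf h3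
  have h2 := h1 _ (mul_mem hd hc)
  rw [← conj_mul, h1 d hd, h1 c hc, ← mul_inv_rev, inv_inj] at h2
  refine or_iff_not_imp_right.2 fun a => ?_
  have h4 := h.rel ij (mul_mem hd hc) a he
  rw [show d * c * (d * c * e * (d * c)⁻¹) * (d * c)⁻¹ = d * (d * (c * (c * e * c⁻¹) * c⁻¹) * d⁻¹) * d⁻¹ by
    rw [show d * c * (d * c * e * (d * c)⁻¹) * (d * c)⁻¹ = d * (c * d) * c * e * (d * (c * d) * c)⁻¹ by group, h2]
    simp only [mul_inv_rev, mul_assoc], h.rel ij hc c1 he, h.rel ij hd d1 (mul_mem he (h.conj_mem hc he)), ← conj_mul (a := e),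
    show d * (c * e * c⁻¹) * d⁻¹ = d * c * e * (d * c)⁻¹ by group, ← mul_assoc, mul_left_inj, mul_assoc e,
    mul_eq_left] at h4
  refine (inv_mul_eq_one.1 (h.fix (mul_mem (inv_mem hd) hc) e1 ((h.cfg ij).sq he.1) ?_)).symm
  rw [show d⁻¹ * c * e * (d⁻¹ * c)⁻¹ = d⁻¹ * (c * e * c⁻¹) * d by group, eq_inv_of_mul_eq_one_left h4,
    inv_eq_of_mul_eq_one_right ((h.cfg ij).sq (h.conj_mem hd he).1)]; group

omit jk ik in
theorem Y_mem (hd : d ∈ ⨅ i, p i) (he : e ∈ 𝐎 (p i) ⊓ 𝐎 (l j)) (t : K4) : Y4 d e t ∈ 𝐎 (p i) ⊓ 𝐎 (l j) :=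
  mul_mem (pow_mem he _) (pow_mem (h.conj_mem hd he) _)

omit jk ik in
theorem Y_add (hd : d ∈ ⨅ i, p i) (he : e ∈ 𝐎 (p i) ⊓ 𝐎 (l j)) (t u : K4) :
    Y4 d e (t + u) = Y4 d e t * Y4 d e u := by
  have a := (h.conj_mem hd he).1
  simp only [Y4, QuadraticAlgebra.re_add, QuadraticAlgebra.im_add,
    H11.pow_val_add ((sq e).trans ((h.cfg ij).sq he.1)), H11.pow_val_add ((sq _).trans ((h.cfg ij).sq a))]
  exact Commute.mul_mul_mul_comm ((h.cfg ij).comm (pow_mem he.1 _) (pow_mem a _)) _ _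

theorem Y_br (hd : d ∈ ⨅ i, p i) (d1 : d ≠ 1) (he : e ∈ 𝐎 (p i) ⊓ 𝐎 (l j)) (e1 : e ≠ 1)
    (hy : y ∈ 𝐎 (p j) ⊓ 𝐎 (l k)) (y1 : y ≠ 1) (t u : K4) :
    ⁅Y4 d e t, Y4 d y u⁆ = Y4 d⁻¹ ⁅e, y⁆ (t * u) := by
  have c := h.cfg ik
  have a1 := (h.conj_mem hd he).1
  have a2 := (h.conj_mem hd hy).2
  have a3 := c.cm_mem he.1 hy.2
  have a4 : d * d = d⁻¹ := eq_inv_of_mul_eq_one_left ((pow_three' d).symm.trans (h.three hd))
  have a5 := h.rel ik (inv_mem hd) (inv_ne_one.2 d1) a3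
  have a6 := (h.conj_mem (inv_mem hd) a3).1
  rw [show d⁻¹ * (d⁻¹ * ⁅e, y⁆ * d⁻¹⁻¹) * d⁻¹⁻¹ = (d * d)⁻¹ * ⁅e, y⁆ * (d * d) by
    simp only [mul_inv_rev, mul_assoc, inv_inv], a4, inv_inv d] at a5
  rw [Y4, c.cm_left (pow_mem he.1 _) (h.Y_mem jk hd hy u).2 (pow_mem a1 _), Y4,
    c.cm_right (pow_mem he.1 _) (pow_mem hy.2 _) (pow_mem a2 _),
    c.cm_right (pow_mem a1 _) (pow_mem hy.2 _) (pow_mem a2 _), cm_pow, cm_pow, cm_pow, cm_pow,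
    h.cm_conj ij jk ik he e1 hy hd, h.cm_conj' ij jk ik he hy y1 hd, ← conjugate_commutatorElement, a4, a5, Y4,
    inv_inv] at *
  generalize d⁻¹ * ⁅e, y⁆ * d = c' at *
  simp only [QuadraticAlgebra.re_mul, QuadraticAlgebra.im_mul, one_mul, Commute.mul_pow (c.comm a3.1 a6),
    H11.pow_val_add ((sq _).trans (c.sq a3.1)), H11.pow_val_add ((sq _).trans (c.sq a6))]
  simp only [mul_assoc]
  rw [Commute.left_comm (c.comm (pow_mem a6 (t.im * u.re).val) (pow_mem a3.1 _)),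
    Commute.left_comm (c.comm (pow_mem a6 (t.re * u.im).val) (pow_mem a3.1 _))]

theorem cover (he : e ∈ 𝐎 (p i) ⊓ 𝐎 (l j)) (e1 : e ≠ 1) (hd : d ∈ ⨅ i, p i) (d1 : d ≠ 1)
    (hf : f ∈ 𝐎 (p i) ⊓ 𝐎 (l j)) : ∃ t, Y4 d e t = f := by
  by_cases f1 : f = 1
  · exact ⟨0, by simp [Y4, f1]⟩
  obtain ⟨c, hc, rfl⟩ := h.trans ij jk ik he e1 hf f1
  by_cases c1 : c = 1
  · exact ⟨⟨1, 0⟩, by simp [Y4, c1, ZMod.val_one]⟩
  rcases h.eq_or hd d1 hc c1 with rfl | a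
  · exact ⟨⟨0, 1⟩, by simp [Y4, ZMod.val_one]⟩
  · refine ⟨⟨1, 1⟩, ?_⟩
    rw [eq_inv_of_mul_eq_one_right a, ← eq_inv_of_mul_eq_one_left ((pow_three' d).symm.trans (h.three hd))]
    simp only [Y4, ZMod.val_one, pow_one]
    rw [← h.rel ij hd d1 he]; simp only [mul_inv_rev, mul_assoc]

omit ij jk ik in
theorem exists_st3 (hq : 4 < Nat.card (𝐎 (p 0))) : ∃ y : Fin 3 → Fin 3 → K4 → G, H14.St3 y ∧
    ∀ i j, i ≠ j → ∀ f ∈ 𝐎 (p i) ⊓ 𝐎 (l j), ∃ t, y i j t = f := by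
  have n01 : (0 : Fin 3) ≠ 1 := by decide
  have n12 : (1 : Fin 3) ≠ 2 := by decide
  have n02 : (0 : Fin 3) ≠ 2 := by decide
  obtain ⟨a, ha, a1⟩ := (h.cfg n01).exists_R
  obtain ⟨b, hb, b1⟩ := (h.cfg n12).exists_R
  obtain ⟨a', ha', a2, a3⟩ := h.att n01 n12 n02 ha a1
  obtain ⟨b', hb', b2, b3⟩ := h.att n12 n02.symm n01.symm hb b1
  obtain ⟨d, hd, d1⟩ : ∃ d ∈ ⨅ i, p i, d ≠ 1 := by
    obtain ⟨x, hx, x1⟩ := (h.cfg n01).exists_odd hq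
    have hx' : x * a * x⁻¹ ∈ 𝐎 (p 0) ⊓ 𝐎 (l 1) := ⟨H11.conj_mem_of_mem_normalizer (le_norm_O hx.1) ha.1,
      H11.conj_mem_of_mem_normalizer (le_norm_O hx.2) ha.2⟩
    obtain ⟨d, hd, e⟩ := h.trans n01 n12 n02 ha a1 hx' (mt conj_eq_one_iff.1 a1)
    exact ⟨d, hd, fun e' => x1 (h.cit.e2 a1 (.of_sq ((h.cfg n01).sq ha.1))
      (mul_inv_eq_iff_eq_mul.1 (by simp [← e, e'])))⟩
  let E : Fin 3 → Fin 3 → G := ![![1, a, ⁅a, b⁆], ![a', 1, b], ![⁅b', a'⁆, b', 1]]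
  let η : Fin 3 → Fin 3 → G := fun i j => if j = i + 1 then d else d⁻¹
  have c1 := (h.cfg n02).cm_mem ha.1 hb.2
  have c2 := (h.cfg n02.symm).cm_mem hb'.1 ha'.2
  have h1 : ∀ i j, i ≠ j → E i j ∈ 𝐎 (p i) ⊓ 𝐎 (l j) ∧ E i j ≠ 1 := by
    intro i j e
    fin_cases i <;> fin_cases j
    exacts [absurd rfl e, ⟨ha, a1⟩, ⟨c1, h.cm_ne n01 n12 n02 ha a1 hb b1⟩, ⟨ha', a2⟩, absurd rfl e, ⟨hb, b1⟩,
      ⟨c2, h.cm_ne n12.symm n01.symm n02.symm hb' b2 ha' a2⟩, ⟨hb', b2⟩, absurd rfl e]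
  have h2 : ∀ i j, η i j ∈ ⨅ i, p i ∧ η i j ≠ 1 := fun i j => by
    dsimp only [η]; split_ifs; exacts [⟨hd, d1⟩, ⟨inv_mem hd, inv_ne_one.2 d1⟩]
  have sw : ∀ {e f : G}, (e * f) ^ 3 = 1 → (f * e) ^ 3 = 1 := fun {e f} a => by
    rw [← conj_eq_one_iff (a := e), ← a, ← conj_pow]; group
  have h3 : ∀ i j k, i ≠ j → j ≠ k → i ≠ k → ⁅E i j, E j k⁆ = E i k := by
    intro i j k ij jk ik
    have q1 : ⁅⁅a, b⁆, b'⁆ = a := by
      rw [← (h.cfg n01).cm_symm c1.1 hb'.2, ← (h.cfg n02).cm_symm ha.1 hb.2]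
      exact (h.dual.quad n12.symm n01.symm n02.symm ⟨hb.2, hb.1⟩ b1 ⟨hb'.2, hb'.1⟩ b3 ⟨ha.2, ha.1⟩).2
    have q2 := (h.quad n01 n12 n02 ha a1 ha' a3 hb).2
    have q3 := (h.quad n12.symm n01.symm n02.symm hb' b2 hb (sw b3) ha').2
    have q4 : ⁅⁅b', a'⁆, a⁆ = b' := by
      rw [← (h.cfg n12.symm).cm_symm c2.1 ha.2, ← (h.cfg n02.symm).cm_symm hb'.1 ha'.2]
      exact (h.dual.quad n01 n12 n02 ⟨ha'.2, ha'.1⟩ a2 ⟨ha.2, ha.1⟩ (sw a3) ⟨hb'.2, hb'.1⟩).2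
    fin_cases i <;> fin_cases j <;> fin_cases k <;> first
      | exact absurd rfl ij | exact absurd rfl jk | exact absurd rfl ik | assumption | rfl
  refine ⟨fun i j => Y4 (η i j) (E i j), ⟨fun i j e => h.Y_add e (h2 i j).1 (h1 i j e).1, fun i j k ij jk ik t u => ?_,
    fun i j k m ij km jk im t u => ?_⟩, fun i j ij f hf => ?_⟩
  · have : η j k = η i j ∧ η i k = (η i j)⁻¹ := by
      revert i j k; simp [η, Fin.forall_fin_succ]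
    rw [this.1, this.2, h.Y_br ij jk ik (h2 i j).1 (h2 i j).2 (h1 i j ij).1 (h1 i j ij).2 (h1 j k jk).1
      (h1 j k jk).2, h3 i j k ij jk ik]
  · have a := h.Y_mem ij (h2 i j).1 (h1 i j ij).1 t
    have b := h.Y_mem km (h2 k m).1 (h1 k m km).1 u
    obtain rfl | rfl : i = k ∨ j = m := by omega
    exacts [(h.cfg ij).comm a.1 b.1, (h.cfg ij).symm.comm a.2 b.2]
  · obtain ⟨k, jk, ik⟩ := fin3' ij
    exact h.cover ij jk ik (h1 i j ij).1 (h1 i j ij).2 (h2 i j).1 (h2 i j).2 hf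

omit ij jk ik in
theorem eq_top [IsSimpleGroup G] (hc : ∀ g, ∃ K, Cfg (p 0) K ∧ Cfg (cj g (p 0)) K)
    (hL : ∀ i j, i ≠ j → 𝐎 (p i) ⊓ 𝐎 (l j) ≤ L) : L = ⊤ := by
  have h1 : ∀ {p l : Fin 3 → Subgroup G}, Tri p l → (∀ i j, i ≠ j → 𝐎 (p i) ⊓ 𝐎 (l j) ≤ L) → ∀ i, 𝐎 (p i) ≤ L :=
    fun h hL i v hv => by
      obtain ⟨j, k, ij, ik, jk⟩ := fin3'' i
      obtain ⟨a, ha, b, hb, rfl⟩ := (h.cfg ij).mem_sup (h.cfg ik) (h.li.ne jk) hv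
      exact mul_mem (hL i j ij ha) (hL i k ik hb)
  have h2 : ∀ {p l : Fin 3 → Subgroup G}, Tri p l → (∀ i, 𝐎 (l i) ≤ L) → ∀ i K, Cfg (p i) K →
      ∃ g ∈ L, ∃ m, i ≠ m ∧ cj g (l m) = K := fun {p l} h hL i K c => by
    obtain ⟨j, k, ij, ik, jk⟩ := fin3'' i
    by_cases e : l j = K
    · exact ⟨1, one_mem _, j, ij, (H11.cj_one _).trans e⟩
    · obtain ⟨v, hv, a⟩ := (h.cfg ij).trans_O (h.cfg ik) c (h.li.ne jk) e
      exact ⟨v, hL j hv, k, ik, a⟩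
  have h3 := h1 h hL
  have h4 := h1 h.dual fun i j e => (inf_comm _ _).le.trans (hL j i e.symm)
  have h5 : normalClosure (𝐎 (p 0) : Set G) = ⊤ := (normalClosure_normal).eq_bot_or_eq_top.resolve_left fun e =>
    (h.cfg (i := 0) (j := 1) zero_ne_one).vx.ne (eq_bot_iff.2 (le_normalClosure.trans e.le))
  rw [eq_top_iff, ← h5, normalClosure, closure_le]
  intro x hx
  obtain ⟨a, ha, e⟩ := Group.mem_conjugatesOfSet_iff.1 hx
  obtain ⟨g, rfl⟩ := isConj_iff.1 e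
  obtain ⟨K, c, c'⟩ := hc g
  obtain ⟨u, hu, m, -, rfl⟩ := h2 h h4 0 K c
  replace c' := (c'.cj u⁻¹).symm
  rw [H11.cj_inv_cj] at c'
  obtain ⟨v, hv, n, -, e'⟩ := h2 h.dual h3 m _ c'
  have := mem_O_cj g ha
  rw [← H11.cj_cj_inv u (cj g _), ← e', ← H11.cj_mul, ← cj_O] at this
  exact (H11.cj_eq_of_mem (mul_mem hu hv)).le (H11.cj_mono _ (h3 n) this)

end Tri

theorem Cfg.psl3 [IsSimpleGroup G] (h : Cfg M M') (hq : 4 < Nat.card (𝐎 M))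
    (hno : ∀ H : Subgroup G, H.index ≠ 2) : Nonempty (G ≃* PSL(3, K4)) := by
  obtain ⟨K, k, n1⟩ := h.exists_ne
  obtain ⟨P, c1, n2⟩ := h.symm.exists_ne
  obtain ⟨Q, c2, n3⟩ := k.symm.exists_ne
  have n4 : P ≠ Q := fun e => n1 (h.uniq k c1.symm (e ▸ c2.symm) n2.symm)
  obtain ⟨g, -, rfl⟩ := h.symm.exists_cj c1
  obtain ⟨g', -, rfl⟩ := k.symm.exists_cj c2
  obtain ⟨J, c3, c4⟩ := c1.symm.collinear ((card_O_cj g M).symm ▸ hq) hno (g' * g⁻¹)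
  rw [H11.cj_mul, H11.cj_inv_cj] at c4
  have n5 : K ≠ J := fun e => n1 (h.uniq k c1.symm (e ▸ c3) n2.symm)
  have n6 : M' ≠ J := fun e => n1 (h.uniq k (e ▸ c4) c2.symm n3.symm)
  have t : Tri ![M, H11.cj g M, H11.cj g' M] ![J, K, M'] := by
    refine ⟨fun {i j} e => ?_, fun i j e => ?_, fun i j e => ?_⟩ <;> fin_cases i <;> fin_cases j
    exacts [absurd rfl e, k, h, c3, absurd rfl e, c1.symm, c4, c2.symm, absurd rfl e,
      rfl, absurd e n2, absurd e n3, absurd e n2.symm, rfl, absurd e n4, absurd e n3.symm, absurd e n4.symm, rfl,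
      rfl, absurd e n5.symm, absurd e n6.symm, absurd e n5, rfl, absurd e n1.symm, absurd e n6, absurd e n1, rfl]
  obtain ⟨y, hy, h1⟩ := t.exists_st3 hq
  have hZ : center G = ⊥ := (normal_of_characteristic _).eq_bot_or_eq_top.resolve_right fun e => by
    obtain ⟨w, hw, w1⟩ := h.nle
    exact w1 (h.cent_O.le fun v _ => mem_center_iff.1 (e.ge (mem_top w)) v)
  have ed : H14.Edge (fun b => if b then y 0 1 else y 1 0) (fun b => if b then y 1 2 else y 2 1) :=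
    ⟨y, hy, rfl, rfl, rfl, rfl⟩
  obtain ⟨f, hf⟩ := (H28.rgA 2 K4).exists_surj_sl (fun _ _ => rfl) (H28.rgA_grp 2 K4)
    (fun i => by simp only [H28.carA]; revert i; decide) hZ
    ![fun b => if b then y 0 1 else y 1 0, fun b => if b then y 1 2 else y 2 1]
    (fun i b t u => by fin_cases i <;> cases b <;> exact hy.add _ _ (by decide) t u)
    (fun i j e => by
      rw [H28.carA] at e
      fin_cases i <;> fin_cases j
      exacts [absurd e (by decide), ed, ed.symm, absurd e (by decide)])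
    (fun i j e => absurd e (by rw [H28.carA]; revert i j; decide)) fun L hL => t.eq_top (h.collinear hq hno)
      fun i j ij x hx => by
        obtain ⟨t, rfl⟩ := h1 i j ij x hx
        have a : ∀ {a b}, a ∈ L → b ∈ L → ⁅a, b⁆ ∈ L := fun a b =>
          mul_mem (mul_mem (mul_mem a b) (inv_mem a)) (inv_mem b)
        have a1 : y 0 2 (t * 1) ∈ L :=
          hy.br 0 1 2 (by decide) (by decide) (by decide) t 1 ▸ a (hL 0 true t) (hL 1 true 1)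
        have a2 : y 2 0 (t * 1) ∈ L :=
          hy.br 2 1 0 (by decide) (by decide) (by decide) t 1 ▸ a (hL 1 false t) (hL 0 false 1)
        rw [mul_one] at a1 a2
        fin_cases i <;> fin_cases j
        exacts [absurd rfl ij, hL 0 true t, a1, hL 0 false t, absurd rfl ij, hL 1 true t, a2, hL 1 false t,
          absurd rfl ij]
  haveI := H12.PSL_fin_simple (F := K4) 3 (by decide) (by decide)
  exact H14.equiv_quot hf fun x hx => mem_bot.1 (hZ ▸ mem_center_iff.2 (hf.forall.2 fun z => by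
    rw [← map_mul, mem_center_iff.1 hx, map_mul]))

end Cfsg.Agent.H4
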