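import Cfsg.Agent.H4.PH1
import Cfsg.Agent.H1.ONS
import Cfsg.Agent.H25.Comp2

/-! Groups of order prime to three with an automorphism of order three with odd fixed points. -/

set_option autoImplicit false
set_option linter.style.haveILetI false
set_option linter.unusedSectionVars false

namespace Cfsg.Agent.H4P

open Subgroup H20 H21 H25 BG

universe u

variable {G : Type u} [Group G] [Finite G]

theorem fpf_elem {p q : ℕ} [hp : Fact p.Prime] [hq : Fact q.Prime] (hpq : p ≠ q) (q2 : q ≠ 2)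
    {X R V : Subgroup G} (hX : (♯X).Prime) (h1 : p ≠ ♯X) (h2 : q ≠ ♯X) (hR : IsPGroup q R)
    (hXR : X ≤ N⟦R⟧) (hV : IsElementaryAbelian p V) (hXV : X ≤ N⟦V⟧) (hRV : R ≤ N⟦V⟧)
    (hCV : V ⊓ C⟦X⟧ = ⊥) : ⁅R, X⁆ ≤ C⟦V⟧ := by
  by_contra h
  have hcop : (♯R).Coprime (♯X) := coprime_of_isPGroup hR ((Nat.coprime_primes hX hq.1).2 h2.symm)
  obtain ⟨K, Z₀, hK, hm⟩ := exists_minAct (C := C⟦V⟧) hXR le_rfl le_normalizer (norm_cent hRV)
    (norm_cent hXV) hcop (sol_of_pgroup hR) h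
  have hKq : IsPGroup q K := hR.to_le hK
  have hcK := coprime_of_le_left hcop hK
  obtain ⟨R₁, N, Z, m, ψ, hR₁, hc, -, hN', hN, -, h0, -⟩ := exists_comp hV (hK.trans hRV) hXV hm.norm
    (comm_of_cyclic (isCyclic_of_card_prime hX)) hcK
    (coprime_of_isPGroup hKq ((Nat.coprime_primes hp.1 hq.1).2 hpq))
    ((Nat.coprime_primes hX hp.1).2 h1.symm) hm.cl (NormalIn.refl K) (NormalIn.bot K)
    (fun h => hm.not_le (cent_symm (by simpa [cent_bot] using h)))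
  replace h0 := h0 hCV
  obtain rfl := eq_of_le_of_card_prime hX hR₁ (hc.ne_bot h0)
  exact q2 (hc.fermat h0 hm.norm hX hcK hKq (hm.cent.trans (hm.le_Z hc.toSym hN')) fun h =>
    hN (hm.commg.ge.trans ((commutator_mono h le_rfl).trans hc.centR))).1

theorem fpf_pgroup {p q : ℕ} [hp : Fact p.Prime] [hq : Fact q.Prime] (hpq : p ≠ q) (q2 : q ≠ 2)
    {X R V : Subgroup G} (hX : (♯X).Prime) (h1 : p ≠ ♯X) (h2 : q ≠ ♯X) (hR : IsPGroup q R)
    (hXR : X ≤ N⟦R⟧) (hV : IsPGroup p V) (hXV : X ≤ N⟦V⟧) (hRV : R ≤ N⟦V⟧)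
    (hCV : V ⊓ C⟦X⟧ = ⊥) : ⁅R, X⁆ ≤ C⟦V⟧ := by
  have hcop : (♯V).Coprime (♯X) := coprime_of_isPGroup hV ((Nat.coprime_primes hX hp.1).2 h1.symm)
  have n1 := norm_frattiniOf hXV
  have n2 := norm_frattiniOf hRV
  have n3 := norm_frattiniOf (le_norm_self V)
  have e : ♯(quo X (frattiniOf V)) = ♯X := card_quo_of_disjoint n1
    (inf_eq_bot_coprime (coprime_of_le_left hcop (frattiniOf_le V)).symm)
  have h3 := fpf_elem hpq q2 (e ▸ hX) (e ▸ h1) (e ▸ h2) (quo_isPGroup hR _) (quo_norm _ hXR)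
    (elem_quo_frattiniOf hV) (quo_norm _ hXV) (quo_norm _ hRV) (by
      rw [← coprime_quo_cent' n3 n1 hXV hcop (Or.inr (sol_of_pgroup hV)), hCV, quo_bot])
  have h4 := commg_le_left hXR
  rw [← quo_commg n2 n1, quo_le_cent_iff (h4.trans n2) n3, commutator_comm] at h3
  exact coprime_cent_frattiniOf (h4.trans hRV) (coprime_of_isPGroup hV (coprime_of_isPGroup
    (hR.to_le h4) ((Nat.coprime_primes hp.1 hq.1).2 hpq))) h3

variable {K X : Subgroup G}

theorem two_inf {V : Subgroup G} (ho : Odd ♯(K ⊓ C⟦X⟧)) (h : IsPGroup 2 V) (hle : V ≤ K) :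
    V ⊓ C⟦X⟧ = ⊥ := eq_bot_iff.2 ((inf_eq_bot_coprime (coprime_of_isPGroup h
      (Nat.coprime_two_right.2 ho))).le.trans' (le_inf inf_le_left (inf_le_inf_right _ hle)))

theorem commg_le_ppcore (hX : (♯X).Prime) (hc : (♯K).Coprime ♯X) (hn : X ≤ N⟦K⟧)
    (hK : Group.IsSolvable K) (ho : Odd ♯(K ⊓ C⟦X⟧)) (x2 : 2 ≠ ♯X) : ⁅K, X⁆ ≤ pPrimePCoreOf 2 K := by
  have key : ∀ {G : Type u} [Group G] [Finite G] {K X : Subgroup G}, (♯X).Prime → (♯K).Coprime ♯X →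
      X ≤ N⟦K⟧ → Group.IsSolvable K → Odd ♯(K ⊓ C⟦X⟧) → 2 ≠ ♯X → piCoreOf {2}ᶜ K = ⊥ →
      ⁅K, X⁆ ≤ piCoreOf {2} K := by
    intro G _ _ K X hX hc hn hK ho x2 h0
    obtain ⟨H, h1, h2⟩ := exists_inv_hall {2}ᶜ hn hc hK
    refine coprime_commg_le_piCoreOf hn hc hK h1 (le_of_forall_sylow fun q hq d => ?_)
    haveI := Fact.mk hq
    have c1 := coprime_of_le_left hc (Hall.le h1)
    obtain ⟨R, r1, r2⟩ := exists_inv_sylow q h2 c1 (H1.solOr_of_coprime c1)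
    have q2 : q ≠ 2 := Hall.isPi h1 q hq d
    have r3 := (Hall.le r1).trans (Hall.le h1)
    have h3 := fpf_pgroup q2.symm q2 hX x2 (fun e => hq.ne_one
      (Nat.Coprime.eq_one_of_dvd (e ▸ c1.symm) d)) (Hall.isPGroup r1) r2 (isPGroup_piCoreOf 2 K)
      (norm_piCoreOf _ hn) (r3.trans (piCoreOf_normalIn _ _).norm)
      (two_inf ho (isPGroup_piCoreOf 2 K) (piCoreOf_le _ _))
    have h4 := commg_le_left r2
    exact ⟨R, r1, commg_eq_bot.1 (eq_bot_iff.2 (((isPi_piCoreOf {2} K).inf_eq_bot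
      (Hall.isPi h1)).le.trans' (le_inf ((le_inf (h4.trans r3) h3).trans (cent_pCoreOf_le hK h0))
      (h4.trans (Hall.le r1)))))⟩
  have n1 := norm_piCoreOf {2}ᶜ hn
  have n2 := (piCoreOf_normalIn {2}ᶜ K).norm
  have e : ♯(quo X (piCoreOf {2}ᶜ K)) = ♯X := card_quo_of_disjoint n1
    (inf_eq_bot_coprime (coprime_of_le_left hc (piCoreOf_le _ K)).symm)
  have h3 := key (e ▸ hX) (coprime_quo_quo hc _) (quo_norm _ hn) (quo_solvable hK _) (by
    rw [← coprime_quo_cent' n2 n1 hn hc (Or.inr hK)]; exact odd_quo ho _) (e ▸ x2)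
    (quo_piCoreOf_self _ K)
  rwa [← quo_commg n2 n1, ← quo_ppcore, quo_le_quo_iff_of_le ((commg_le_left hn).trans n2)
    (pPrimeCoreOf_le_ppcore 2 K)] at h3

theorem sz_fix (h : Lie.IsoSuzuki K) (hX : ♯X = 3) (h3 : ¬ 3 ∣ ♯K) (hn : X ≤ N⟦K⟧) :
    ¬ Odd ♯(K ⊓ C⟦X⟧) := fun ho => by
  obtain ⟨F, _, _, m, hm, hF, ⟨e⟩⟩ := h
  have hc : (♯K).Coprime ♯X := hX ▸ (Nat.prime_three.coprime_iff_not_dvd.2 h3).symm
  obtain ⟨T, t1, t2⟩ := exists_inv_sylow 2 hn hc (H1.solOr_of_coprime hc)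
  obtain ⟨V, B, -, c⟩ := GO.bf_Sz hm hF e (T := T)
    ⟨Hall.le t1, Hall.isPGroup t1, fun Q a b c => Hall.pgroup_eq_of_le t1 a b c⟩
  have h4 := H1.card_modEq_of_fpf (A := X) (K := V) (fun x hx => mem_norm_of_forall fun v hv =>
    (B.mem _).2 ⟨conj_mem_of_norm (t2 hx) ((B.mem _).1 hv).1, by
      rw [conj_mul, ((B.mem _).1 hv).2]; simp⟩) fun a a1 a2 => by
    rw [cent1_eq_of_card_prime (hX ▸ Nat.prime_three) a1 a2]
    exact two_inf ho ((Hall.isPGroup t1).to_le B.toOS.le) (B.toOS.le.trans (Hall.le t1))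
  rw [hX, c, Nat.card_eq_fintype_card, hF, pow_succ, pow_mul] at h4
  exact absurd (h4.symm.trans (((show 2 ^ 2 ≡ 1 [MOD 3] by decide).pow m).mul_right 2)) (by simp; decide)

theorem solv_three (G : Type u) [Group G] [Finite G] : ∀ K X : Subgroup G, K.Normal → ♯X = 3 →
    ¬ 3 ∣ ♯K → Odd ♯(K ⊓ C⟦X⟧) → Group.IsSolvable K := by
  refine H2.card_induction (P := fun G _ _ => ∀ K X : Subgroup G, K.Normal → ♯X = 3 →
    ¬ 3 ∣ ♯K → Odd ♯(K ⊓ C⟦X⟧) → Group.IsSolvable K) ?_ G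
  intro G _ _ ih K X hK hX h3 ho
  by_cases h0 : K = ⊥
  · rw [h0]; infer_instance
  obtain ⟨V, hV, v1⟩ := H2.exists_isMinNormal_le hK h0
  haveI := hV.normal
  have hc : (♯K).Coprime ♯X := hX ▸ (Nat.prime_three.coprime_iff_not_dvd.2 h3).symm
  by_cases c : IsMulCommutative V
  · haveI := ih _ (card_quo_lt V hV.ne_bot) (K.map (QuotientGroup.mk' V)) (X.map (QuotientGroup.mk' V))
      (hK.map _ (QuotientGroup.mk'_surjective V)) (by
        rw [← hX, ← relIndex_ker, QuotientGroup.ker_mk', ← inf_relIndex_right,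
          inf_eq_bot_coprime (coprime_of_le_left hc v1), relIndex_bot_left])
      (fun e => h3 (e.trans (card_map_dvd _ _))) (by
        rw [← coprime_map_cent _ le_normalizer_of_normal hc (H1.solOr_of_coprime hc)]
        exact ho.of_dvd_nat (card_map_dvd _ _))
    haveI := sol_of_comm c
    exact Group.isSolvable_of_ker_le_range (inclusion v1) ((QuotientGroup.mk' V).subgroupMap K) fun x hx =>
      ⟨⟨x, (QuotientGroup.eq_one_iff _).1 (congrArg Subtype.val hx)⟩, rfl⟩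
  obtain ⟨T, hT⟩ := H1.exists_fac hV c
  haveI := hT.simple
  have t1 := hT.le.trans v1
  obtain ⟨x, x1, x2⟩ := exists_prime_order_mem (A := X) Nat.prime_three hX.symm.dvd
  obtain rfl := eq_zpowers_of_card_prime (hX ▸ Nat.prime_three) x1 (by rintro rfl; simp at x2)
  by_cases e : cj x T = T
  · exact (sz_fix (H4S.sz_of_three hT.na' fun e => h3 (e.trans (card_dvd t1))) hX
      (fun e => h3 (e.trans (card_dvd t1))) (zpowers_le.2 (mem_norm_iff_cj.2 e))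
      (odd_of_le ho (inf_le_inf_right _ t1))).elim
  have x3 : x * x * x = 1 := by rw [← pow_three', ← x2, pow_orderOf_eq_one]
  have e' : cj (x * x) T ≠ T := fun r => e (by rw [← r, ← cj_mul, ← mul_assoc, x3, cj_one, r])
  obtain ⟨t, t2, t3⟩ := H11.exists_invol_of_even (FT.even_of_simple hT.na')
  have t4 := H11.mul_self_of_orderOf_two t3
  have a1 := hT.cent (hT.cj x) (Ne.symm e) t2 _ (conj_mem_cj.2 t2)
  have a2 := hT.cent (hT.cj (x * x)) e'.symm t2 _ (conj_mem_cj.2 t2)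
  have a3 : Commute (x * t * x⁻¹) (x * x * t * (x * x)⁻¹) := by
    simpa [mul_assoc] using (show Commute t _ from a1.symm).conj x
  have y1 : t * (x * t * x⁻¹ * (x * x * t * (x * x)⁻¹)) ∈ K ⊓ C⟦zpowers x⟧ := by
    refine ⟨mul_mem (t1 t2) (mul_mem (hK.conj_mem _ (t1 t2) _) (hK.conj_mem _ (t1 t2) _)),
      (cent_zpowers x).ge (mem_cent1.2 ?_)⟩
    calc _ = x * t * x⁻¹ * (x * x * t * (x * x)⁻¹) * (x * x * x * t * (x * x * x)⁻¹) * x := by
          rw [x3, one_mul, inv_one, mul_one, ((show Commute t _ from a1.symm).mul_right a2.symm).eq]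
      _ = _ := by group
  have y2 := H11.orderOf_two_of (x := t * (x * t * x⁻¹ * (x * x * t * (x * x)⁻¹))) (fun r => ?_) (by
    rw [← sq, ((show Commute t _ from a1.symm).mul_right a2.symm).mul_pow, a3.mul_pow, conj_pow,
      conj_pow, sq, t4]; simp)
  · exact absurd (ho.of_dvd_nat (y2 ▸ orderOf_dvd_natCard _ y1)) (by decide)
  refine (H11.ne_one_of_orderOf_two t3 (mem_bot.1 (hT.inf_cent ▸ ⟨t2, ?_⟩))).elim
  rw [eq_inv_of_mul_eq_one_left r]
  exact (C⟦T⟧).inv_mem (mul_mem ((hT.cj x).cent hT e (conj_mem_cj.2 t2)) ((hT.cj _).cent hT e' (conj_mem_cj.2 t2)))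

end Cfsg.Agent.H4P
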