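import Cfsg.Agent.GW.SE
import Cfsg.Agent.GW.PG2
import Cfsg.Agent.H4.PermChar
import Cfsg.Agent.H1.ThompsonFPF
import Cfsg.Agent.S3779

/-!
# Groups with a self-centralizing element of order three: invariant `3'`-subgroups
-/

set_option autoImplicit false
set_option linter.style.haveILetI false
set_option linter.unusedSectionVars false

namespace Cfsg.Agent.H4

open Subgroup Cfsg.Agent.H10 Cfsg.Agent.H4
open Cfsg.Agent.H11 (cj IsSylIn)
open scoped commutatorElement ComplexConjugate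

variable {G : Type*} [Group G] [Finite G] {x y a g v : G} {A B H M : Subgroup G} {p : ℕ}

/-- `x` is a self-centralizing element of order three. -/
structure SC3 (x : G) : Prop where
  ord : orderOf x = 3
  cent : centralizer {x} = zpowers x

/-- `A` is an `x`-invariant `3'`-subgroup. -/
structure I3 (x : G) (A : Subgroup G) : Prop where
  norm : x ∈ normalizer (A : Set G)
  cop : (Nat.card A).Coprime 3

theorem I3.of_le (h : I3 x A) (hB : B ≤ A) (hn : x ∈ normalizer (B : Set G)) : I3 x B :=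
  ⟨hn, coprime_card_of_le hB h.cop⟩

theorem I3.OpOf (h : I3 x A) (p : ℕ) : I3 x (OpOf p A) :=
  h.of_le OpOf_le (normalizer_le_normalizer_OpOf h.norm)

theorem I3.cj (h : I3 x A) (g : G) : I3 (g * x * g⁻¹) (cj g A) :=
  ⟨by rw [← H11.cj_normalizer, H11.mem_cj]; simpa [mul_assoc] using h.norm, H11.card_cj g A ▸ h.cop⟩

theorem I3.sup (h : I3 x A) (h' : I3 x B) (hn : A ≤ normalizer (B : Set G)) : I3 x (A ⊔ B) :=
  ⟨zpowers_le.1 (le_normalizer_sup (zpowers_le.2 h.norm) (zpowers_le.2 h'.norm)),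
    coprime_card_sup hn h.cop h'.cop⟩

theorem I3.bot : I3 x ⊥ := ⟨by simp, by simp⟩

theorem zpowers_eq_of_three (hx : orderOf x = 3) (hy : y ∈ zpowers x) (h1 : y ≠ 1) :
    zpowers y = zpowers x :=
  eq_of_le_of_card_ge (zpowers_le.2 hy) (by
    have h2 := orderOf_dvd_of_mem_zpowers hy
    rw [Nat.card_zpowers, Nat.card_zpowers, hx, ((Nat.dvd_prime Nat.prime_three).1
      (hx ▸ h2)).resolve_left (mt orderOf_eq_one_iff.1 h1)])

theorem mem_zpowers_three (hx : orderOf x = 3) (hy : y ∈ zpowers x) : y = 1 ∨ y = x ∨ y = x⁻¹ := by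
  classical
  obtain ⟨k, hk, rfl⟩ := Finset.mem_image.1 ((mem_zpowers_iff_mem_range_orderOf (y := y)).1 hy)
  rw [hx, Finset.mem_range] at hk
  interval_cases k
  · simp
  · simp
  · exact .inr (.inr (eq_inv_of_mul_eq_one_left ((pow_succ x 2).symm.trans (show x ^ 3 = 1 from hx ▸ pow_orderOf_eq_one x))))

namespace SC3

variable (h : SC3 x)
include h

theorem ne_one : x ≠ 1 := fun e => by have := h.ord; rw [e, orderOf_one] at this; omega

theorem cube : x * x * x = 1 := by rw [← pow_three', ← h.ord, pow_orderOf_eq_one]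

theorem card : Nat.card (zpowers x) = 3 := (Nat.card_zpowers x).trans h.ord

theorem cj (g : G) : SC3 (g * x * g⁻¹) :=
  ⟨(H11.orderOf_conj g x).trans h.ord, by rw [← H11.cj_cent1, ← H11.cj_zpowers, h.cent]⟩

theorem of_mem (hy : y ∈ zpowers x) (h1 : y ≠ 1) : SC3 y := by
  have e := zpowers_eq_of_three h.ord hy h1
  exact ⟨by rw [← Nat.card_zpowers, e, h.card], by
    rw [← centralizer_zpowers, e, centralizer_zpowers, h.cent]⟩

theorem syl : IsSylIn 3 (zpowers x) ⊤ := by
  haveI := Fact.mk Nat.prime_three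
  obtain ⟨Q, hQ, h1⟩ := H11.exists_isSylIn_le (isPGroup_zpowers h.ord) le_top
  obtain ⟨z, hz, h2, h3⟩ := H11.exists_orderOf_eq_centralizer_of_normalized hQ.pg hQ.pg
    (fun e => h.ne_one (by simpa [e] using h1 (mem_zpowers x))) le_normalizer
  have h4 := h.of_mem (h.cent ▸ H11.mem_cent1.2 (h3 x (h1 (mem_zpowers x))).symm)
    fun e => by simp [e] at h2
  rwa [← eq_of_le_of_card_ge h1 ((card_le_of_le fun q hq => h4.cent.le
    (H11.mem_cent1.2 (h3 q hq))).trans (h4.card.trans h.card.symm).le)] at hQ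

theorem of_ord (hy : orderOf y = 3) : SC3 y := by
  haveI := Fact.mk Nat.prime_three
  obtain ⟨g, -, hg⟩ := h.syl.exists_conj_mem (k := 1) hy trivial
  simpa [mul_assoc] using (h.of_mem hg fun e => by
    have := H11.orderOf_conj g y; rw [e, hy, orderOf_one] at this; omega).cj g⁻¹

theorem cop_cent (hA : (Nat.card A).Coprime 3) (h1 : A ≠ ⊥) :
    (Nat.card (centralizer (A : Set G))).Coprime 3 := by
  haveI := Fact.mk Nat.prime_three
  refine ((Nat.Prime.coprime_iff_not_dvd Nat.prime_three).2 fun e => h1 ?_).symm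
  obtain ⟨y, hy, h2⟩ := exists_orderOf_eq_of_dvd e
  exact eq_bot_of_isPGroup_of_coprime ((isPGroup_zpowers h2).to_le
    ((h.of_ord h2).cent ▸ le_centralizer_singleton_iff.2 hy)) hA

theorem i3_cent (hA : I3 x A) (h1 : A ≠ ⊥) : I3 x (centralizer (A : Set G)) :=
  ⟨normalizer_le_normalizer_centralizer A hA.norm, h.cop_cent hA.cop h1⟩

theorem fpf (hA : (Nat.card A).Coprime 3) : A ⊓ centralizer {x} = ⊥ :=
  haveI := Fact.mk Nat.prime_three
  h.cent ▸ (inf_comm _ _).trans (disjoint_of_isPGroup_of_coprime (isPGroup_zpowers h.ord) hA)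

theorem nilp (hA : I3 x A) : Group.IsNilpotent A :=
  H1.isNilpotent_of_fpf hA.norm (h.ord ▸ Nat.prime_three) (h.fpf hA.cop)

theorem card_mod (hA : I3 x A) : Nat.card A % 3 = 1 := by
  haveI := Fact.mk Nat.prime_three
  have := relIndex_dvd_card_sub_one (zpowers x) ⊥ A (zpowers_le.2 hA.norm) fun y hy k hk k1 e =>
    by_contra fun y1 => k1 (mem_bot.1 ((h.of_mem hy y1).fpf hA.cop ▸ ⟨hk, H11.mem_cent1.2 e.symm⟩))
  rw [relIndex_bot_left, h.card] at this
  have := Nat.card_pos (α := A)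
  omega

theorem fpf' (hA : I3 x A) (a : A) (e : A.normalizerMonoidHom ⟨x, hA.norm⟩ a = a) : a = 1 :=
  Subtype.ext (mem_bot.1 (h.fpf hA.cop ▸ ⟨a.2, H11.mem_cent1.2
    (mul_inv_eq_iff_eq_mul.1 (congrArg Subtype.val e)).symm⟩))

theorem class_two (hA : I3 x A) : ⁅⁅A, A⁆, A⁆ = ⊥ := by
  by_cases h0 : A = ⊥
  · simp [h0]
  haveI := Fact.mk Nat.prime_three
  have := congrArg (map A.subtype) ((S3779.result Nat.prime_three _ (orderOf_eq_prime (by
    rw [← map_pow, ← map_one A.normalizerMonoidHom]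
    exact congrArg _ (Subtype.ext ((pow_three' x).trans h.cube))) fun e => h0 (eq_bot_iff.2 fun a ha =>
      congrArg Subtype.val (h.fpf' hA ⟨a, ha⟩ (by rw [e]; rfl)))) (h.fpf' hA)).2.1 rfl)
  change map A.subtype ⁅⁅⊤, ⊤⁆, ⊤⁆ = _ at this
  rwa [map_commutator, map_commutator, ← MonoidHom.range_eq_map, range_subtype, Subgroup.map_bot] at this

theorem prod (hA : I3 x A) (ha : a ∈ A) : a * (x * a * x⁻¹) * (x⁻¹ * a * x) = 1 := by
  have := MonoidHom.FixedPointFree.prod_pow_eq_one (φ := A.normalizerMonoidHom ⟨x, hA.norm⟩)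
    (h.fpf' hA) (n := 3) (funext fun b => Subtype.ext (by
      change x * (x * (x * b * x⁻¹) * x⁻¹) * x⁻¹ = b
      calc _ = x * x * x * b * (x * x * x)⁻¹ := by group
        _ = _ := by rw [h.cube]; group)) ⟨a, ha⟩
  have h1 : a * (x * a * x⁻¹ * (x * (x * a * x⁻¹) * x⁻¹)) = 1 := by
    simpa [List.range_succ] using congrArg Subtype.val this
  rw [← h1]
  calc _ = a * (x * a * x⁻¹) * (x⁻¹ * (x * x * x) * a * (x * x * x)⁻¹ * x) := by rw [h.cube]; group
    _ = _ := by group

theorem comm (hA : I3 x A) (ha : a ∈ A) : a * (x * a * x⁻¹) = x * a * x⁻¹ * a := by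
  have h1 := h.prod hA (inv_mem ha)
  rw [← inv_inj, mul_eq_one_iff_inv_eq.1 (h.prod hA ha)]
  calc _ = (a⁻¹ * (x * a⁻¹ * x⁻¹) * (x⁻¹ * a⁻¹ * x)) * (x⁻¹ * a * x) := by rw [h1, one_mul]
    _ = _ := by group

theorem cent_inv (hA : I3 x A) (hv : v ∈ A) :
    x ∈ normalizer ((A ⊓ centralizer {v} : Subgroup G) : Set G) := by
  have key : ∀ y ∈ A ⊓ centralizer {x * v * x⁻¹}, x * y * x⁻¹ ∈ A ⊓ centralizer {v} := fun y hy => by
    refine ⟨H11.conj_mem_of_mem_normalizer hA.norm hy.1, H11.mem_cent1.2 ?_⟩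
    have h1 := h.comm hA (mul_mem hv hy.1)
    rw [← conj_mul] at h1
    have h2 := H11.mem_cent1.1 hy.2
    have h3 := h.comm hA hy.1
    have h4 := h.comm hA hv
    generalize x * v * x⁻¹ = v' at *
    generalize x * y * x⁻¹ = y' at *
    refine mul_left_cancel (a := v') (mul_right_cancel (b := y) ?_)
    calc _ = v * (y * v') * y' := by simpa [mul_assoc] using h1.symm
      _ = _ := by rw [h2, ← mul_assoc v, h4, mul_assoc, h3]; group
  have h1 : x * x ∈ normalizer ((A ⊓ centralizer {v} : Subgroup G) : Set G) :=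
    H11.mem_normalizer_of_forall fun y hy => by
      have := key (x * y * x⁻¹) ⟨H11.conj_mem_of_mem_normalizer hA.norm hy.1, by
        rw [← H11.cj_cent1]; exact H11.mem_cj.2 (by simpa [mul_assoc] using hy.2)⟩
      simpa [mul_assoc] using this
  have := inv_mem h1
  rwa [mul_eq_one_iff_inv_eq.1 h.cube] at this

theorem sub (hx : x ∈ H) : SC3 (⟨x, hx⟩ : H) :=
  ⟨(orderOf_mk _ _).trans h.ord, by
    rw [GW.cent_subgroupOf, h.cent]
    exact map_injective H.subtype_injective (by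
      rw [subgroupOf_map_subtype, MonoidHom.map_zpowers, inf_eq_left.2 (zpowers_le.2 hx)]; rfl)⟩

theorem compl (hc : ¬ IsConj x x⁻¹) : ∃ K : Subgroup G, K.Normal ∧ K.index = 3 ∧ I3 x K := by
  haveI := Fact.mk Nat.prime_three
  obtain ⟨P, hP⟩ := h.syl.exists_sylow_top
  have h1 : normalizer ((P : Subgroup G) : Set G) ≤ centralizer ((P : Subgroup G) : Set G) := by
    rw [hP, centralizer_zpowers]
    intro g hg
    rcases mem_zpowers_three h.ord (H11.conj_mem_of_mem_normalizer hg (mem_zpowers x)) with e | e | e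
    · exact (h.ne_one (by simpa using e)).elim
    · exact H11.mem_cent1.2 (mul_inv_eq_iff_eq_mul.1 e)
    · exact (hc (isConj_iff.2 ⟨g, e⟩)).elim
  exact ⟨_, inferInstance, (MonoidHom.ker_transferSylow_isComplement' P h1).symm.index_eq_card.trans
    (hP ▸ h.card), by rw [normalizer_eq_top]; trivial, ((Nat.Prime.coprime_iff_not_dvd Nat.prime_three).2
      (MonoidHom.not_dvd_card_ker_transferSylow P h1)).symm⟩

theorem char_sum (hc : IsConj x x⁻¹) : ∃ n : ℕ, 0 < n ∧ ∑ χ : IrrCharacter G, (χ : G → ℂ) x *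
    (χ : G → ℂ) x * conj ((χ : G → ℂ) x) / (χ : G → ℂ) 1 = (1 + 1 / n - 1 / (n + 1) : ℚ) := by
  classical
  haveI := Fintype.ofFinite G
  choose a ha using fun χ : IrrCharacter G => χ.2.isCharacter.isGen.exists_int_of_forall_pow (g := x)
    fun m hm => by
      rcases mem_zpowers_three h.ord (pow_mem (mem_zpowers x) m) with e | e | e
      · have := hm.eq_one_of_dvd.mt
        rw [h.ord] at hm
        exact absurd (hm.symm.eq_one_of_dvd (h.ord ▸ orderOf_dvd_of_pow_eq_one e)) (by decide)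
      · rw [e]
      · rw [e, χ.2.isClassFunction.of_isConj hc]
  have e1 := column_orthogonality_of_isConj (IsConj.refl x)
  have e2 := column_orthogonality_of_not_isConj (g := x) (h := 1) (by simpa using h.ne_one)
  simp only [ha, ← H6.irr_deg_cast, map_intCast, map_natCast, h.cent, h.card] at e1 e2 ⊢
  replace e1 : ∑ χ, a χ * a χ = 3 := by exact_mod_cast e1
  replace e2 : ∑ χ, a χ * charDegree (χ : G → ℂ) = 0 := by exact_mod_cast e2
  have a1 : a (irrOne G) = 1 := by exact_mod_cast (ha _).symm.trans (show _ = (1 : ℂ) from rfl)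
  have d1 : charDegree (irrOne G : G → ℂ) = 1 := by
    exact_mod_cast (H6.irr_deg_cast (irrOne G)).trans (show _ = (1 : ℂ) from rfl)
  have h1 : ∀ χ, a χ ≠ 0 → a χ * a χ = 1 := fun χ e => by
    have := Finset.single_le_sum (f := fun χ => a χ * a χ) (fun χ _ => mul_self_nonneg _)
      (Finset.mem_univ χ)
    rcases (by omega : a χ ≤ -2 ∨ a χ = -1 ∨ a χ = 1 ∨ 2 ≤ a χ) with e | e | e | e
    · nlinarith
    · simp [e]
    · simp [e]
    · nlinarith
  have h2 : (Finset.univ.filter fun χ => a χ ≠ 0).card = 3 := by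
    rw [← Finset.sum_subset (Finset.subset_univ (Finset.univ.filter fun χ => a χ ≠ 0)) (by simp),
      Finset.sum_congr rfl fun χ hχ => h1 χ (Finset.mem_filter.1 hχ).2, Finset.sum_const, nsmul_eq_mul,
      mul_one] at e1
    exact_mod_cast e1
  have h3 : irrOne G ∈ Finset.univ.filter fun χ => a χ ≠ 0 := by simp [a1]
  obtain ⟨p, q, hpq, h4⟩ := Finset.card_eq_two.1 ((Finset.card_erase_of_mem h3).trans (by rw [h2]))
  have key : ∀ {M : Type} [AddCommMonoid M] (F : IrrCharacter G → M), (∀ χ, a χ = 0 → F χ = 0) →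
      ∑ χ, F χ = F (irrOne G) + (F p + F q) := fun F hF => by
    rw [← Finset.sum_subset (Finset.subset_univ (Finset.univ.filter fun χ => a χ ≠ 0))
      fun χ _ e => hF χ (by simpa using e), ← Finset.add_sum_erase _ _ h3, h4, Finset.sum_pair hpq]
  have h5 : ∀ χ ∈ ({p, q} : Finset _), a χ = 1 ∨ a χ = -1 := fun χ e => mul_self_eq_one_iff.1
    (h1 χ (Finset.mem_filter.1 (Finset.mem_of_mem_erase (h4.ge e))).2)
  rw [key _ fun χ e => by simp [e], a1, d1] at e2
  rw [key _ fun χ e => by simp [e], a1, d1]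
  have := p.2.charDegree_pos
  have := q.2.charDegree_pos
  rcases h5 p (by simp) with e | e <;> rcases h5 q (by simp) with e' | e' <;> rw [e, e'] at e2 ⊢
  · omega
  · exact ⟨_, p.2.charDegree_pos, by
      rw [show charDegree (q : G → ℂ) = charDegree (p : G → ℂ) + 1 by omega]; push_cast; ring⟩
  · exact ⟨_, q.2.charDegree_pos, by
      rw [show charDegree (p : G → ℂ) = charDegree (q : G → ℂ) + 1 by omega]; push_cast; ring⟩
  · omega

theorem i3_of_pair (hy : IsConj x y) {z : G} (hz : IsConj x z) (e : y * z = x) :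
    ∃ A, I3 x A ∧ y * x ∈ A := by
  haveI := Fact.mk Nat.prime_three
  obtain ⟨c, rfl⟩ := isConj_iff.1 hy
  obtain ⟨d, rfl⟩ := isConj_iff.1 hz
  have h1 := h.cj c
  have h2 := h.cj d
  generalize c * x * c⁻¹ = y at *
  generalize d * x * d⁻¹ = z at *
  obtain ⟨a, rfl⟩ : ∃ a, y = a * x⁻¹ := ⟨y * x, by group⟩
  obtain rfl : z = x * a⁻¹ * x := by rw [← mul_right_inj (a * x⁻¹), e]; group
  have h3 : x * x = x⁻¹ := eq_inv_of_mul_eq_one_left h.cube
  have h4 : x⁻¹ * a * x = a⁻¹ * (x * a * x⁻¹)⁻¹ := by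
    calc _ = a⁻¹ * (a * x⁻¹ * (a * x⁻¹) * (a * x⁻¹)) * x * a⁻¹ * (x * x) := by group
      _ = _ := by rw [h1.cube, h3]; group
  have h5 : a * (x * a * x⁻¹) = x * a * x⁻¹ * a := by
    rw [← inv_inj, mul_inv_rev _ a, ← h4]
    calc _ = x * a⁻¹ * (x * x) * a⁻¹ * (x * x) * a⁻¹ * x * (x⁻¹ * a * x) := by rw [h3]; group
      _ = x * a⁻¹ * x * (x * a⁻¹ * x) * (x * a⁻¹ * x) * (x⁻¹ * a * x) := by group
      _ = _ := by rw [h2.cube, one_mul]
  rw [inv_mul_cancel_right]
  have h6 : x ∈ normalizer ((closure {a, x * a * x⁻¹} : Subgroup G) : Set G) := by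
    refine H11.mem_normalizer_of_cj_le (H11.cj_le_iff'.2 (GW.closure_pair_le ?_ ?_)) <;>
      rw [H11.mem_cj, inv_inv]
    · exact GW.right_mem_pair
    · rw [show x * (x * a * x⁻¹) * x⁻¹ = x * x * a * (x * x)⁻¹ by group, h3, inv_inv, h4]
      exact mul_mem (inv_mem GW.left_mem_pair) (inv_mem GW.right_mem_pair)
  by_cases h7 : 3 ∣ Nat.card (closure {a, x * a * x⁻¹} : Subgroup G)
  swap
  · exact ⟨_, ⟨h6, ((Nat.Prime.coprime_iff_not_dvd Nat.prime_three).2 h7).symm⟩, GW.left_mem_pair⟩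
  obtain ⟨w, hw, h8⟩ := exists_orderOf_eq_of_dvd h7
  have h9 := h.of_ord h8
  have h10 : closure {a, x * a * x⁻¹} = zpowers w := le_antisymm (by
    haveI := isMulCommutative_closure (k := {a, x * a * x⁻¹}) (by
      rintro _ (rfl | rfl) _ (rfl | rfl) <;> simp only [h5])
    exact fun u hu => h9.cent.le (H11.mem_cent1.2 (setLike_mul_comm hu hw))) (zpowers_le.2 hw)
  rw [← zpowers_eq_of_three h8 (h9.syl.mem_of_normalizes (k := 1) h.ord trivial (h10 ▸ h6))
    h.ne_one] at h10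
  rcases mem_zpowers_three h.ord (h10.le GW.left_mem_pair) with rfl | rfl | rfl
  · exact ⟨⊥, I3.bot, one_mem _⟩
  · simpa using h1.ne_one
  · exact (h2.ne_one (by simpa using h.cube)).elim

theorem count : Nat.card G < 9 * Nat.card {a // ∃ A, I3 x A ∧ a ∈ A} := by
  by_cases hc : IsConj x x⁻¹
  · obtain ⟨n, hn, e⟩ := h.char_sum hc
    have h1 := card_class_mul_eq x x x
    have h2 := (zpowers x).card_mul_index
    have h3 := Nat.card_le_card_of_injective (fun p : {p : G × G // IsConj x p.1 ∧ IsConj x p.2 ∧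
      p.1 * p.2 = x} => (⟨p.1.1 * x, h.i3_of_pair p.2.1 p.2.2.1 p.2.2.2⟩ : {a // ∃ A, I3 x A ∧ a ∈ A}))
      fun p q e => by
        have := mul_right_cancel (congrArg Subtype.val e)
        exact Subtype.ext (Prod.ext this (mul_left_cancel (p.2.2.2.trans (this ▸ q.2.2.2.symm))))
    have h4 : 0 < (zpowers x).index := Nat.pos_of_ne_zero FiniteIndex.index_ne_zero
    rw [e, h.cent, ← h2, h.card] at h1
    rw [← h2, h.card]
    generalize (zpowers x).index = m at *
    generalize Nat.card {p : G × G // IsConj x p.1 ∧ IsConj x p.2 ∧ p.1 * p.2 = x} = k at *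
    have h5 : (k : ℚ) = m * m / (3 * m) * (1 + 1 / n - 1 / (n + 1)) :=
      Rat.cast_injective (α := ℂ) (by rw [Rat.cast_natCast, h1]; push_cast; ring)
    have h6 : (1 / (n + 1) : ℚ) < 1 / n := one_div_lt_one_div_of_lt (by exact_mod_cast hn) (by simp)
    have h7 : (0 : ℚ) < m := by exact_mod_cast h4
    have h8 : (m : ℚ) < 3 * k := by
      rw [h5, show (m * m / (3 * m) : ℚ) = m / 3 by field_simp]; nlinarith
    have : m < 3 * k := by exact_mod_cast h8
    omega
  · obtain ⟨K, -, h1, h2⟩ := h.compl hc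
    have h3 := Nat.card_le_card_of_injective (fun a : K => (⟨a, K, h2, a.2⟩ : {a // ∃ A, I3 x A ∧ a ∈ A}))
      fun a b e => Subtype.ext (congrArg (·.1) e)
    have := K.card_mul_index
    have := Nat.card_pos (α := K)
    rw [h1] at *
    omega

theorem card_lt (hx : x ∈ H) (hM : ∀ A ≤ H, I3 x A → A ≤ M) : Nat.card H < 9 * Nat.card M :=
  (h.sub hx).count.trans_le (Nat.mul_le_mul_left _ (Nat.card_le_card_of_injective
    (fun a => (⟨a.1.1, let ⟨A, hA, ha⟩ := a.2; hM (A.map H.subtype) (map_subtype_le _)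
      ⟨le_normalizer_map H.subtype ⟨_, hA.norm, rfl⟩, H10.card_map_subtype A ▸ hA.cop⟩
      ⟨_, ha, rfl⟩⟩ : M)) fun a b e => Subtype.ext (Subtype.ext (congrArg (·.1) e))))

end SC3

end Cfsg.Agent.H4
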