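import Cfsg.Agent.H4.PH1
import Cfsg.Agent.GP.GS
import Cfsg.Agent.H15.ZJD
import Cfsg.Agent.BS.Bm
import Cfsg.Agent.JR.RL
import Cfsg.Agent.S0276
import Cfsg.Agent.S0283
import Cfsg.Agent.S2131

/-! Goldschmidt groups and the sections `S₃` and `S₄`. -/

set_option autoImplicit false
set_option linter.style.haveILetI false
set_option linter.unusedSectionVars false

namespace Cfsg.Agent.H4S

open Subgroup H11 WA H15.ZJD
open scoped commutatorElement MatrixGroups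

universe u

variable {G : Type u} [Group G] [Finite G]

theorem s3_iff : Involves S₃ G ↔ Inv 3 (⊤ : Subgroup G) := by
  obtain ⟨e⟩ := H22I.dih_three
  rw [inv_top_iff (by norm_num)]
  exact ⟨H9.involves_trans (H9.involves_of_injective e.toMonoidHom e.injective H9.involves_self),
    H9.involves_trans (H9.involves_of_injective e.symm.toMonoidHom e.symm.injective H9.involves_self)⟩

theorem eq_one_of_sq {y : G} {k j : ℕ} (h : y ^ 3 ^ k = 1) (h2 : y ^ 2 ^ j = 1) : y = 1 :=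
  orderOf_eq_one_iff.1 (Nat.eq_one_of_dvd_coprimes (Nat.Coprime.pow k j (by norm_num))
    (orderOf_dvd_of_pow_eq_one h) (orderOf_dvd_of_pow_eq_one h2))

theorem two_cent (hf : ¬ Involves S₃ G) {P : Subgroup G} (hP : IsPGroup 3 P) {x : G} {k : ℕ}
    (hx : orderOf x = 2 ^ k) (hn : x ∈ normalizer (P : Set G)) : x ∈ centralizer (P : Set G) := by
  by_contra h
  obtain ⟨a, y, -, ⟨l, h1⟩, h2, h3⟩ := H22I.inv_of_norm hx hP hn h
  exact hf (s3_iff.2 ⟨a, trivial, y, trivial, h2, ⟨l, h1 ▸ pow_orderOf_eq_one y⟩, h3⟩)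

theorem ab2_of_surj {K : Type*} [Group K] {f : G →* K} (hf : Function.Surjective f)
    (h : Ab2 (⊤ : Subgroup G)) : Ab2 (⊤ : Subgroup K) :=
  haveI := Finite.of_surjective f hf
  map_top_of_surjective f hf ▸ h.map f

theorem s4_ab2 (h : Ab2 (⊤ : Subgroup G)) : ¬ Involves S₄ G := fun hi => by
  obtain ⟨K, β, hβ⟩ := H9.involves_iff.1 hi
  exact absurd (ab2_of_surj hβ (h.mono le_top : Ab2 K).top _ le_top (isPGroup_closure_pair
    (x := Equiv.swap 0 1) (y := Equiv.swap 0 2 * Equiv.swap 1 3) (k := 2) (by decide) (by decide)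
    (by decide)) _ (subset_closure (.inl rfl)) _ (subset_closure (.inr rfl))) (by decide)

theorem s4_se [IsSimpleGroup G] {M : Subgroup G} (hM : IsStronglyEmbedded M) : ¬ Involves S₄ G := by
  intro hi
  obtain ⟨P, h1, h2, h3⟩ := L0.involves_normalizer (p := 2) (V := H22I.v4) hi (fun ⟨x, hx⟩ =>
    ⟨1, Subtype.ext (show x ^ 2 ^ 1 = 1 by
      rcases H22I.mem_v4.1 hx with e | e | e | e <;> rw [e] <;> decide)⟩) fun e =>
      absurd (mem_bot.1 (e ▸ H22I.mem_v4.2 (.inr (.inl rfl)))) (by decide)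
  obtain ⟨x, -, y, -, y1, ⟨k, y2⟩, y3⟩ := s3_iff.1 (H9.involves_trans s3_s4 h3)
  obtain ⟨S, hS, h4⟩ := exists_isSylIn_le h1 (le_top (a := P))
  haveI : IsSimpleGroup (⊤ : Subgroup G) := topEquiv.isSimpleGroup
  obtain ⟨V, hV⟩ := GO.bf_of_se (BS.se_comap topEquiv hM) hS
  obtain ⟨v, hv, v1⟩ := (P.bot_or_exists_ne_one).resolve_left h2
  have h5 : ∀ g : normalizer (P : Set G), g.1 ∈ ⊤ ⊓ normalizer (S : Set G) := fun g =>
    ⟨trivial, hV.ti v (h4 hv) v1 g trivial (h4 (conj_mem_of_mem_normalizer g.2 hv))⟩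
  have h6 := hV.ab (commutator_mem_commutator (h5 x) (h5 y))
  obtain ⟨j, h7⟩ := hS.pg ⟨_, h6⟩
  refine y1 (eq_one_of_sq y2 (j := j + 1) (Subtype.ext ?_))
  have h8 : (⁅x.1, y.1⁆ : G) = (y.1 ^ 2)⁻¹ := by
    rw [commutatorElement_def, show x.1 * y.1 * x.1⁻¹ = y.1⁻¹ from congrArg Subtype.val y3]; group
  have := congrArg Subtype.val h7
  simp only [SubmonoidClass.mk_pow, h8, inv_pow, OneMemClass.coe_one, inv_eq_one] at this
  rw [coe_pow, pow_succ', pow_mul]; exact this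

theorem three_sz (h : Lie.IsoSuzuki G) : ¬ 3 ∣ Nat.card G := by
  obtain ⟨F, _, _, m, hm, hF, ⟨e⟩⟩ := h
  haveI := H15.Sz.charP_two hF
  exact ((H15.Sz.lieModel hm hF).ofEquiv e).not_three_dvd (Nat.card_eq_fintype_card.trans hF)

theorem inv_psl {F : Type*} [Field F] [Fintype F] (h3 : ¬ 3 ∣ Fintype.card F) :
    Involves S₃ PSL(2, F) := by
  have h1 : 1 < Fintype.card F := Fintype.one_lt_card
  obtain ⟨N, hN, h2, h4⟩ : ∃ N, (N = Fintype.card F - 1 ∨ N = Fintype.card F + 1) ∧ 3 ∣ N ∧ 3 ≤ N := by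
    by_cases e : 3 ∣ Fintype.card F + 1
    · exact ⟨_, .inr rfl, e, by omega⟩
    · exact ⟨_, .inl rfl, by omega, by omega⟩
  obtain ⟨H, a, s, h5, h6⟩ := H12.exists_dihedralPair hN h4
  have h7 : 3 ∣ orderOf a := by
    rw [h6, ← H12.gcd_two_eq (by omega) hN]
    exact Nat.dvd_div_of_mul_dvd (Nat.Coprime.mul_dvd_of_dvd_of_dvd (Nat.Coprime.coprime_dvd_left
      (Nat.gcd_dvd_left 2 N) (by norm_num)) (Nat.gcd_dvd_right _ _) h2)
  have h8 := orderOf_pow_orderOf_div (orderOf_pos a).ne' h7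
  refine s3_iff.2 ⟨s, trivial, a ^ (orderOf a / 3), trivial, fun e => ?_, ⟨1, ?_⟩,
    inv_of_mem_zpowers h5.2.2.1 (pow_mem (mem_zpowers a) _)⟩
  · rw [e, orderOf_one] at h8; omega
  · exact orderOf_dvd_iff_pow_eq_one.1 (by rw [h8]; rfl)

theorem not_inv_psl {F : Type*} [Field F] [Fintype F] {n : ℕ} (hF : Fintype.card F = 3 ^ (2 * n + 1)) :
    ¬ Involves S₃ PSL(2, F) := fun h => by
  haveI : CharP F 3 := charP_of_card_eq_prime_pow hF
  obtain ⟨x, -, y, -, y1, ⟨k, y2⟩, y3⟩ := s3_iff.1 (H9.involves_of_quotient _ h)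
  obtain ⟨z, hz⟩ := H12.exists_mem_rootSL_of_pow 3 y2
  obtain ⟨g, rfl⟩ := H12.exists_sl_point z
  obtain ⟨b, hb⟩ := H12.mem_rootSL_inf.1 (H12.mem_rootSL_smul.1 hz)
  have b0 : b ≠ 0 := fun e => y1 (by
    rw [e, H12.upper_zero] at hb
    simpa [mul_assoc, inv_mul_eq_one] using hb)
  have h1 : g⁻¹ * x * g * H12.upper b = H12.upper (-b) * (g⁻¹ * x * g) := by
    rw [H12.upper_neg, ← hb]
    calc _ = g⁻¹ * (x * y * x⁻¹) * x * g := by group
      _ = _ := by rw [y3]; group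
  generalize g⁻¹ * x * g = w at h1
  have a := congrArg (fun m : SL(2, F) => m 0 0) h1
  have c := congrArg (fun m : SL(2, F) => m 0 1) h1
  simp [Matrix.mul_apply, Fin.sum_univ_two, b0] at a c
  have d := H12.sl2_det w
  refine FiniteField.isSquare_neg_one_iff.1 (⟨w 1 1, mul_left_cancel₀ b0 ?_⟩ : IsSquare (-1 : F)) ?_
  · rw [a] at d
    linear_combination -(w 1 1) * c + b * d
  · rw [hF, pow_succ, pow_mul, Nat.mul_mod, Nat.pow_mod]; simp

theorem s3_free_of (h : IsSuzukiOrPSL2OddPowerThree G) : ¬ Involves S₃ G := by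
  rcases h with h | ⟨F, _, _, n, hF, ⟨e⟩⟩
  · exact s3_free_of_three (three_sz h)
  · exact fun h => not_inv_psl hF (H9.involves_of_injective e.toMonoidHom e.injective h)

theorem ab2_of_odd {H : Subgroup G} (h : Odd H.index) (h2 : Ab2 H) : Ab2 (⊤ : Subgroup G) := by
  intro T _ hT a ha b hb
  obtain ⟨S, hS⟩ := exists_isSylIn 2 H
  obtain ⟨g, -, h1⟩ := (isSylIn_of_not_dvd le_top hS.pg (by
    rw [relIndex_top_right, ← relIndex_mul_index hS.le]
    exact fun e => (Nat.prime_two.dvd_mul.1 e).elim hS.not_dvd_relIndex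
      h.not_two_dvd_nat)).exists_cj_le hT le_top
  have := h2 S hS.le hS.pg _ (cj_le_iff.1 h1 a ha) _ (cj_le_iff.1 h1 b hb)
  exact (MulAut.conj g).injective (by simpa using this)

theorem ab2_prod {K : Type*} [Group K] [Finite K] {C : Subgroup G}
    (e : C ≃* Multiplicative (ZMod 2) × K) (h : Ab2 (⊤ : Subgroup K)) : Ab2 C :=
  GO.ab2_of_top (ab2_of_surj (f := e.symm.toMonoidHom) e.symm.surjective fun T _ hT _ ha _ hb =>
    Prod.ext (mul_comm _ _) (h (T.map (MonoidHom.snd _ _)) le_top (hT.map _) _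
      (mem_map_of_mem _ ha) _ (mem_map_of_mem _ hb)))

theorem ab2_psl {F : Type*} [Field F] [Fintype F]
    (h : Fintype.card F % 8 = 3 ∨ Fintype.card F % 8 = 5) : Ab2 (⊤ : Subgroup PSL(2, F)) := by
  intro T _ hT a ha b hb
  obtain ⟨P, hP⟩ := hT.exists_le_sylow
  haveI := S0276.result rfl h P
  exact congrArg Subtype.val (IsKleinFour.isMulCommutative.is_comm.comm
    (⟨a, hP ha⟩ : (P : Subgroup PSL(2, F))) ⟨b, hP hb⟩)

theorem three_mod (n : ℕ) : 3 ^ (2 * n + 1) % 8 = 3 := by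
  rw [pow_succ, pow_mul, Nat.mul_mod, Nat.pow_mod]; simp

theorem ab2_ree (h : IsReeType G) : Ab2 (⊤ : Subgroup G) := by
  obtain ⟨-, -, t, K, n, -, ht, h1, h2, F, _, _, hF, ⟨e⟩⟩ := h
  obtain ⟨f⟩ := (JR.TL.of_idp ht h2).equiv e
  exact ab2_of_odd h1 (ab2_prod f (ab2_psl (.inl (hF ▸ three_mod n))))

theorem j1_cent (h : Spor.IsoJ1 G) : ∃ C : Subgroup G, Odd C.index ∧
    Nonempty (C ≃* Multiplicative (ZMod 2) × PSL(2, ZMod 5)) := by
  have h1 := (JR.isJ1_of_iso h).2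
  obtain ⟨e⟩ := h
  obtain ⟨t, -, ⟨f⟩⟩ := S2131.result
  haveI := Fact.mk Nat.prime_five
  obtain ⟨g⟩ := S0253.result (F := ZMod 5) (ZMod.card 5)
  have h2 := ((centralizer {t}).map e.symm.toMonoidHom).card_mul_index
  rw [card_map_of_injective e.symm.injective, Nat.card_congr f.toEquiv, Nat.card_prod, h1,
    nat_card_alternatingGroup] at h2
  refine ⟨_, ?_, ⟨((centralizer {t}).equivMapOfInjective e.symm.toMonoidHom e.symm.injective).symm.trans
    (f.trans ((MulEquiv.refl _).prodCongr g.symm))⟩⟩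
  simp [Nat.factorial] at h2
  exact ⟨731, by simp; omega⟩

theorem gold_s4 (h : IsGoldschmidtGroup G) : ¬ Involves S₄ G := by
  rcases h with h | ⟨F, _, _, n, -, hF, ⟨e⟩⟩ | h | ⟨F, _, _, n, hn, hF, ⟨e⟩⟩ |
    ⟨F, _, _, q, rfl, -, h, ⟨e⟩⟩ | h
  · exact s4_ab2 (ab2_ree h)
  · exact s4_ab2 (GO.ab2_of_bt (BT.of_psl hF (topEquiv.trans e)))
  · exact s4_free (s3_free_of (.inl h))
  · rw [show 4 ^ n = (2 ^ n) ^ 2 by rw [← pow_mul, mul_comm, pow_mul]; rfl] at hF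
    have h1 : 2 ^ 2 ≤ 2 ^ n := Nat.pow_le_pow_right two_pos hn
    haveI := S0283.result hF 3 le_rfl (by omega)
    haveI := e.isSimpleGroup
    obtain ⟨M, hM⟩ := BS.se_PSU hF (Nat.even_pow.2 ⟨even_two, by omega⟩) e
    exact s4_se hM
  · exact s4_ab2 (ab2_of_surj (f := e.symm.toMonoidHom) e.symm.surjective (ab2_psl h))
  · obtain ⟨C, h1, ⟨e⟩⟩ := j1_cent h
    haveI := Fact.mk Nat.prime_five
    exact s4_ab2 (ab2_of_odd h1 (ab2_prod e (ab2_psl (.inr (by simp)))))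

theorem gold_of (hJ : GP.JTH.{u}) [IsSimpleGroup G] (hc : ¬ IsMulCommutative G)
    (hf : ¬ Involves S₄ G) : IsGoldschmidtGroup G :=
  GP.gt_gold hJ hc ((hk_of hf G H9.involves_self hc).imp (fun h => ⟨h, walter hc h⟩)
    fun ⟨_, h⟩ => BS.Bd.isBender_of_se h)

open H20 H21 in
theorem syl_three (hf : ¬ Involves S₃ G) (h2 : Ab2 (⊤ : Subgroup G)) {t : G} (ht : orderOf t = 2)
    {P : Subgroup G} (hP : SylowOf 3 P (centralizer {t}))
    (h : ∀ u ∈ centralizer {t} ⊓ centralizer (P : Set G), ∀ k, orderOf u = 2 ^ k → u ∈ zpowers t) :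
    SylowOf 3 P ⊤ := by
  have t2 : IsPGroup 2 (zpowers t) := isPGroup_of_card_prime (by rw [Nat.card_zpowers, ht])
  have tc : t ∈ centralizer (P : Set G) := fun x hx => (mem_centralizer_singleton_iff.1 (hP.le hx))
  have tn : zpowers t ≤ N⟦P⟧ := zpowers_le.2 (centralizer_le_normalizer _ tc)
  have h1 : SylowOf 2 (zpowers t) N⟦P⟧ := sylowOf_of_max t2 tn fun Q hQ a b =>
    le_antisymm (fun u hu => by
      obtain ⟨k, hk⟩ := IsPGroup.iff_orderOf.1 hQ ⟨u, hu⟩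
      rw [orderOf_mk] at hk
      exact h u ⟨mem_centralizer_singleton_iff.2 (h2 Q le_top hQ u hu t (a (mem_zpowers t))),
        two_cent hf hP.isPGroup hk (b hu)⟩ k hk) a
  have h3 := BG.Burnside_normal_complement h1 fun g hg x hx => by
    have tt := mul_self_of_orderOf_two ht
    rcases (mem_zpowers_invol tt).1 hx with rfl | rfl
    · simp
    · exact (mul_inv_eq_iff_eq_mul.1 (((mem_zpowers_invol tt).1 (conj_mem_of_mem_normalizer hg.2
        hx)).resolve_left (by simpa using ne_one_of_orderOf_two ht))).symm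
  obtain ⟨R, h4, h5⟩ := exists_inv_sylow 3 (tn.trans (piCoreOf_normalIn _ _).2)
    (h3.isPi.coprime' h1.isPi) (Or.inl (sol_of_comm inferInstance))
  have h6 := h4.sylow_trans h3 (by simp)
  have h7 := h6.pgroup_le_of_norm hP.isPGroup le_normalizer (Or.inr h6.le)
  refine Hall.of_inf_norm ?_
  rwa [hP.pgroup_eq_of_le h4.isPGroup h7 fun x hx => mem_centralizer_singleton_iff.2
    (two_cent hf h4.isPGroup (k := 1) ht (h5 (mem_zpowers t)) x hx), ← top_inf_eq N⟦P⟧] at h6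

theorem not_comm_psl {F : Type*} [Field F] [Fintype F] {n : ℕ} (hF : Fintype.card F = 3 ^ (n + 1))
    {x y : PSL(2, F)} (hx : orderOf x = 2) (hy : orderOf y = 3) : y * x ≠ x * y := fun h => by
  haveI : CharP F 3 := charP_of_card_eq_prime_pow hF
  obtain ⟨m, -, hm⟩ := H12.exists_four_mul_eq (F := F) (hF ▸ Odd.pow (by decide))
  obtain ⟨a, s, h1, h2, -⟩ := H12.centralizer_invol (Ring.two_ne_zero (by
    rw [ringChar.eq F 3]; norm_num)) hx hm
  have h3 := Subgroup.orderOf_dvd_natCard _ (mem_centralizer_singleton_iff.2 h)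
  rw [h1.card, h2, hy] at h3
  rw [hF, pow_succ] at hm
  have : 0 < 3 ^ n := by positivity
  omega

/-- The order of the groups of Ree type. -/
def RH : Prop := ∀ (G : Type u) [Group G] [Finite G] [IsSimpleGroup G],
  (∀ P : Sylow 2 G, ∀ a b : P, a * b = b * a) → ∀ (F : Type) [Field F] [Fintype F],
  3 ≤ Fintype.card F → ∀ t : G, orderOf t = 2 →
  Nonempty (centralizer ({t} : Set G) ≃* Multiplicative (ZMod 2) × PSL(2, F)) →
  (∃ m : ℕ, 1 ≤ m ∧ Fintype.card F = 3 ^ (2 * m + 1) ∧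
    Nat.card G = (3 ^ (2 * m + 1)) ^ 3 * ((3 ^ (2 * m + 1)) ^ 3 + 1) * (3 ^ (2 * m + 1) - 1)) ∨
  ((Fintype.card F = 4 ∨ Fintype.card F = 5) ∧ IsJ1 G)

theorem ree_s3 (hR : RH.{u}) (h : IsReeType G) : Involves S₃ G := by_contra fun hf => by
  have h2 := ab2_ree h
  obtain ⟨_, -, t, K, n, -, ht, -, h1, F, _, _, hF, ⟨e⟩⟩ := h
  have h3 := JR.TL.of_idp ht h1
  have h4 : Nat.card (centralizer ({t} : Set G)) = Fintype.card F * (Fintype.card F ^ 2 - 1) := by
    rw [h3.card_cent, Nat.card_congr e.toEquiv, ← H12.card_PSL2 rfl, Nat.gcd_eq_left]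
    have := three_mod n
    omega
  have q3 : 3 ∣ Fintype.card F := hF ▸ dvd_pow_self 3 (Nat.succ_ne_zero _)
  obtain ⟨P, hP⟩ := H21.exists_sylowOf 3 (centralizer ({t} : Set G))
  obtain ⟨⟨y, y1⟩, y2⟩ := exists_prime_orderOf_dvd_card' (G := P) 3
    ((hP.dvd_iff Nat.prime_three rfl).2 (h4 ▸ q3.mul_right _))
  rw [orderOf_mk] at y2
  have y3 := h3.mem_of_odd (mem_centralizer_singleton_iff.1 (hP.le y1)) (by rw [y2]; decide)
  have h5 : Odd (Nat.card ↥(K ⊓ centralizer (P : Set G))) := by_contra fun a => by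
    obtain ⟨x, hx, x2⟩ := exists_invol a
    refine not_comm_psl hF (x := e ⟨x, hx.1⟩) (y := e ⟨y, y3⟩) (by simpa using x2)
      (by simpa using y2) ?_
    rw [← map_mul, ← map_mul]
    exact congrArg e (Subtype.ext (hx.2 y y1))
  have tc : t ∈ centralizer (P : Set G) := fun x hx => (mem_centralizer_singleton_iff.1 (hP.le hx))
  have h6 : ∀ l ∈ K ⊓ centralizer (P : Set G), ∀ k, l ^ 2 ^ k = 1 → l = 1 := fun l hl k a =>
    orderOf_eq_one_iff.1 (Nat.eq_one_of_dvd_coprimes (h5.coprime_two_left.pow_left k)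
      (orderOf_dvd_of_pow_eq_one a) (Subgroup.orderOf_dvd_natCard _ hl))
  have h7 := syl_three hf h2 ht hP fun u hu k a => by
    have b := mem_centralizer_singleton_iff.1 hu.1
    have c : u ^ 2 ^ k = 1 := a ▸ pow_orderOf_eq_one u
    rcases h3.ex u b with d | d
    · exact h6 u ⟨d, hu.2⟩ k c ▸ one_mem _
    · rw [eq_inv_of_mul_eq_one_right (h6 _ ⟨d, mul_mem tc hu.2⟩ (k + 1) (by
        rw [(Commute.symm b).mul_pow, pow_succ, pow_mul u, c, mul_comm _ 2, pow_mul, sq, h3.tt]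
        simp))]
      exact inv_mem (mem_zpowers t)
  rcases hR G (fun P a b => (h2.sylow P).is_comm.comm a b) F (Nat.le_of_dvd Fintype.card_pos q3) t ht
    (h3.equiv e) with ⟨m, -, h8, h9⟩ | h8
  · have a := (h7.dvd_of_piNat (n := (3 ^ (2 * m + 1)) ^ 3) ((H21.PiNat.prime_pow
      Nat.prime_three (Set.mem_singleton 3) _).pow _) (by
        rw [card_top, h9, mul_assoc]; exact dvd_mul_right _ _)).trans (card_dvd_of_le hP.le)
    rw [h4, ← h8, pow_succ', Nat.mul_dvd_mul_iff_left Fintype.card_pos] at a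
    have := Nat.le_of_dvd (Nat.sub_pos_of_lt (Nat.one_lt_pow two_ne_zero Fintype.one_lt_card)) a
    have := pow_pos (Fintype.card_pos (α := F)) 2
    omega
  · omega

theorem l2_of {F : Type} [Field F] [Fintype F] (e : G ≃* PSL(2, F)) (hf : ¬ Involves S₃ G)
    (h : 3 ∣ Fintype.card F → Fintype.card F % 8 ≠ 1) : IsSuzukiOrPSL2OddPowerThree G := by
  have h3 : 3 ∣ Fintype.card F := by_contra fun a =>
    hf (H9.involves_of_injective e.symm.toMonoidHom e.symm.injective (inv_psl a))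
  obtain ⟨p, _, n, hp, hn⟩ := FiniteField.card' F
  obtain rfl := (Nat.prime_dvd_prime_iff_eq Nat.prime_three hp).1
    (Nat.prime_three.dvd_of_dvd_pow (hn ▸ h3))
  obtain ⟨k, hk | hk⟩ := Nat.even_or_odd' n
  · refine absurd ?_ (h h3)
    rw [hn, hk, pow_mul, Nat.pow_mod]; simp
  · exact .inr ⟨F, _, _, k, hk ▸ hn, ⟨e⟩⟩

theorem gold_s3 (hR : RH.{u}) (h : IsGoldschmidtGroup G) (hf : ¬ Involves S₃ G) :
    IsSuzukiOrPSL2OddPowerThree G := by
  rcases h with h | ⟨F, _, _, n, -, hF, ⟨e⟩⟩ | h | ⟨F, _, _, n, hn, hF, ⟨e⟩⟩ |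
    ⟨F, _, _, q, rfl, -, h, ⟨e⟩⟩ | h
  · exact absurd (ree_s3 hR h) hf
  · exact l2_of e hf fun a => absurd (Nat.prime_three.dvd_of_dvd_pow (hF ▸ a)) (by norm_num)
  · exact .inl h
  · rw [show 4 ^ n = (2 ^ n) ^ 2 by rw [← pow_mul, mul_comm, pow_mul]; rfl] at hF
    have h1 : 2 ^ 2 ≤ 2 ^ n := Nat.pow_le_pow_right two_pos hn
    haveI := S0283.result hF 3 le_rfl (by omega)
    haveI := e.isSimpleGroup
    obtain ⟨M, hM⟩ := BS.se_PSU hF (Nat.even_pow.2 ⟨even_two, by omega⟩) e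
    exact .inl ((s3_or_sz hM).resolve_left hf).2
  · exact l2_of e hf fun _ => by omega
  · obtain ⟨C, -, ⟨e⟩⟩ := j1_cent h
    haveI := Fact.mk Nat.prime_five
    exact absurd (H9.involves_of_subgroup C (H9.involves_of_surjective ((MonoidHom.snd _ _).comp
      e.toMonoidHom) (Prod.snd_surjective.comp e.surjective) (inv_psl (by simp)))) hf

theorem sz_or_l2 (hJ : GP.JTH.{u}) (hR : RH.{u}) [IsSimpleGroup G] (hc : ¬ IsMulCommutative G)
    (hf : ¬ Involves S₃ G) : IsSuzukiOrPSL2OddPowerThree G :=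
  gold_s3 hR (gold_of hJ hc (s4_free hf)) hf

theorem s2755_of (hR : RH.{u}) (h : IsGoldschmidtGroup G) :
    ¬ Involves S₄ G ∧ (¬ Involves S₃ G ↔ IsSuzukiOrPSL2OddPowerThree G) :=
  ⟨gold_s4 h, gold_s3 hR h, s3_free_of⟩

theorem s2757_of (hJ : GP.JTH.{u}) (hR : RH.{u}) (T : Sylow 3 G) (h : ∀ x ∈ (T : Subgroup G), x ≠ 1 →
    ∀ g ∈ normalizer (centerThompsonAOf (T : Subgroup G) : Set G), g * x * g⁻¹ ≠ x⁻¹) :
    ¬ Involves S₃ G ∧ IsCompositionKGroupWith IsSuzukiOrPSL2OddPowerThree G := by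
  have hf : ¬ Involves S₃ G := fun a =>
    let ⟨y, h1, h2, g, h3, h4⟩ := exists_inv (by norm_num) T (s3_iff.1 a)
    h y h1 h2 g h3 h4
  exact ⟨hf, fun H _ N _ _ hc => sz_or_l2 hJ hR hc fun a =>
    hf (H9.involves_of_subgroup H (H9.involves_of_quotient N a))⟩

theorem sz_or_gf (hJ : GP.JTH.{u}) (hR : RH.{u}) [IsSimpleGroup G] (hc : ¬ IsMulCommutative G)
    (hf : ¬ Involves S₃ G) : (∃ f : ℕ, 1 ≤ f ∧ Nonempty (G ≃* PSL(2, GaloisField 3 (2 * f + 1)))) ∨
      Lie.IsoSuzuki G := by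
  rcases sz_or_l2 hJ hR hc hf with h | ⟨F, _, _, n, hF, ⟨e⟩⟩
  · exact .inr h
  obtain ⟨g⟩ := H12.nonempty_ringEquiv_of_natCard_eq (F := F) (K := GaloisField 3 (2 * n + 1))
    (by rw [Nat.card_eq_fintype_card, hF, GaloisField.card _ _ (Nat.succ_ne_zero _)])
  refine .inl ⟨n, Nat.pos_of_ne_zero fun a => ?_, ⟨e.trans (H12.pslCongr _ g)⟩⟩
  have h1 := H12.card_PSL2 hF
  rw [← Nat.card_congr e.toEquiv, a] at h1
  haveI := H4.burnside_pq (G := G) (p := 2) (q := 3) Nat.prime_two Nat.prime_three (a := 2) (b := 1) (by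
    simp at h1; omega)
  exact hc ⟨⟨IsSimpleGroup.comm_iff_isSolvable.2 inferInstance⟩⟩

theorem s4031_of (hJ : GP.JTH.{u}) (hR : RH.{u}) [IsSimpleGroup G] (hc : ¬ IsMulCommutative G)
    (h : ∀ x : G, (∀ r : ℕ, r.Prime → r ∣ orderOf x → r = 3) →
      normalizer ((zpowers x : Subgroup G) : Set G) ≤ centralizer {x}) :
    (∃ f : ℕ, 1 ≤ f ∧ Nonempty (G ≃* PSL(2, GaloisField 3 (2 * f + 1)))) ∨ IsSuzuki G := by
  refine (sz_or_gf hJ hR hc fun a => ?_).imp_right isSuzuki_of_iso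
  obtain ⟨x, -, y, -, y1, ⟨k, y2⟩, y3⟩ := s3_iff.1 a
  have h1 := mem_centralizer_singleton_iff.1 (h y (fun r hr b => (Nat.prime_dvd_prime_iff_eq hr
    Nat.prime_three).1 (hr.dvd_of_dvd_pow (b.trans (orderOf_dvd_of_pow_eq_one y2))))
    (mem_normalizer_of_forall fun z hz => inv_of_mem_zpowers y3 hz ▸ inv_mem hz))
  rw [h1, mul_inv_cancel_right] at y3
  exact y1 (eq_one_of_sq y2 (j := 1) (by rw [pow_one, sq, ← eq_inv_iff_mul_eq_one]; exact y3))

end Cfsg.Agent.H4S
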