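import Cfsg.Agent.H4.GG
import Cfsg.Agent.H1.ONS
import Cfsg.Agent.H21.Hol
import Cfsg.Agent.H15.Sz8
import Cfsg.Agent.H10.BBal
import Cfsg.Agent.S2602

/-! Fixed-point-free operator groups on `S₃`-free groups. -/

set_option autoImplicit false
set_option linter.style.haveILetI false
set_option linter.unusedSectionVars false

namespace Cfsg.Agent.H4P

open Subgroup H20 H21 H4S
open scoped MatrixGroups

universe u v

variable {G : Type*} [Group G] [Finite G] {A B K Y : Subgroup G} {p : ℕ}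

/-- `A` has a normal `p`-complement -/
def PN (p : ℕ) (A : Subgroup G) : Prop := ∃ B, IsPiHallOf {p}ᶜ B A ∧ B ⊴ A

theorem PN.mono (h : PN p A) (hB : B ≤ A) : PN p B :=
  let ⟨_, h1, h2⟩ := h; ⟨_, h1.normalIn_inf h2 hB, inf_le_right, norm_inf (hB.trans h2.2) le_normalizer⟩

theorem PN.map {G' : Type*} [Group G'] (h : PN p A) (f : G →* G') : PN p (A.map f) :=
  let ⟨_, h1, h2⟩ := h; ⟨_, h1.map f, h2.map f⟩

theorem PN.subgroupOf (h : PN p A) (hK : A ≤ K) : PN p (A.subgroupOf K) :=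
  let ⟨_, h1, h2⟩ := h; ⟨_, h1.subgroupOf hK, h2.comap K.subtype⟩

theorem pn_cent (hp : p.Prime) (h : IsPiHallOf {p}ᶜ B A) (h1 : A ≤ N⟦Y⟧) (h2 : Y ≤ C⟦B⟧)
    (h3 : Y ⊓ C⟦A⟧ = ⊥) : ¬ p ∣ ♯Y := fun d => by
  haveI := Fact.mk hp
  obtain ⟨P, hP⟩ := exists_sylowOf p A
  obtain ⟨S, s1, s2⟩ := H10.exists_invariant_isSylowIn hP.isPGroup (hP.le.trans h1)
  replace s1 := H1.isSylowIn_iff_isPiHallOf.1 s1
  obtain ⟨z, z1, z2, z3⟩ := H11.exists_mem_centralizer_of_normalized hP.isPGroup s1.isPGroup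
    (s1.sylow_ne_bot d) s2
  refine z2 (mem_bot.1 (h3.le ⟨s1.le z1, ?_⟩))
  rw [← (h.isComplIn' hP).sup_eq, cent_sup]
  exact ⟨h2 (s1.le z1), z3⟩

theorem fpf_quo [K.Normal] {V : Subgroup G} [V.Normal] (hp : p.Prime) (hV : IsPGroup p V)
    (h1 : V ≤ K) (h : PN p A) (h3 : K ⊓ C⟦A⟧ = ⊥) :
    K.map (QuotientGroup.mk' V) ⊓ C⟦A.map (QuotientGroup.mk' V)⟧ = ⊥ := by
  haveI := Fact.mk hp
  obtain ⟨B, b1, b2⟩ := h
  refine eq_bot_iff.2 ?_
  rintro _ ⟨⟨x, hx, rfl⟩, h4⟩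
  have h5 : ∀ a ∈ A, x⁻¹ * (a * x * a⁻¹) ∈ V := fun a ha => by
    rw [← QuotientGroup.eq_one_iff, ← QuotientGroup.mk'_apply, map_mul, map_mul, map_mul,
      h4 _ (mem_map_of_mem _ ha)]
    simp
  obtain ⟨n, hn, h6⟩ := H1.exists_fixed_in_left_coset le_normalizer_of_normal
    (b1.isPi.coprime' (isPi_singleton_iff.2 hV)) (.inr (sol_of_pgroup hV)) fun a ha => h5 a (b1.le ha)
  have h7 : A ≤ N⟦K ⊓ C⟦B⟧⟧ := norm_inf le_normalizer_of_normal (norm_cent b2.2)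
  have h8 := ((isPi_compl_singleton_iff hp).2 (pn_cent hp b1 h7 inf_le_right (eq_bot_iff.2
    (h3 ▸ inf_le_inf_right _ inf_le_left)))).inf_eq_bot' (isPi_singleton_iff.2 hV)
  have h9 : x * n ∈ K ⊓ C⟦B⟧ := ⟨mul_mem hx (h1 hn), h6⟩
  have : x * n = 1 := mem_bot.1 (h3.le ⟨h9.1, fun a ha => by
    have := mem_bot.1 (h8.le ⟨mul_mem ((K ⊓ C⟦B⟧).inv_mem h9) (conj_mem_of_norm (h7 ha) h9), by
      rw [show (x * n)⁻¹ * (a * (x * n) * a⁻¹) = n⁻¹ * (x⁻¹ * (a * x * a⁻¹)) * (a * n * a⁻¹) by group]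
      exact V.mul_mem (V.mul_mem (V.inv_mem hn) (h5 a ha)) (‹V.Normal›.conj_mem _ hn _)⟩)
    rwa [inv_mul_eq_one, eq_mul_inv_iff_mul_eq, eq_comm] at this⟩)
  rw [eq_inv_of_mul_eq_one_left this]
  exact (QuotientGroup.eq_one_iff _).2 (inv_mem hn)

theorem fpf_inf (hK : A ≤ N⟦K⟧) (h : ∀ p, p.Prime → p ∣ ♯K → PN p A) (h3 : K ⊓ C⟦A⟧ = ⊥) :
    A ⊓ K = ⊥ := by
  by_contra h0
  obtain ⟨M, ⟨m1, m2, m3⟩, hM⟩ := L0.exists_min_of (P := fun M => M ≤ A ⊓ K ∧ A ≤ N⟦M⟧ ∧ M ≠ ⊥)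
    ⟨le_rfl, norm_inf le_normalizer hK, h0⟩
  obtain ⟨p, hp, d⟩ := Nat.exists_prime_and_dvd (mt card_eq_one.1 m3)
  obtain ⟨B, b1, b2⟩ := h p hp (d.trans (card_dvd (m1.trans inf_le_right)))
  have h4 : M ⊓ B = ⊥ := by_contra fun e => hM _ ⟨inf_le_left.trans m1, norm_inf m2 b2.2, e⟩
    (lt_of_le_of_ne inf_le_left fun r => (b1.isPi.of_le (inf_eq_left.1 r)).not_dvd hp rfl d)
  exact pn_cent hp b1 m2 (commg_eq_bot.1 (eq_bot_iff.2 (h4 ▸ le_inf (commg_le_left (b1.le.trans m2))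
    (commg_le_right ((m1.trans inf_le_left).trans b2.2))))) (eq_bot_iff.2 (h3 ▸ inf_le_inf_right _
    (m1.trans inf_le_right))) d

/-- cyclic outer automorphism group and one class of involutions -/
def CO (T : Type*) [Group T] : Prop :=
  IsCyclic (Out T) ∧ ∃ t : T, orderOf t = 2 ∧ ∀ s, orderOf s = 2 → IsConj t s

theorem CO.no_fpf (h : CO G) (hz : center G = ⊥) {A : Subgroup (MulAut G)}
    (h1 : ∀ p, p.Prime → p ∣ Nat.card G → PN p A) : ¬ ∀ x, (∀ a ∈ A, a x = x) → x = 1 := fun h2 => by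
  obtain ⟨_, t, ht, h3⟩ := h
  have hi : Function.Injective (MulAut.conj : G →* MulAut G) :=
    (injective_iff_map_eq_one _).2 fun x hx => hz.le (mem_center_iff.2 fun g =>
      (mul_inv_eq_iff_eq_mul.1 (DFunLike.congr_fun hx g)).symm)
  have h4 := fpf_inf (K := Inn G) le_normalizer_of_normal (fun p hp d =>
    h1 p hp (d.trans (card_range_dvd _))) (eq_bot_iff.2 (by
      rintro _ ⟨⟨x, rfl⟩, hx⟩
      rw [h2 x fun a ha => hi (by
        rw [← mul_inv_cancel_right (MulAut.conj x) a, ← hx a ha]; ext; simp), map_one]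
      exact one_mem _))
  haveI : IsCyclic A := isCyclic_of_injective ((QuotientGroup.mk' (Inn G)).comp A.subtype)
    ((injective_iff_map_eq_one _).2 fun a ha =>
      Subtype.ext (h4.le ⟨a.2, (QuotientGroup.eq_one_iff _).1 ha⟩))
  obtain ⟨α, hα⟩ := IsCyclic.exists_generator (α := A)
  have h5 : MonoidHom.FixedPointFree α.1 := fun x hx => h2 x fun a ha => by
    obtain ⟨n, hn⟩ := hα ⟨a, ha⟩
    have : zpowers α.1 ≤ MulAction.stabilizer (MulAut G) x := zpowers_le.2 hx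
    exact this ⟨n, congrArg Subtype.val hn⟩
  obtain ⟨c, hc⟩ := isConj_iff.1 (h3 (α.1 t) (by simpa using ht))
  obtain ⟨y, hy⟩ := h5.commutatorMap_surjective c⁻¹
  rw [MonoidHom.commutatorMap_apply, div_eq_iff_eq_mul, eq_inv_mul_iff_mul_eq] at hy
  refine H11.ne_one_of_orderOf_two ht (conj_eq_one_iff.1 (h5 (y⁻¹ * t * y⁻¹⁻¹) (by
    rw [inv_inv, map_mul, map_mul, map_inv, ← hc, ← hy]; group)))

theorem CO.congr {G' : Type*} [Group G'] (h : CO G') (e : G ≃* G') : CO G := by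
  obtain ⟨_, t, ht, h3⟩ := h
  obtain ⟨f⟩ := H10.outCongr e.symm
  refine ⟨isCyclic_of_surjective _ f.surjective, e.symm t, by simpa using ht,
    fun s hs => ?_⟩
  simpa using e.symm.toMonoidHom.map_isConj (h3 (e s) (by simpa using hs))

theorem co_sz (h : Lie.IsoSuzuki G) : CO G := by
  obtain ⟨F, _, _, m, hm, hF, ⟨e⟩⟩ := h
  haveI := H15.Sz.charP_two hF
  let M := (H15.Sz.lieModel hm hF).ofEquiv e
  have hφ := H15.Sz.map_tw hF hF
  let Ψ : (F ≃+* F) →* MulAut G := MonoidHom.mk' (fun σ => MulEquiv.ofBijective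
    (M.ι M (hφ σ.toRingHom)) (Finite.injective_iff_bijective.1 (M.ι_inj M _))) fun σ τ =>
      MulEquiv.ext fun x => M.mat_inj (by simp [M.mat_ι, Matrix.map_map]; rfl)
  refine ⟨isCyclic_of_surjective ((QuotientGroup.mk' _).comp Ψ) fun α => ?_, M.W,
    H11.orderOf_two_of M.setup.ne_one M.W_mul_W, fun s hs => H15.RO.isConj_invol M.setup
      M.setup.ne_one M.W_mul_W (H11.ne_one_of_orderOf_two hs) (H11.mul_self_of_orderOf_two hs)⟩
  obtain ⟨α, rfl⟩ := QuotientGroup.mk_surjective α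
  obtain ⟨g, φ, h⟩ := M.exists_conj_ι M (j := α.toMonoidHom) α.injective hφ
  refine ⟨RingEquiv.ofBijective φ (Finite.injective_iff_bijective.1 φ.injective),
    (QuotientGroup.eq.2 ?_).symm⟩
  refine ⟨α.symm g, ?_⟩
  rw [eq_inv_mul_iff_mul_eq]
  ext x
  exact Eq.trans (by simp) (h x)

theorem co_psl {F : Type*} [Field F] [Fintype F] {n : ℕ} (hn : 1 ≤ n)
    (hF : Fintype.card F = 3 ^ (2 * n + 1)) : CO PSL(2, F) := by
  haveI : CharP F 3 := charP_of_card_eq_prime_pow hF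
  have h4 : 3 ^ 2 ≤ 3 ^ (2 * n + 1) := Nat.pow_le_pow_right three_pos (by omega)
  obtain ⟨φ, h1, _, h2⟩ := S2602.result (Nat.le_add_left 1 _) hF (by omega)
  rw [Nat.gcd_eq_left (by have := three_mod n; omega)] at h2
  haveI := φ.isMulCommutative_of_isCyclic_of_ker_le_center (fun x hx => mem_center_iff.2 fun g => by
    obtain ⟨z, z1, z2⟩ := (Nat.card_eq_two_iff' (1 : φ.ker)).1 h2
    by_cases e : x = 1
    · simp [e]
    have a := z2 ⟨x, hx⟩ fun r => e (congrArg Subtype.val r)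
    have b := z2 ⟨_, φ.normal_ker.conj_mem x hx g⟩ fun r =>
      e (conj_eq_one_iff.1 (congrArg Subtype.val r))
    exact mul_inv_eq_iff_eq_mul.1 (congrArg Subtype.val (b.trans a.symm)))
  obtain ⟨t, ht⟩ := H12.exists_invol_psl2 (F := F)
  refine ⟨?_, t, ht, fun s => H12.psl2_isConj_invol (Ring.two_ne_zero (by
    rw [ringChar.eq F 3]; norm_num)) ht⟩
  letI : CommGroup (Out PSL(2, F)) := { mul_comm := mul_comm' }
  exact Group.isCyclic_of_coprime_card_ker φ (by rw [h2]; simp) h1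

theorem solv_fpf (hJ : GP.JTH.{u}) (hR : RH.{u}) (G : Type u) [Group G] [Finite G] :
    ∀ K A : Subgroup G, K.Normal → ¬ Involves S₃ K → (∀ p, p.Prime → p ∣ ♯K → PN p A) →
      K ⊓ C⟦A⟧ = ⊥ → Group.IsSolvable K := by
  refine H2.card_induction (P := fun G _ _ => ∀ K A : Subgroup G, K.Normal → ¬ Involves S₃ K →
    (∀ p, p.Prime → p ∣ ♯K → PN p A) → K ⊓ C⟦A⟧ = ⊥ → Group.IsSolvable K) ?_ G
  intro G _ _ ih K A hK hf h1 h2
  by_cases h0 : K = ⊥
  · rw [h0]; infer_instance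
  obtain ⟨V, hV, v1⟩ := H2.exists_isMinNormal_le hK h0
  haveI := hV.normal
  by_cases c : IsMulCommutative V
  · haveI := sol_of_comm c
    obtain ⟨-, p, hp, v2⟩ := hV.exists_isPGroup inferInstance
    haveI := Fact.mk hp
    haveI := ih _ (card_quo_lt V hV.ne_bot) (K.map (QuotientGroup.mk' V)) (A.map (QuotientGroup.mk' V))
      (hK.map _ (QuotientGroup.mk'_surjective V)) (fun e => hf (H9.involves_of_map _ _ e))
      (fun q hq d => (h1 q hq (d.trans (card_map_dvd _ _))).map _) (fpf_quo hp v2 v1 (h1 p hp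
        ((dvd_card_of_isPGroup v2 hV.ne_bot).trans (card_dvd v1))) h2)
    exact Group.isSolvable_of_ker_le_range (inclusion v1) ((QuotientGroup.mk' V).subgroupMap K) fun x hx =>
      ⟨⟨x, (QuotientGroup.eq_one_iff _).1 (congrArg Subtype.val hx)⟩, rfl⟩
  obtain ⟨T, hT⟩ := H1.exists_fac hV c
  haveI := hT.simple
  have t1 := hT.le.trans v1
  have t2 : H10.CompOf T V := ⟨.of_normal hT.le hT.norm, H10.isQuasisimple_of_simple hT.na'⟩
  have t3 : CO T := (sz_or_gf hJ hR hT.na' fun e => hf (H9.involves_of_le t1 e)).elim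
    (fun ⟨f, a, ⟨e⟩⟩ => haveI := Fintype.ofFinite (GaloisField 3 (2 * f + 1))
      (co_psl a (by rw [← Nat.card_eq_fintype_card, GaloisField.card _ _ (Nat.succ_ne_zero _)])).congr e)
    co_sz
  refine (t3.no_fpf (A := ((A ⊓ N⟦T⟧).subgroupOf N⟦T⟧).map (normalizerMonoidHom T))
    ((IsSimpleGroup.eq_bot_or_eq_top_of_normal _ inferInstance).resolve_right fun e =>
      hT.na' ⟨⟨fun a b => (mem_center_iff.1 (e.ge (mem_top b)) a)⟩⟩)
    (fun p hp d => (((h1 p hp (d.trans (card_dvd t1))).mono inf_le_left).subgroupOf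
      inf_le_right).map _) fun x hx => Subtype.ext (mem_bot.1 (hT.inf_cent.le ⟨x.2, ?_⟩))).elim
  have := t2.le_diagonal_sup (P := A) le_normalizer_of_normal (mem_inf.2 ⟨x.2, fun a ha =>
    mul_inv_eq_iff_eq_mul.1 (congrArg Subtype.val (hx _ ⟨⟨a, ha.2⟩, ha, rfl⟩))⟩)
  rwa [eq_bot_iff.2 ((inf_le_inf_right _ (H10.orbSup_le t1 le_normalizer_of_normal)).trans h2.le),
    bot_sup_eq] at this

theorem s4041_of {G : Type u} {A : Type v} [Group G] [Finite G] [Group A] [Finite A]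
    (hJ : GP.JTH.{max u v}) (hR : RH.{max u v}) (φ : A →* MulAut G)
    (hfpf : ∀ g : G, (∀ a : A, φ a g = g) → g = 1) (hf : ¬ Involves S₃ G)
    (hH : ∃ H : Subgroup A, IsPiHall {r : ℕ | r.Prime ∧ r ∣ Nat.card G} H ∧ Group.IsNilpotent H)
    (hK : ∃ K : Subgroup A, K.Normal ∧ (∀ r : ℕ, r.Prime → r ∣ Nat.card K → ¬ r ∣ Nat.card G) ∧
      ∀ r : ℕ, r.Prime → r ∣ K.index → r ∣ Nat.card G) : Group.IsSolvable G := by
  obtain ⟨H, h1, h2⟩ := hH
  obtain ⟨K, _, k1, k2⟩ := hK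
  have e := (topEquiv.symm.trans ((⊤ : Subgroup G).equivMapOfInjective _ (Hol.l_inj φ)))
  have h3 : K ⊔ H = ⊤ := (Hall.isComplIn' (π := {r : ℕ | r.Prime ∧ r ∣ Nat.card G}) (Hall.mk le_top
    (fun r a b c => k1 r a b c.2) fun r a b c => c ⟨a, k2 r a (by simpa using b)⟩)
    (Hall.top_iff.2 h1)).sup_eq
  haveI := solv_fpf hJ hR (Hol φ) ((⊤ : Subgroup G).map (Hol.l φ)) ((⊤ : Subgroup A).map (Hol.r φ))
    (normalizer_eq_top_iff.1 (eq_top_iff.2 (Hol.l_sup_r.ge.trans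
      (sup_le le_normalizer (Hol.le_norm_top _)))))
    (fun a => hf (H9.involves_of_injective e.symm.toMonoidHom e.symm.injective a)) (fun p hp d => ?_)
    (eq_bot_iff.2 fun _ ⟨⟨x, _, r⟩, a⟩ => by
      subst r
      rw [hfpf x fun b => Hol.l_mem_cent_iff.1 a b trivial, map_one]; exact one_mem _)
  · exact Group.isSolvable_of_isSolvable_injective (f := e.toMonoidHom) e.injective
  rw [Hol.card_l_top] at d
  have h4 : H ≤ N⟦K ⊔ piCoreOf {p}ᶜ H⟧ := norm_sup le_normalizer_of_normal (piCoreOf_normalIn _ _).2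
  refine PN.map ⟨K ⊔ piCoreOf {p}ᶜ H, ?_, le_top, h3 ▸ sup_le (le_sup_left.trans le_normalizer) h4⟩ _
  rw [← h3, ← piCoreOf_sup_compl_of_nil {p}ᶜ h2, ← sup_assoc, piCoreOf_sup_compl_of_nil {p}ᶜ h2]
  exact Hall.of_sup_left (IsPi.sup (fun r a b c => k1 r a b (c ▸ d)) (isPi_piCoreOf _ _)
    (.inr le_normalizer_of_normal)) (isPi_piCoreOf _ _) (.inr ((piCoreOf_le _ _).trans h4))

end Cfsg.Agent.H4P
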