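import Cfsg.Agent.H4.GG
import Cfsg.Agent.H24.Nat2
import Cfsg.Agent.H27.Schur
import Cfsg.Agent.WA.Sm0
import Cfsg.Agent.S2086

/-! Groups without real elements of order three. -/

set_option autoImplicit false
set_option linter.style.haveILetI false
set_option linter.unusedSectionVars false

namespace Cfsg.Agent.H4S

open Subgroup H10 H11 H15.ZJD
open scoped MatrixGroups Pointwise

universe u

variable {G : Type*} [Group G] [Finite G] {p : ℕ} [Fact p.Prime]

theorem inn_of_fix [IsSimpleGroup G] (Q : Sylow p G) (h0 : (Q : Subgroup G) ≠ ⊥)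
    (hc : ∀ a ∈ (Q : Subgroup G), ∀ b ∈ (Q : Subgroup G), a * b = b * a)
    (ht : ∀ R R' : Sylow p G, R ≠ Q → R' ≠ Q → ∃ u ∈ (Q : Subgroup G), u • R = R') {γ : MulAut G}
    (h : ∀ a ∈ (Q : Subgroup G), γ a = a) : ∃ u, γ = MulAut.conj u := by
  by_cases hn : (Q : Subgroup G).Normal
  · exact ⟨1, MulEquiv.ext fun x => by
      simpa using h x ((hn.eq_bot_or_eq_top.resolve_left h0).ge trivial)⟩
  have k : ∀ (δ : MulAut G) (g : G) (R : Sylow p G), δ • g • R = δ g • δ • R := fun δ g R => by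
    rw [Sylow.smul_def, Sylow.smul_def, ← mul_smul, ← mul_smul]
    congr 1; ext; simp
  have fx : ∀ δ : MulAut G, (∀ a ∈ (Q : Subgroup G), δ a = a) → δ • Q = Q := fun δ a =>
    (Sylow.ext ((δ • Q).is_maximal' Q.2 fun x hx => by
      obtain ⟨y, hy, rfl⟩ := hx
      exact (a y hy).symm ▸ hy)).symm
  obtain ⟨g, hg⟩ : ∃ g : G, g • Q ≠ Q := by
    by_contra! a
    exact hn (normalizer_eq_top_iff.1 (eq_top_iff.2 fun g _ => Sylow.smul_eq_iff_mem_normalizer.1 (a g)))
  obtain ⟨u, hu, h1⟩ := ht _ (γ • g • Q) hg fun e => hg (smul_left_cancel γ (e.trans (fx γ h).symm))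
  refine ⟨u, eq_of_inv_mul_eq_one ?_ |>.symm⟩
  generalize hδ : (MulAut.conj u)⁻¹ * γ = δ
  have h2 : ∀ a ∈ (Q : Subgroup G), δ a = a := fun a ha => by
    rw [← hδ, MulAut.mul_apply, h a ha, MulAut.conj_inv_apply, mul_assoc, hc a ha u hu,
      inv_mul_cancel_left]
  have h3 : ∀ R : Sylow p G, δ • R = R := fun R => by
    by_cases e : R = Q
    · rw [e, fx δ h2]
    obtain ⟨v, hv, rfl⟩ := ht _ R hg e
    rw [k, h2 v hv, ← hδ, mul_smul, ← h1, Sylow.smul_def (g := u), inv_smul_smul]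
  have h4 := ((MulAction.toPermHom G (Sylow p G)).normal_ker.eq_bot_or_eq_top).resolve_right
    fun e => hg (DFunLike.congr_fun (MonoidHom.mem_ker.1 (e.ge (mem_top g))) Q)
  ext x
  exact (MonoidHom.ker_eq_bot_iff _).1 h4 (Equiv.ext fun R => by
    simpa [h3] using (k δ x R).symm)

theorem psl_inn [IsSimpleGroup G] {F : Type*} [Field F] [Finite F] [CharP F p] (e : G ≃* PSL(2, F))
    (Q : Sylow p G) (h0 : (Q : Subgroup G) ≠ ⊥) {γ : MulAut G}
    (h : ∀ a ∈ (Q : Subgroup G), γ a = a) : ∃ u, γ = MulAut.conj u := by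
  let f : SL(2, F) →* G := e.symm.toMonoidHom.comp (QuotientGroup.mk' _)
  have hf : Function.Surjective f := e.symm.surjective.comp (QuotientGroup.mk'_surjective _)
  have h1 : ∀ R : Sylow p G, ∃ x, (R : Subgroup G) = (H12.rootSL x).map f := fun R => by
    obtain ⟨R, rfl⟩ := Sylow.mapSurjective_surjective hf p R
    obtain ⟨x, hx⟩ := H12.sylow_SL2_eq_rootSL p R
    exact ⟨x, by rw [Sylow.coe_mapSurjective, hx]⟩
  obtain ⟨x, hx⟩ := h1 Q
  refine inn_of_fix Q h0 ?_ (fun R R' a b => ?_) h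
  · obtain ⟨g⟩ := H12.nonempty_rootSL_equiv x
    rw [hx]
    rintro _ ⟨a, ha, rfl⟩ _ ⟨b, hb, rfl⟩
    rw [← map_mul, ← map_mul]
    exact congrArg (fun y : H12.rootSL x => f y) (g.injective (a₁ := ⟨a, ha⟩ * ⟨b, hb⟩)
      (a₂ := ⟨b, hb⟩ * ⟨a, ha⟩) (by rw [map_mul, map_mul, mul_comm]))
  obtain ⟨y, hy⟩ := h1 R
  obtain ⟨z, hz⟩ := h1 R'
  obtain ⟨g, h2, rfl⟩ := H24.exists_root_smul (x := x) (y := y) (z := z)
    (fun r => a (Sylow.ext (by rw [hx, hy, r]))) fun r => b (Sylow.ext (by rw [hx, hz, r]))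
  refine ⟨f g, hx ▸ mem_map_of_mem f h2, Sylow.ext ?_⟩
  rw [Sylow.coe_subgroup_smul, hz, hy, H12.rootSL_smul]
  exact (map_map _ _ _).trans (.trans (congrArg (map · _) (by ext; simp)) (map_map _ f
    (MulAut.conj g).toMonoidHom).symm)

/-- generated by `2`-elements -/
def Gen2 (G : Type*) [Group G] : Prop := closure {g : G | ∃ k : ℕ, orderOf g = 2 ^ k} = ⊤

theorem Gen2.eq {D : Subgroup G} (h : Gen2 G) (h1 : ∀ g k, orderOf g = 2 ^ k → g ∈ D) : D = ⊤ :=
  eq_top_iff.2 (h.ge.trans ((closure_le _).2 fun g ⟨k, a⟩ => h1 g k a))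

theorem Gen2.surj {G' : Type*} [Group G'] (h : Gen2 G) {f : G →* G'} (hf : Function.Surjective f) :
    Gen2 G' := by
  rw [Gen2, eq_top_iff, ← map_top_of_surjective f hf, map_le_iff_le_comap, top_le_iff]
  exact h.eq fun g k a => subset_closure
    (((Nat.dvd_prime_pow Nat.prime_two).1 (a ▸ orderOf_map_dvd f g)).imp fun _ => And.right)

theorem Gen2.odd {D : Subgroup G} [D.Normal] (h : Gen2 G) (h1 : Odd D.index) : D = ⊤ :=
  h.eq fun g k a => zpowers_le.2 (D.pow_index_mem g) (mem_zpowers_pow_iff.2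
    (a ▸ (h1.coprime_two_right.pow_right k)))

/-- products of groups `L₂(3^(2f+1))` -/
def PL (G : Type*) [Group G] : Prop := ∃ (k : ℕ) (f : Fin k → ℕ), (∀ i, 1 ≤ f i) ∧
  Nonempty (G ≃* ((i : Fin k) → PSL(2, GaloisField 3 (2 * f i + 1))))

theorem PL.free (h : PL G) : ¬ Involves S₃ G := fun a => by
  obtain ⟨k, f, -, ⟨e⟩⟩ := h
  obtain ⟨x, -, y, -, y1, ⟨j, y2⟩, y3⟩ := s3_iff.1 a
  obtain ⟨i, hi⟩ := Function.ne_iff.1 (e.map_ne_one_iff.2 y1)
  haveI := Fintype.ofFinite (GaloisField 3 (2 * f i + 1))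
  refine not_inv_psl (F := GaloisField 3 (2 * f i + 1)) (by rw [← Nat.card_eq_fintype_card,
    GaloisField.card _ _ (Nat.succ_ne_zero _)]) (s3_iff.2 ⟨e x i, trivial, e y i, trivial, hi, ⟨j, ?_⟩, ?_⟩)
  · simpa using congrFun (congrArg e y2) i
  · simpa using congrFun (congrArg e y3) i

theorem comp_l2 {G : Type u} [Group G] [Finite G] (hJ : GP.JTH.{u}) (hR : RH.{u})
    (hf : ¬ Involves S₃ G) (hO : OqOf 3 (⊤ : Subgroup G) = ⊥) {L : Subgroup G} (hL : CompOf L ⊤) :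
    IsSimpleGroup L ∧ ∃ f, 1 ≤ f ∧ Nonempty (L ≃* PSL(2, GaloisField 3 (2 * f + 1))) := by
  haveI := hL.qs.2
  have h1 : IsStemExtension (QuotientGroup.mk' (center L)) :=
    ⟨QuotientGroup.mk'_surjective _, by simp, hL.qs.1.commutator_eq_top ▸ le_top⟩
  have h2 : IsPGroup 3 (center L) := (OpOf_isPGroup.to_le (center_map_subtype L ▸ FitOf_eq_OpOf hO ▸
    hL.subnormalIn.center_le_FitOf : (center L).map L.subtype ≤ OpOf 3 ⊤)).of_equiv
    (equivMapOfInjective _ _ L.subtype_injective).symm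
  have h3 : H27.ClosedAt 3 (L ⧸ center L) → center L = ⊥ := fun a => by_contra fun b =>
    a.not_dvd Nat.prime_three h1 (by
      rw [QuotientGroup.ker_mk']; exact H21.dvd_card_of_isPGroup h2 b)
  rcases sz_or_gf hJ hR (G := L ⧸ center L) (fun a => QS.not_solvable hL.qs (by
      haveI : Group.IsSolvable (L ⧸ center L) := Group.isSolvable_of_comm a.1.1
      haveI := H21.sol_of_pgroup h2
      exact Group.isSolvable_of_ker_le_range (center L).subtype (QuotientGroup.mk' (center L)) (by simp)))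
    fun a => hf (H9.involves_of_subgroup L (H9.involves_of_quotient _ a)) with ⟨f, a, ⟨e⟩⟩ | a
  · haveI := Fintype.ofFinite (GaloisField 3 (2 * f + 1))
    have h4 : 3 ^ 3 ≤ 3 ^ (2 * f + 1) := Nat.pow_le_pow_right three_pos (by omega)
    have h5 := S2086.result (F := GaloisField 3 (2 * f + 1)) (q := 3 ^ (2 * f + 1)) (by
      rw [← Nat.card_eq_fintype_card, GaloisField.card _ _ (Nat.succ_ne_zero _)]) 2 le_rfl (by omega)
      (by simp; omega)
    rw [Nat.gcd_eq_left (by have := three_mod f; omega)] at h5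
    have g := (QuotientGroup.quotientMulEquivOfEq (h3 ((H27.closedAt_of_hasSchur h5
      (by simp)).congr e.symm))).trans QuotientGroup.quotientBot
    exact ⟨g.symm.isSimpleGroup, f, a, ⟨g.symm.trans e⟩⟩
  · have := card_eq_card_quotient_mul_card_subgroup (center L)
    rw [card_eq_one.2 (h3 (H27.closedAt_of_not_dvd Nat.prime_three (three_sz a))), mul_one] at this
    exact absurd (this ▸ hL.dvd_card hO) (three_sz a)

theorem pl_of (hJ : GP.JTH.{u}) (hR : RH.{u}) (G : Type u) [Group G] [Finite G] :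
    ¬ Involves S₃ G → pPrimeCore 3 G = ⊥ → Gen2 G → PL G := by
  refine H2.card_induction (P := fun G _ _ => ¬ Involves S₃ G → pPrimeCore 3 G = ⊥ → Gen2 G → PL G)
    ?_ G
  intro G _ _ ih hf hO hg
  rw [← OqOf_top] at hO
  by_cases h0 : LayOf (⊤ : Subgroup G) = ⊥
  · have h1 := (hg.eq fun g k a => two_cent hf (OpOf_isPGroup (H := ⊤)) a
      (le_normalizer_OpOf le_normalizer trivial)).ge
    have h2 := OpOf_isPGroup.to_le (le_OpOf_of_centralizes hO le_rfl h1 fun L hL =>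
      absurd hL (LayOf_eq_bot_iff.1 h0 L))
    have h3 : (⊥ : Subgroup G) = ⊤ := hg.eq fun g k a => (h2 ⟨g, trivial⟩).elim fun j b =>
      eq_one_of_sq (congrArg Subtype.val b) (a ▸ pow_orderOf_eq_one g)
    haveI : Unique G := ⟨⟨1⟩, fun x => h3.ge (mem_top x)⟩
    exact ⟨0, Fin.elim0, (·.elim0), ⟨MulEquiv.ofUnique⟩⟩
  obtain ⟨L, hL⟩ := not_forall_not.1 (mt LayOf_eq_bot_iff.2 h0)
  obtain ⟨_, f, h1, ⟨e⟩⟩ := comp_l2 hJ hR hf hO hL
  have hz : L ⊓ centralizer (L : Set G) = ⊥ := by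
    rw [← center_map_subtype, (IsSimpleGroup.eq_bot_or_eq_top_of_normal (center L)
      inferInstance).resolve_right fun a => QS.not_le_centralizer hL.qs (inf_eq_left.1 (by
        rw [← center_map_subtype, a, ← MonoidHom.range_eq_map, range_subtype])), Subgroup.map_bot]
  haveI : (LayOf (⊤ : Subgroup G)).Normal :=
    normalizer_eq_top_iff.1 (eq_top_iff.2 (le_normalizer_LayOf le_normalizer))
  obtain ⟨P, hP⟩ := exists_isSylIn 3 (LayOf (⊤ : Subgroup G))
  have h2 := hP.inf_of_normalized hL.le_LayOf hL.LayOf_le_normalizer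
  obtain ⟨Q, hQ⟩ := h2.exists_sylow'
  have h3 : (Q : Subgroup L) ≠ ⊥ := fun a => Q.not_dvd_index (by
    rw [a, index_bot]; exact hL.dvd_card hO)
  have h4 : centralizer (P : Set G) ≤ L ⊔ centralizer (L : Set G) := fun c hc => by
    have a : ∀ x ∈ (Q : Subgroup L), c * x * c⁻¹ = x := fun x hx =>
      mul_inv_eq_iff_eq_mul.2 (hc x (hQ.le (mem_map_of_mem _ hx)).1).symm
    obtain ⟨y, y1, y2⟩ := (Q : Subgroup L).bot_or_exists_ne_one.resolve_left h3
    have b : c ∈ normalizer (L : Set G) := mem_normalizer_iff_conj_eq.2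
      ((hL.conj (le_normalizer (mem_top c))).eq_of_commutator_ne_bot hL fun r => y2 (Subtype.ext
        (hz.le ⟨y.2, commutator_eq_bot_iff_le_centralizer.1 r ⟨y, y.2, a y y1⟩⟩)))
    obtain ⟨u, hu⟩ := psl_inn e Q h3 (γ := normalizerMonoidHom L ⟨c, b⟩) fun x hx => Subtype.ext (a x hx)
    rw [← mul_inv_cancel_left u.1 c]
    refine mul_mem_sup u.2 fun x hx => ?_
    have : c * x * c⁻¹ = u * x * u.1⁻¹ := congrArg (fun δ : MulAut L => (δ ⟨x, hx⟩).1) hu
    calc _ = u.1⁻¹ * (u * x * u.1⁻¹) * c := by group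
      _ = _ := by rw [← this]; group
  have h5 : ⊤ = LayOf ⊤ ⊔ normalizer (P : Set G) := (eq_top_iff.2 fun g _ => by
    obtain ⟨n, hn, a⟩ := hP.frattini (le_normalizer_of_normal (mem_top g))
    rw [← inv_mul_cancel_left n g]
    exact mul_mem_sup (inv_mem hn) a).symm
  haveI : (LayOf ⊤ ⊔ centralizer (P : Set G)).Normal := normalizer_eq_top_iff.1 (eq_top_iff.2
    (h5.le.trans (sup_le (le_sup_left.trans le_normalizer) (le_normalizer_sup
      le_normalizer_of_normal (le_normalizer_centralizer le_rfl)))))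
  have h6 : L ⊔ centralizer (L : Set G) = ⊤ := by
    refine eq_top_iff.2 ((hg.odd (D := LayOf ⊤ ⊔ centralizer (P : Set G)) ?_).ge.trans (sup_le
      (hL.LayOf_eq_sup_centralizer.le.trans (sup_le_sup_left inf_le_left _)) h4))
    obtain ⟨S, hS⟩ := exists_isSylIn 2 (normalizer (P : Set G))
    have := relIndex_sup_left (normalizer (P : Set G)) (LayOf ⊤ ⊔ centralizer (P : Set G))
    rw [eq_top_iff.2 (h5.le.trans (sup_le_sup_right le_sup_left _)), relIndex_top_right] at this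
    rw [this]
    refine Nat.not_even_iff_odd.1 fun a => hS.not_dvd_relIndex (a.two_dvd.trans
      (relIndex_dvd_of_le_left _ (le_trans (fun s hs => ?_) le_sup_right)))
    obtain ⟨k, hk⟩ := IsPGroup.iff_orderOf.1 hS.pg ⟨s, hs⟩
    exact two_cent hf hP.pg (orderOf_mk _ hs ▸ hk) (hS.le hs)
  haveI : L.Normal := normalizer_eq_top_iff.1 (eq_top_iff.2 (h6.ge.trans
    (sup_le le_normalizer (centralizer_le_normalizer _))))
  obtain ⟨g⟩ := WA.idp_equiv (A := L) (B := centralizer (L : Set G)) (C := ⊤) ⟨le_top, le_top,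
    fun a ha b hb => hb a ha, hz, h6⟩
  obtain ⟨k, φ, a, ⟨b⟩⟩ := ih (centralizer (L : Set G)) (H4P.card_lt_top fun r =>
      QS.not_le_centralizer hL.qs (r ▸ le_top)) (fun r => hf (H9.involves_of_subgroup _ r))
    ((OqOf_eq_bot_iff _).1 (eq_bot_iff.2 (hO ▸ (SubnormalIn.of_normal le_top
      le_normalizer_of_normal).OqOf_le))) (hg.surj (f := (MonoidHom.snd _ _).comp
      (topEquiv.symm.trans g).toMonoidHom) (Prod.snd_surjective.comp (MulEquiv.surjective _)))
  exact ⟨k + 1, Fin.cons f φ, Fin.cases h1 a, ⟨(topEquiv.symm.trans (g.trans (e.prodCongr b))).trans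
    (MulEquiv.symm ⟨(Fin.consEquiv _).symm, fun _ _ => rfl⟩)⟩⟩

theorem s4976_of {G : Type u} [Group G] [Finite G] (hJ : GP.JTH.{u}) (hR : RH.{u}) (hg : Gen2 G) :
    (∀ x : G, orderOf x = 3 → ¬ IsConj x x⁻¹) ↔ PL (G ⧸ pPrimeCore 3 G) := by
  refine ⟨fun h => pl_of hJ hR _ (fun a => ?_) (by
    rw [pPrimeCore_quotient_eq _ (pPrimeCore_coprime 3 G), Subgroup.map_eq_bot_iff,
      QuotientGroup.ker_mk'])
    (hg.surj (QuotientGroup.mk'_surjective _)), fun h x hx a => h.free ?_⟩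
  · obtain ⟨x, -, y, -, y1, ⟨k, y2⟩, y3⟩ := s3_iff.1 (H9.involves_of_quotient _ a)
    obtain ⟨j, -, b⟩ := (Nat.dvd_prime_pow Nat.prime_three).1 (orderOf_dvd_of_pow_eq_one y2)
    exact h _ (orderOf_pow_orderOf_div (orderOf_pos y).ne' (b ▸ dvd_pow_self 3 fun r =>
      y1 (orderOf_eq_one_iff.1 (by rw [b, r, pow_zero])))) (isConj_iff.2
      ⟨x, inv_of_mem_zpowers y3 (pow_mem (mem_zpowers y) _)⟩)
  · obtain ⟨c, hc⟩ := isConj_iff.1 a
    refine s3_iff.2 ⟨c, trivial, x, trivial, fun r => ?_, ⟨1, ?_⟩, congrArg _ hc⟩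
    · have := (pPrimeCore_coprime 3 G).coprime_dvd_left
        (hx ▸ Subgroup.orderOf_dvd_natCard _ ((QuotientGroup.eq_one_iff _).1 r))
      simp at this
    · rw [← QuotientGroup.mk_pow, pow_one, ← hx, pow_orderOf_eq_one]; rfl

end Cfsg.Agent.H4S
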