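import Cfsg.Agent.H8.Princ
import Cfsg.Agent.H8.Subsec3
import Cfsg.Agent.H6.Klein
import Cfsg.Agent.H6.RealP2
import Cfsg.Agent.S4551
import Cfsg.Agent.S0205

/-! Groups with an element `u` such that `χ 1 - χ u` is constant on the non-principal members
of the principal 2-block: the block calculus. -/

set_option autoImplicit false

namespace Cfsg.Agent.H4K

open Cfsg Cfsg.Agent.H4 Cfsg.Agent.H6 Cfsg.Agent.H8 Subgroup
open scoped ComplexConjugate

variable {G : Type*} [Group G] {M : Ideal AlgInt}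

theorem deg_lemma [Finite G] {χ : G → ℂ} (hχ : IsCharacter G χ) {P : Subgroup G} {t : G}
    (ht : t ∈ P) (t1 : t ≠ 1) (hP : ∀ a b : P, a * b = b * a)
    (hc : ∀ x ∈ P, x ≠ 1 → IsConj t x) :
    ∃ α m : ℕ, χ 1 = α + ((Nat.card P : ℂ) - 1) * m ∧ χ 1 - χ t = Nat.card P * m := by
  classical
  have := Fintype.ofFinite P
  have key : ∀ ψ : P → ℂ, (Nat.card P : ℂ) * classInner (fun x : P => χ x) ψ =
      (χ 1 - χ t) * conj (ψ 1) + χ t * conj (∑ x, ψ x) := fun ψ => by
    have : ∀ x : P, χ x * conj (ψ x) =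
        (if x = 1 then (χ 1 - χ t) * conj (ψ 1) else 0) + χ t * conj (ψ x) := fun x => by
      split_ifs with h
      · subst h; simp only [coe_one]; ring
      · rw [← hχ.isClassFunction.of_isConj (hc x x.2 fun e => h (Subtype.ext e))]; ring
    rw [card_mul_classInner, map_sum, Finset.mul_sum]
    simp only [this, Finset.sum_add_distrib, Finset.sum_ite_eq', Finset.mem_univ, if_true]
  obtain ⟨ψ, hψ, hne⟩ := exists_irr_apply_ne (g := (⟨t, ht⟩ : P)) fun e => t1 (congrArg Subtype.val e)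
  have h1 : ψ 1 = 1 := hψ.apply_one_eq_one_of_comm hP
  have h0 : ∑ x, ψ x = 0 := hψ.sum_eq_zero fun e => hne (by simp [e])
  obtain ⟨α, hα⟩ := (hχ.restrict P).classInner_nat isCharacter_one
  obtain ⟨m, hm⟩ := (hχ.restrict P).classInner_nat hψ.isCharacter
  have k1 := key fun _ => 1
  have k2 := key ψ
  rw [hα] at k1
  rw [hm, h1, h0] at k2
  simp only [map_one, mul_one, map_zero, mul_zero, add_zero, Finset.sum_const, Finset.card_univ,
    nsmul_eq_mul, map_natCast, ← Nat.card_eq_fintype_card] at k1 k2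
  have hq : (Nat.card P : ℂ) ≠ 0 := natCard_ne_zero'
  refine ⟨α, m, mul_left_cancel₀ hq ?_, k2.symm⟩
  linear_combination -k1 - (Nat.card P - 1) * k2

/-- The non-principal members of the principal block. -/
noncomputable def Bp (M : Ideal AlgInt) (G : Type*) [Group G] [Finite G] : Finset (IrrCharacter G) :=
  open Classical in (bfin (principalBlock M G)).erase (irrOne G)

theorem ne_irrOne {χ : IrrCharacter G} : χ ≠ irrOne G ↔ (χ : G → ℂ) ≠ fun _ => 1 :=
  not_congr Subtype.ext_iff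

theorem mem_Bp [Finite G] {χ : IrrCharacter G} :
    χ ∈ Bp M G ↔ χ ∈ principalBlock M G ∧ (χ : G → ℂ) ≠ fun _ => 1 := by
  simp only [Bp, Finset.mem_erase, mem_bfin, ne_irrOne, and_comm]

theorem sum_Bp [Finite G] [M.IsMaximal] {A : Type*} [AddCommMonoid A] (f : IrrCharacter G → A) :
    ∑ χ ∈ bfin (principalBlock M G), f χ = f (irrOne G) + ∑ χ ∈ Bp M G, f χ := by
  classical
  rw [Bp, Finset.add_sum_erase _ _ (mem_bfin.2 H8.irrOne_mem_principal)]

/-- The hypothesis. -/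
structure HB (M : Ideal AlgInt) (u : G) (c : ℂ) : Prop where
  hM : IsPModular 2 M
  c0 : c ≠ 0
  eq : ∀ χ : IrrCharacter G, χ ∈ principalBlock M G → (χ : G → ℂ) ≠ (fun _ => 1) →
    (χ : G → ℂ) 1 - (χ : G → ℂ) u = c

theorem comp_ne_one {Q : Type*} [Group Q] {f : G →* Q} (hf : Function.Surjective f) {ψ : Q → ℂ}
    (h : ψ ≠ fun _ => 1) : (fun g => ψ (f g)) ≠ fun _ => 1 := fun e => h (funext fun x => by
  obtain ⟨g, rfl⟩ := hf x; exact congrFun e g)

namespace HB
variable {u : G} {c : ℂ} (h : HB M u c)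
include h

theorem map [Finite G] {Q : Type*} [Group Q] (f : G →* Q) (hf : Function.Surjective f) :
    HB M (f u) c := by
  have := h.hM.2.1
  refine ⟨h.hM, h.c0, fun ψ h1 h2 => ?_⟩
  simpa using h.eq ⟨_, ψ.2.comp_of_surjective f hf⟩ (sameBlock_comp f hf h1) (comp_ne_one hf h2)

variable [Fintype G]

theorem eq' {χ : IrrCharacter G} (hχ : χ ∈ Bp M G) : (χ : G → ℂ) u = (χ : G → ℂ) 1 - c := by
  rw [← h.eq χ (mem_Bp.1 hχ).1 (mem_Bp.1 hχ).2]; ring

theorem conj2 {g s : G} (hg : ∃ k, orderOf g = 2 ^ k) (g1 : g ≠ 1) (hs : IsPPart 2 u s) :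
    IsConj s g := by
  have := h.hM.2.1
  have : Fact (Nat.Prime 2) := ⟨Nat.prime_two⟩
  by_contra hn
  have p1 := isPPart_self Nat.prime_two hg
  have e1 := block_orth' h.hM H8.isPBlock_principal p1 hs fun e => hn e.symm
  have e2 := block_orth' h.hM H8.isPBlock_principal p1 (isPPart_one (g := (1 : G)) Nat.prime_two (by simp))
    (by simpa using g1)
  have e3 : ∑ χ ∈ Bp M G, (χ : G → ℂ) g = 0 := by
    rw [sum_Bp] at e1 e2
    have : ∑ χ ∈ Bp M G, (χ : G → ℂ) g * conj ((χ : G → ℂ) u) =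
        ∑ χ ∈ Bp M G, (χ : G → ℂ) g * conj ((χ : G → ℂ) 1) - conj c * ∑ χ ∈ Bp M G, (χ : G → ℂ) g := by
      rw [Finset.mul_sum, ← Finset.sum_sub_distrib]
      exact Finset.sum_congr rfl fun χ hχ => by rw [h.eq' hχ, map_sub]; ring
    simp only [irrOne_apply] at e1 e2
    exact mul_left_cancel₀ ((_root_.map_ne_zero _).2 h.c0) (by linear_combination e2 - e1 + this)
  obtain ⟨k, hk⟩ := hg
  have hk' : g ^ 2 ^ k = 1 := hk ▸ pow_orderOf_eq_one g
  have m1 : ∀ (χ : IrrCharacter G) x, (χ : G → ℂ) x ∈ locRing M := fun χ => char_mem χ.2.isGen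
  have e4 := congrArg (redC M) e2
  have e5 := congrArg (redC M) e3
  have m2 : ∀ χ : IrrCharacter G, (χ : G → ℂ) g * conj ((χ : G → ℂ) 1) ∈ locRing M := fun χ =>
    mul_mem (m1 _ _) (H8.conj_char_mem χ.2.isGen _)
  rw [sum_Bp, redC_add (m2 _) (sum_mem fun χ _ => m2 χ), redC_sum _ fun χ _ => m2 χ, redC_zero] at e4
  rw [redC_sum _ fun χ _ => m1 χ _, redC_zero] at e5
  rw [Finset.sum_congr rfl (g := fun χ : IrrCharacter G => redC M ((χ : G → ℂ) g)) fun χ _ => ?_, e5] at e4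
  · simp [redC_one] at e4
  rw [irr_conj_one, redC_mul (m1 _ _) (m1 _ _), redC_char_pElem h.hM χ.2.isCharacter hk',
    ← irr_coe_charDegree, redC_natCast, ← sub_eq_zero]
  have := (intCast_res_eq_zero_iff h.hM _).2 (even_iff_two_dvd.1 (Int.even_mul_pred_self
    (charDegree (χ : G → ℂ) : ℤ)))
  push_cast at this
  linear_combination this

theorem inv (he : Even (Nat.card G)) : ∃ t y, orderOf t = 2 ∧ t * y = u ∧ Commute t y ∧
    ¬ 2 ∣ orderOf y ∧ ∀ g, (∃ k, orderOf g = 2 ^ k) → g ≠ 1 → IsConj t g := by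
  have : Fact (Nat.Prime 2) := ⟨Nat.prime_two⟩
  obtain ⟨s, hs⟩ := exists_isPPart Nat.prime_two u
  obtain ⟨z, hz⟩ := exists_prime_orderOf_dvd_card' 2 he.two_dvd
  have := h.conj2 ⟨1, hz⟩ (by rintro rfl; simp at hz) hs
  obtain ⟨y, h1, h2, h3, h4⟩ := id hs
  exact ⟨s, y, (orderOf_eq_of_isConj this).trans hz, h1, h2, h4, fun g hg g1 => h.conj2 hg g1 hs⟩

theorem sum_u (h2 : 2 ∣ orderOf u) :
    1 + ∑ χ ∈ Bp M G, (χ : G → ℂ) 1 * ((χ : G → ℂ) 1 - c) = 0 := by
  have := h.hM.2.1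
  have : Fact (Nat.Prime 2) := ⟨Nat.prime_two⟩
  have := sum_degree_mul_eq_zero h.hM H8.isPBlock_principal h2
  rw [sum_Bp, Finset.sum_congr rfl fun χ hχ => by rw [h.eq' hχ]] at this
  simpa using this

theorem cA (h2 : 2 ∣ orderOf u) : ∃ n A : ℕ, c = n ∧ n * A = 2 ^ (Nat.card G).factorization 2 := by
  have := h.hM.2.1
  have : Fact (Nat.Prime 2) := ⟨Nat.prime_two⟩
  have e := tilde_eq_sum (p := 2) (isGen_one (G := G))
  have e1 : ∀ x, tilde 2 (fun _ : G => (1 : ℂ)) x = tm 2 (fun _ : G => (1 : ℂ)) (irrOne G) +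
      ∑ χ ∈ Bp M G, (tm 2 (fun _ : G => (1 : ℂ)) χ : ℂ) * (χ : G → ℂ) x := fun x => by
    rw [e, Finset.sum_apply, sum_eq_sum_bfin (principalBlock M G), sum_Bp]
    · simp
    · intro χ hχ
      rw [mem_principal_iff_tm h.hM, not_not] at hχ
      simp [hχ]
  have e2 := e1 1
  have e3 := e1 u
  rw [tilde_of_dvd _ h2, Finset.sum_congr rfl fun χ hχ => by rw [h.eq' hχ, mul_sub],
    Finset.sum_sub_distrib, ← Finset.sum_mul] at e3
  rw [tilde, Pi.smul_apply, pReg_one_apply Nat.prime_two, smul_eq_mul, mul_one] at e2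
  set A : ℤ := ∑ χ ∈ Bp M G, tm 2 (fun _ : G => (1 : ℂ)) χ with hA
  have e4 : c * A = ((2 ^ (Nat.card G).factorization 2 : ℕ) : ℂ) := by
    rw [hA]; push_cast at e2 ⊢; linear_combination e3 - e2
  have A0 : (A : ℂ) ≠ 0 := fun e => pow_cast_ne_zero (p := 2) _ (by rw [← e4, e, mul_zero])
  obtain ⟨χ, hχ⟩ : (Bp M G).Nonempty := Finset.nonempty_iff_ne_empty.2 fun e => A0 (by simp [hA, e])
  have e5 : c = (χ : G → ℂ) 1 - (χ : G → ℂ) u := by rw [h.eq' hχ]; ring
  have e6 : c = (((2 ^ (Nat.card G).factorization 2 : ℕ) / A : ℚ) : ℂ) := by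
    push_cast at e4 ⊢; rw [eq_div_iff A0, e4]
  obtain ⟨n, hn⟩ := H8.exists_int_of_isIntegral_rat (e6 ▸ e5 ▸
    (χ.2.isCharacter.isIntegral 1).sub (χ.2.isCharacter.isIntegral u))
  rw [hn, Rat.cast_intCast] at e6
  have e7 : 0 ≤ n := by
    have := χ.2.isCharacter.re_le u
    have h3 := congrArg Complex.re (e6.symm.trans e5)
    simp only [Complex.intCast_re, Complex.sub_re] at h3
    exact_mod_cast (h3 ▸ sub_nonneg.2 this : (0 : ℝ) ≤ n)
  lift n to ℕ using e7
  rw [e6] at e4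
  have e8 : (n : ℤ) * A = (2 ^ (Nat.card G).factorization 2 : ℕ) := by exact_mod_cast e4
  refine ⟨n, A.natAbs, by simpa using e6, ?_⟩
  simpa [Int.natAbs_mul] using congrArg Int.natAbs e8

theorem sup {n : ℕ} (hc : c = n) {K : Subgroup G} [K.Normal] (P : Sylow 2 G)
    (hP : (P : Subgroup G) ≤ K) : K ⊔ centralizer ((P : Subgroup G) : Set G) = ⊤ := by
  have := h.hM.2.1
  have : Fact (Nat.Prime 2) := ⟨Nat.prime_two⟩
  set N := K ⊔ centralizer ((P : Subgroup G) : Set G) with hN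
  have : N.Normal := normalizer_eq_top_iff.1 (eq_top_iff.2 ((P.normalizer_sup_eq_top' hP).symm.le.trans
    (sup_le ((le_inf (le_normalizer_of_normal) (H1.normalizer_le_normalizer_centralizer _)).trans
      (normalizer_inf_normalizer_le_normalizer_sup _ _)) (le_sup_left.trans le_normalizer))))
  by_contra hne
  have : Nontrivial (G ⧸ N) := QuotientGroup.nontrivial_iff.2 hne
  have ho : Odd (Nat.card (G ⧸ N)) := Nat.odd_iff.2 (Nat.two_dvd_ne_zero.1 fun e =>
    P.not_dvd_index (e.trans (index_dvd_of_le (hP.trans le_sup_left))))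
  have := S0205.result ho
  obtain ⟨x, -, hx⟩ := SetLike.exists_of_lt (IsSolvable.commutator_lt_top_of_nontrivial (G ⧸ N))
  obtain ⟨ψ, hψ, h1, h2⟩ := exists_irr_ker_apply_ne (commutator (G ⧸ N)) hx
  have h3 := hψ.commutator_le_charKer_iff.1 h1
  obtain ⟨lam, rfl⟩ := hψ.isCharacter.exists_linear h3
  have hi := hψ.inflate
  have h4 := h.eq ⟨_, hi⟩ (fun g => ?_) (comp_ne_one (ψ := fun x => (lam x : ℂ))
    (QuotientGroup.mk'_surjective N) fun e => h2 ((congrFun e x).trans h3.symm))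
  · have h5 : (lam u : ℂ) ^ Nat.card (G ⧸ N) = 1 := by
      rw [← Units.val_pow_eq_pow_val, ← map_pow, pow_card_eq_one', map_one, Units.val_one]
    have h6 : (lam u : ℂ) = ((1 - n : ℤ) : ℂ) := by
      push_cast; simp only [QuotientGroup.mk_one, map_one, Units.val_one] at h4
      linear_combination -hc - h4
    rw [h6] at h5
    have h7 : (1 - n : ℤ) = 1 := (pow_eq_one_iff_of_ne_zero ho.pos.ne').1 (by exact_mod_cast h5) |>.resolve_right
      fun e => Nat.not_even_iff_odd.2 ho e.2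
    exact h.c0 (by rw [hc, show n = 0 by omega, Nat.cast_zero])
  have e : centralChar (fun _ : G => (1 : ℂ)) g - centralChar (fun g : G => (lam g : ℂ)) g =
      ((centralizer ({g} : Set G)).index : ℂ) * (1 - lam g) := by simp [centralChar]; ring
  change MemLocalIdeal M (_ - centralChar (fun g : G => (lam g : ℂ)) g)
  rw [e]
  by_cases h5 : 2 ∣ (centralizer ({g} : Set G)).index
  · exact MemLocalIdeal.mul_right' ((memLocalIdeal_natCast_iff h.hM _).2 h5)
      (sub_mem (one_mem _) (char_mem hi.isGen g))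
  obtain ⟨a, ha⟩ := RP.exists_conj_mem P h5
  have h6 : a⁻¹ * g * a⁻¹⁻¹ ∈ N := le_sup_right (a := K) (mem_centralizer_iff.2 fun b hb => by
    have := mem_centralizer_singleton_iff.1 (ha b hb)
    calc _ = a⁻¹ * (a * b * a⁻¹ * g) * a := by group
      _ = _ := by rw [this]; group)
  have h7 : g ∈ N := by simpa [mul_assoc] using (inferInstance : N.Normal).conj_mem _ h6 a
  rw [(QuotientGroup.eq_one_iff g).2 h7]
  simpa using memLocalIdeal_zero

theorem sum_int {n : ℕ} (hc : c = n) (h2 : 2 ∣ orderOf u) :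
    1 + ∑ χ ∈ Bp M G, (charDegree (χ : G → ℂ) : ℤ) * (charDegree (χ : G → ℂ) - n) = 0 := by
  have := h.sum_u h2
  simp only [← irr_coe_charDegree, hc] at this
  exact_mod_cast this

end HB

theorem sq_of_cj [Finite G] {t : G} (ot : orderOf t = 2) {P : Subgroup G} (hP : IsPGroup 2 P)
    (cj : ∀ g, (∃ k, orderOf g = 2 ^ k) → g ≠ 1 → IsConj t g) {x : G} (hx : x ∈ P) : x * x = 1 := by
  by_cases e : x = 1
  · simp [e]
  rw [← pow_two, ← ot, orderOf_eq_of_isConj (cj x (exists_orderOf_eq_of_mem Nat.prime_two hP hx) e),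
    pow_orderOf_eq_one]

theorem comm_of_sq {P : Subgroup G} (h : ∀ x ∈ P, x * x = 1) {a b : G} (ha : a ∈ P) (hb : b ∈ P) :
    a * b = b * a := by
  calc a * b = a * b * (b * a * (b * a)) := by rw [h _ (mul_mem hb ha), mul_one]
    _ = a * (b * b) * a * b * a := by group
    _ = b * a := by rw [h b hb, mul_one, h a ha, one_mul]

theorem le_ncl {t : G} {P : Subgroup G} (hP : IsPGroup 2 P)
    (cj : ∀ g, (∃ k, orderOf g = 2 ^ k) → g ≠ 1 → IsConj t g) : P ≤ normalClosure {t} := fun x hx => by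
  by_cases e : x = 1
  · exact e ▸ one_mem _
  obtain ⟨g, hg⟩ := isConj_iff.1 (cj x (exists_orderOf_eq_of_mem Nat.prime_two hP hx) e)
  exact hg ▸ normalClosure_normal.conj_mem t (subset_normalClosure (Set.mem_singleton t)) g

/-- The data obtained from the block calculus. -/
structure St [Finite G] (M : Ideal AlgInt) (u t y : G) (P : Sylow 2 G) : Prop where
  hb : HB M u (Nat.card P)
  ot : orderOf t = 2
  tu : t * y = u
  cm : Commute t y
  oy : ¬ 2 ∣ orderOf y
  cj : ∀ g, (∃ k, orderOf g = 2 ^ k) → g ≠ 1 → IsConj t g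
  tP : t ∈ (P : Subgroup G)
  sup : normalClosure {t} ⊔ centralizer ((P : Subgroup G) : Set G) = ⊤
  ge : ∀ χ ∈ Bp M G, Nat.card P ≤ charDegree (χ : G → ℂ) + 1
  ex : ∃ χ ∈ Bp M G, charDegree (χ : G → ℂ) + 1 = Nat.card P

theorem HB.st [Fintype G] {u : G} {c : ℂ} (h : HB M u c) (he : Even (Nat.card G)) :
    ∃ t y P, St M u t y P ∧ c = Nat.card P := by
  have := h.hM.2.1
  have : Fact (Nat.Prime 2) := ⟨Nat.prime_two⟩
  obtain ⟨t, y, ot, tu, cm, oy, cj⟩ := h.inv he
  have t1 : t ≠ 1 := by rintro rfl; simp at ot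
  have h2 : 2 ∣ orderOf u := by
    by_contra e
    exact t1 ((IsPPart.eq_one_iff Nat.prime_two (tu ▸ isPPart_mul cm ⟨1, ot⟩ oy)).2 e)
  obtain ⟨n, A, hc, hA⟩ := h.cA h2
  obtain ⟨P, hP⟩ := (H6.isPGroup_zpowers Nat.prime_two ⟨1, ot⟩).exists_le_sylow
  have tP := hP (mem_zpowers t)
  have hK := le_ncl P.isPGroup' cj
  have sup := h.sup hc P hK
  rw [← card_sylow_eq P] at hA
  have ge : ∀ χ ∈ Bp M G, Nat.card P ≤ charDegree (χ : G → ℂ) + 1 := fun χ hχ => by
    obtain ⟨h3, h4⟩ := mem_Bp.1 hχ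
    obtain ⟨α, m, h5, h6⟩ := deg_lemma χ.2.isCharacter tP t1 (fun a b => Subtype.ext
      (comm_of_sq (fun x => sq_of_cj ot P.isPGroup' cj) a.2 b.2))
      fun x hx => cj x (exists_orderOf_eq_of_mem Nat.prime_two P.isPGroup' hx)
    rcases m with _ | m
    · obtain ⟨k1, k2⟩ := S4551.result 2 M h.hM (normalClosure {t})
        (fun e => P.not_dvd_index (e.trans (index_dvd_of_le hK))) P sup
      obtain ⟨θ, -, k3⟩ := k1 χ h3
      have := χ.2.isCharacter.charKer_normal
      have k4 : normalClosure {t} ≤ charKer (χ : G → ℂ) := normalClosure_le_normal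
        (Set.singleton_subset_iff.2 (χ.2.isCharacter.mem_charKer.2 (by
          rw [Nat.cast_zero, mul_zero] at h6; linear_combination -h6)))
      have k5 := θ.2.eq_one_of_forall_eq fun g => by
        rw [← k3, ← k3, apply_of_mem_charKer (k4 g.2), coe_one]
      obtain ⟨χ₀, -, k6⟩ := k2 _ H8.irrOne_mem_principal
      exact absurd ((k6 χ ⟨h3, fun g => by rw [k3, k5]; rfl⟩).trans
        (k6 _ ⟨H8.irrOne_mem_principal, fun _ => rfl⟩).symm) (ne_irrOne.2 h4)
    · rw [← irr_coe_charDegree] at h5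
      have h7 : (charDegree (χ : G → ℂ) : ℤ) = α + (Nat.card P - 1) * (m + 1) := by exact_mod_cast h5
      have h8 : 0 < Nat.card P := Nat.card_pos
      nlinarith
  have s := h.sum_int hc h2
  have n0 : n ≠ 0 := fun e => h.c0 (by simp [hc, e])
  have hq : n = Nat.card P := by
    by_contra e
    have h3 : 2 ≤ A := by
      rcases A with _ | _ | A
      · exact absurd hA.symm Nat.card_pos.ne'
      · exact absurd (by simpa using hA) e
      · omega
    have h4 : 0 ≤ ∑ χ ∈ Bp M G, (charDegree (χ : G → ℂ) : ℤ) * (charDegree (χ : G → ℂ) - n) :=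
      Finset.sum_nonneg fun χ hχ => mul_nonneg (by positivity) (by
        have := ge χ hχ
        have : n * 2 ≤ n * A := Nat.mul_le_mul_left _ h3
        omega)
    omega
  subst hq
  refine ⟨t, y, P, ⟨hc ▸ h, ot, tu, cm, oy, cj, tP, sup, ge, ?_⟩, hc⟩
  by_contra! e
  have h4 : 0 ≤ ∑ χ ∈ Bp M G, (charDegree (χ : G → ℂ) : ℤ) * (charDegree (χ : G → ℂ) - Nat.card P) :=
    Finset.sum_nonneg fun χ hχ => mul_nonneg (by positivity) (by
      have := ge χ hχ
      have := e χ hχ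
      omega)
  omega

end Cfsg.Agent.H4K
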