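import Cfsg.Agent.H4.KW1
import Cfsg.Agent.JT.Ch2

/-! Exclusion of the groups of Janko–Ree type. -/

set_option autoImplicit false

namespace Cfsg.Agent.H4K

open Cfsg Cfsg.Agent.H4 Cfsg.Agent.H6 Cfsg.Agent.H8 Cfsg.Agent.H22 Cfsg.Agent.JT Cfsg.Agent.JR Subgroup
open scoped ComplexConjugate

variable {G : Type*} [Group G] {M : Ideal AlgInt}

theorem exists_TL' [Finite G] {t : G} (ot : orderOf t = 2) (P : Sylow 2 G) (tP : t ∈ (P : Subgroup G))
    (hP : ∀ x ∈ (P : Subgroup G), x * x = 1) : ∃ E, TL t E := by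
  have : Fact (Nat.Prime 2) := ⟨Nat.prime_two⟩
  have hle : (P : Subgroup G) ≤ centralizer {t} := fun x hx =>
    mem_centralizer_singleton_iff.2 (comm_of_sq hP hx tP)
  set C := centralizer ({t} : Set G)
  set Q := (P : Subgroup G).subgroupOf C
  let t' : C := ⟨t, hle tP⟩
  have hQ : ∀ x : Q, x * x = 1 := fun x => Subtype.ext (Subtype.ext (hP _ x.2))
  obtain ⟨ψ, hψ, hne⟩ := exists_irr_apply_ne (g := (⟨t', tP⟩ : Q)) fun e => by
    have : t = 1 := congrArg (fun x : Q => x.1.1) e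
    simp [this] at ot
  obtain ⟨φ, rfl⟩ := hψ.exists_linear_of_comm fun a b =>
    Subtype.ext (Subtype.ext (comm_of_sq hP a.2 b.2))
  have sq : ∀ x : φ.range, x = 1 ∨ (x : ℂˣ) = -1 := by
    rintro ⟨_, x, rfl⟩
    have : (φ x : ℂ) * φ x = 1 := by rw [← Units.val_mul, ← map_mul, hQ, map_one, Units.val_one]
    exact (mul_self_eq_one_iff.1 this).imp (fun e => Subtype.ext (Units.ext e)) fun e => Units.ext e
  set μ := MonoidHom.transfer φ.rangeRestrict with hμ
  have h1 : (μ t' : ℂˣ) = -1 := (sq _).resolve_left fun e => by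
    rw [hμ, MonoidHom.transfer_eq_pow _ t' fun k g _ => ?_] at e
    · obtain ⟨k, hk⟩ : Odd Q.index := Nat.odd_iff.2 (Nat.two_dvd_ne_zero.1 fun e =>
        P.not_dvd_index (e.trans (relIndex_dvd_index_of_le hle)))
      have h2 : t' ^ Q.index = t' := Subtype.ext (by
        rw [hk, pow_succ, pow_mul, pow_two]; simp [t', hP t tP])
      have h3 := congrArg Subtype.val e
      simp only [h2, MonoidHom.coe_rangeRestrict, coe_one] at h3
      exact hne (by simp [h3])
    · have : Commute g t' := Subtype.ext (mem_centralizer_singleton_iff.1 g.2)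
      rw [mul_assoc, ← (this.pow_right k).eq, inv_mul_cancel_left]
  refine ⟨μ.ker.map C.subtype, ot, map_subtype_le _, ?_, fun g hg => ?_⟩
  · rintro ⟨x, h2, h3⟩
    obtain rfl : x = t' := Subtype.ext h3
    rw [MonoidHom.mem_ker.1 h2] at h1
    exact absurd (congrArg Units.val h1) (by norm_num)
  · let g' : C := ⟨g, mem_centralizer_singleton_iff.2 hg⟩
    refine (sq (μ g')).imp (fun e => ⟨g', e, rfl⟩) fun e => ⟨t' * g', Subtype.ext ?_, rfl⟩
    simp [h1, e]

theorem one_sq {ι : Type*} {s : Finset ι} {n : ι → ℤ} (d : ι → ℤ) (h : ∑ i ∈ s, n i * n i = 1) :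
    ∃ i ∈ s, ∑ j ∈ s, n j * d j = d i ∨ ∑ j ∈ s, n j * d j = -d i := by
  classical
  obtain ⟨i, hi, h1⟩ := Finset.exists_ne_zero_of_sum_ne_zero (h.trans_ne one_ne_zero)
  rw [← Finset.add_sum_erase _ _ hi] at h
  have h2 : 0 ≤ ∑ j ∈ s.erase i, n j * n j := Finset.sum_nonneg fun j _ => mul_self_nonneg _
  have h3 := mul_self_nonneg (n i)
  have h4 := (Finset.sum_eq_zero_iff_of_nonneg fun j _ => mul_self_nonneg _).1
    (show ∑ j ∈ s.erase i, n j * n j = 0 by omega)
  refine ⟨i, hi, ?_⟩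
  rw [← Finset.add_sum_erase _ _ hi, Finset.sum_eq_zero fun j hj => by
    rw [mul_self_eq_zero.1 (h4 j hj), zero_mul]]
  rcases mul_self_eq_one_iff.1 (show n i * n i = 1 by omega) with e | e <;> simp [e]

namespace St
variable [Fintype G] {u t y : G} {P : Sylow 2 G} (h : St M u t y P) {E : Subgroup G} (sc : Sc t E)
include h sc

theorem th (h8 : Nat.card P = 8) {a b c : G → ℂ} (k : K4 E a b c) : ∃ n : IrrCharacter G → ℤ,
    (∀ χ : IrrCharacter G, dot E (one (E : Set G) - a) (sh t χ) = n χ) ∧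
    ∑ χ ∈ Bp M G, n χ * n χ = 3 ∧ a y = 1 + 4 * (∑ χ ∈ Bp M G, n χ : ℤ) := by
  classical
  have := h.hb.hM.2.1
  have : Fact (Nat.Prime 2) := ⟨Nat.prime_two⟩
  have oy : y ∈ od G := Nat.odd_iff.2 (Nat.two_dvd_ne_zero.1 h.oy)
  have yE := sc.mem_of_odd h.cm.eq.symm oy
  have hθ := mem_VC_top.1 (sc.TH_VC k.VC_a)
  have hs := VC.supp k.VC_a
  have v0 : ∀ g, ¬ 2 ∣ orderOf g → TH t (one (E : Set G) - a) g = 0 := fun g hg =>
    sc.TH_od hs k.supp_a (Nat.odd_iff.2 (Nat.two_dvd_ne_zero.1 hg))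
  have vu := sc.TH_apply (VC.CF k.VC_a) k.supp_a yE oy
  have gr := sc.TH_gram hs k.supp_a (VC.CF k.VC_a) k.supp_a
  have hd : ∀ χ : IrrCharacter G, dot E (one (E : Set G) - a) (sh t χ) =
      classInner (TH t (one (E : Set G) - a)) χ := fun χ => by
    rw [← dot_top, sc.TH_dot hs (inv_top_iff.2 χ.2.isClassFunction)]
  have v1 := blockPart_eq_zero_of_regular h.hb.hM H8.isPBlock_principal hθ.isClassFunction v0
    (g := 1) (by simp)
  obtain ⟨n, n1, n2, n3⟩ := hθ.exists_int_norm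
  set θ := TH t (one (E : Set G) - a)
  have n0 : n (irrOne G) = 1 := by
    have := (hd _).trans (n1 (irrOne G))
    rw [dot_congr (ψ' := one (E : Set G)) (fun _ _ => rfl) fun x hx => by
      rw [one_of_mem hx]; rfl] at this
    simp only [dot_sub_left, dot_one_one, k.a1, sub_zero] at this
    exact_mod_cast this.symm
  set Bc := Finset.univ \ bfin (principalBlock M G)
  have sp : ∀ {A : Type} [AddCommMonoid A] (f : IrrCharacter G → A),
      ∑ χ, f χ = f (irrOne G) + ∑ χ ∈ Bp M G, f χ + ∑ χ ∈ Bc, f χ := fun f => by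
    rw [← sum_Bp, add_comm, Finset.sum_sdiff (Finset.subset_univ _)]
  have ev : ∀ g, θ g = 1 + ∑ χ ∈ Bp M G, n χ * (χ : G → ℂ) g + ∑ χ ∈ Bc, n χ * (χ : G → ℂ) g :=
    fun g => by rw [n2, Finset.sum_apply, sp]; simp [n0]
  let d : IrrCharacter G → ℤ := fun χ => charDegree (χ : G → ℂ)
  have e1 : 1 + ∑ χ ∈ Bp M G, n χ * d χ = 0 := by
    rw [blockPart_apply, sum_Bp] at v1
    simp only [n1, n0, irrOne_apply, ← irr_coe_charDegree] at v1
    simp only [d]; exact_mod_cast v1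
  have e2 : ∑ χ ∈ Bc, n χ * d χ = 0 := by
    have := (ev 1).symm.trans (v0 1 (by simp))
    simp only [← irr_coe_charDegree] at this
    have : 1 + ∑ χ ∈ Bp M G, n χ * d χ + ∑ χ ∈ Bc, n χ * d χ = 0 := by
      simp only [d]; exact_mod_cast this
    omega
  have e3 : ∑ χ ∈ Bp M G, n χ * n χ + ∑ χ ∈ Bc, n χ * n χ = 3 := by
    rw [dot_top, n3, sp, n0] at gr
    simp only [dot_sub_left, dot_sub_right, dot_one_one, k.a1, dot_zero_symm k.a1,
      Dirr.dot_self k.da] at gr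
    have : 1 * 1 + ∑ χ ∈ Bp M G, n χ * n χ + ∑ χ ∈ Bc, n χ * n χ = 2 * (1 - 0 - (0 - 1)) := by
      exact_mod_cast gr
    omega
  have p1 : 0 ≤ ∑ χ ∈ Bp M G, n χ * n χ := Finset.sum_nonneg fun j _ => mul_self_nonneg _
  have p2 : 0 ≤ ∑ χ ∈ Bc, n χ * n χ := Finset.sum_nonneg fun j _ => mul_self_nonneg _
  have q0 : ∑ χ ∈ Bp M G, n χ * n χ ≠ 0 := fun e => by
    have := (Finset.sum_eq_zero_iff_of_nonneg fun j _ => mul_self_nonneg _).1 e
    rw [Finset.sum_eq_zero fun j hj => by rw [mul_self_eq_zero.1 (this j hj), zero_mul]] at e1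
    omega
  have q1 : ∑ χ ∈ Bp M G, n χ * n χ ≠ 1 := fun e => by
    obtain ⟨i, hi, e⟩ := one_sq d e
    have := h.ge i hi
    simp only [d] at e e1
    omega
  have q2 : ∑ χ ∈ Bc, n χ * n χ ≠ 1 := fun e => by
    obtain ⟨i, hi, e⟩ := one_sq d e
    have := irr_charDegree_pos i
    simp only [d] at e e2
    omega
  have q3 := (Finset.sum_eq_zero_iff_of_nonneg fun j _ => mul_self_nonneg _).1
    (show ∑ χ ∈ Bc, n χ * n χ = 0 by omega)
  refine ⟨n, fun χ => (hd χ).trans (n1 χ), by omega, ?_⟩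
  rw [h.tu, ev, Finset.sum_eq_zero (s := Bc) fun j hj => by
    rw [mul_self_eq_zero.1 (q3 j hj), Int.cast_zero, zero_mul],
    Finset.sum_congr rfl fun χ hχ => by rw [h.hb.eq' hχ, mul_sub, ← irr_coe_charDegree],
    Finset.sum_sub_distrib, ← Finset.sum_mul, h8, Pi.sub_apply, one_of_mem yE] at vu
  have e4 := congrArg (Int.cast : ℤ → ℂ) e1
  simp only [d] at e4
  push_cast at e4 vu ⊢
  linear_combination (vu - e4) / 2

theorem no_sc {v : G} (oc : OC E v) : False := by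
  classical
  have := h.hb.hM.2.1
  have : Fact (Nat.Prime 2) := ⟨Nat.prime_two⟩
  have h8 : Nat.card P = 8 := by rw [card_sylow_eq, sc.f2]; rfl
  have oy : y ∈ od G := Nat.odd_iff.2 (Nat.two_dvd_ne_zero.1 h.oy)
  have yE := sc.mem_of_odd h.cm.eq.symm oy
  have f2 : (Nat.card E).factorization 2 = 2 := by
    have h1 := sc.f2
    have h2 : ¬ 2 ∣ (centralizer ({t} : Set G)).index := fun e => P.not_dvd_index (e.trans
      (index_dvd_of_le fun x hx => mem_centralizer_singleton_iff.2 (comm_of_sq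
        (fun x => sq_of_cj h.ot P.isPGroup' h.cj) hx h.tP)))
    rw [sc.card_eq, Nat.factorization_mul (mul_ne_zero two_ne_zero Nat.card_pos.ne')
      index_ne_zero_of_finite, Nat.factorization_mul two_ne_zero Nat.card_pos.ne'] at h1
    simp only [Finsupp.add_apply, Nat.factorization_eq_zero_of_not_dvd h2,
      Nat.prime_two.factorization_self] at h1
    omega
  obtain ⟨a, b, c, k⟩ := exists_K4 oc sc.no4 f2
  obtain ⟨na, a1, a2, a3⟩ := h.th sc h8 k
  obtain ⟨nb, b1, b2, b3⟩ := h.th sc h8 k.s12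
  obtain ⟨nc, c1, c2, c3⟩ := h.th sc h8 k.s23.s12
  set sa := ∑ χ ∈ Bp M G, na χ
  set sb := ∑ χ ∈ Bp M G, nb χ
  set sc' := ∑ χ ∈ Bp M G, nc χ
  have e0 : sa + sb + sc' = -1 := by
    have := k.reg y yE oy
    rw [a3, b3, c3] at this
    have : (1 : ℤ) + (1 + 4 * sa) + (1 + 4 * sb) + (1 + 4 * sc') = 0 := by exact_mod_cast this
    omega
  have e1 : ∀ χ ∈ Bp M G, (charDegree (χ : G → ℂ) : ℤ) - 8 =
      -(na χ * (1 + 4 * sa) + nb χ * (1 + 4 * sb) + nc χ * (1 + 4 * sc')) := fun χ hχ => by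
    obtain ⟨x, z, w, e⟩ := sc.span k (Irr.Dirr (mem_Irr_top.2 χ.2)) fun e => by
      refine (mem_principal_iff h.hb.hM χ).1 (mem_Bp.1 hχ).1 ?_
      rw [dot, fs_top, mul_eq_zero, inv_eq_zero, or_iff_right (cardC_ne _)] at e
      rw [← e]
      refine Finset.sum_congr rfl fun x _ => ?_
      simp [pRegularPart, IsPRegular, one_apply, mem_od, Nat.odd_iff]
    have key : ∀ {φ : G → ℂ}, Supp (od G) φ →
        dot E φ (sh t χ) = conj x * dot E φ a + conj z * dot E φ b + conj w * dot E φ c := fun hφ => by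
      rw [dot_congr_supp hφ (ψ := sh t χ) (ψ' := x • a + z • b + w • c) fun g h1 h2 => e g h1 h2]
      simp only [dot_add_right, dot_smul_right]
    have k1 := (a1 χ).symm.trans (key k.supp_a)
    have k2 := (b1 χ).symm.trans (key k.s12.supp_a)
    have k3 := (c1 χ).symm.trans (key k.s23.s12.supp_a)
    simp only [dot_sub_left, dot_zero_symm k.a1, dot_zero_symm k.b1, dot_zero_symm k.c1, k.ab, k.ac,
      k.bc, dot_zero_symm k.ab, dot_zero_symm k.ac, dot_zero_symm k.bc, Dirr.dot_self k.da,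
      Dirr.dot_self k.db, Dirr.dot_self k.dc, sub_self, mul_zero, add_zero, zero_add, zero_sub,
      mul_neg, mul_one] at k1 k2 k3
    replace k1 := congrArg conj k1
    replace k2 := congrArg conj k2
    replace k3 := congrArg conj k3
    simp only [map_intCast, map_neg, Complex.conj_conj] at k1 k2 k3
    have k4 := e y yE oy
    rw [h.tu, h.hb.eq' hχ, h8, a3, b3, c3, ← irr_coe_charDegree] at k4
    have : ((charDegree (χ : G → ℂ) - 8 : ℤ) : ℂ) =
        (-(na χ * (1 + 4 * sa) + nb χ * (1 + 4 * sb) + nc χ * (1 + 4 * sc')) : ℤ) := by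
      push_cast at k4 ⊢; rw [k1, k2, k3]; linear_combination k4
    exact_mod_cast this
  have e2 : ∑ χ ∈ Bp M G, -(na χ * na χ + nb χ * nb χ + nc χ * nc χ) ≤
      ∑ χ ∈ Bp M G, ((charDegree (χ : G → ℂ) : ℤ) - 8) := Finset.sum_le_sum fun χ hχ => by
    have h1 := h.ge χ hχ
    have h2 := mul_self_nonneg (na χ)
    have h3 := mul_self_nonneg (nb χ)
    have h4 := mul_self_nonneg (nc χ)
    by_contra h5
    have z1 := mul_self_eq_zero.1 (show na χ * na χ = 0 by omega)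
    have z2 := mul_self_eq_zero.1 (show nb χ * nb χ = 0 by omega)
    have z3 := mul_self_eq_zero.1 (show nc χ * nc χ = 0 by omega)
    rw [e1 χ hχ, z1, z2, z3] at h5
    simp at h5
  rw [Finset.sum_congr rfl e1] at e2
  simp only [Finset.sum_neg_distrib, Finset.sum_add_distrib, ← Finset.sum_mul, a2, b2, c2] at e2
  have par : ∀ n : IrrCharacter G → ℤ, ∑ χ ∈ Bp M G, n χ * n χ = 3 →
      1 ≤ (∑ χ ∈ Bp M G, n χ) * ∑ χ ∈ Bp M G, n χ := fun n e => by
    have h1 : (2 : ℤ) ∣ ∑ χ ∈ Bp M G, n χ * (n χ - 1) :=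
      Finset.dvd_sum fun χ _ => (Int.even_mul_pred_self _).two_dvd
    simp only [mul_sub, mul_one, Finset.sum_sub_distrib, e] at h1
    exact Int.add_one_le_of_lt (mul_self_pos.2 fun e => by rw [e] at h1; omega)
  have h1 := par _ a2
  have h2 := par _ b2
  have h3 := par _ c2
  nlinarith

end St

end Cfsg.Agent.H4K
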