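import Cfsg.Agent.H4.KW2
import Cfsg.Agent.H4.GI
import Cfsg.Agent.JT.Setup
import Cfsg.Agent.WA.Main
import Cfsg.Agent.GW.DStr
import Cfsg.Agent.H11.Simp
import Cfsg.Agent.H11.Bend
import Cfsg.Agent.H19.GL2Ord
import Cfsg.Agent.H25.AbInv
import Cfsg.Agent.S2299
import Cfsg.Agent.S2300
import Cfsg.Agent.S0494
import Cfsg.Agent.H15.Bin3

/-! The structure of a group in which `χ 1 - χ u` is constant on the principal 2-block. -/

set_option autoImplicit false

namespace Cfsg.Agent.H4K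

open Cfsg Cfsg.Agent.H4 Cfsg.Agent.H6 Cfsg.Agent.H8 Cfsg.Agent.JT Cfsg.Agent.JR Subgroup
open scoped ComplexConjugate MatrixGroups

variable {G : Type*} [Group G] {M : Ideal AlgInt}

/-- The local fusion data in the centralizer of an involution of a group of Janko–Ree type. -/
def JJ (t : G) : Prop := ∃ v w c : G, v * t = t * v ∧ c * t = t * c ∧ orderOf v = 2 ∧
  c * v * c⁻¹ = w ∧ c * w * c⁻¹ = v * w ∧ ∀ x, orderOf x = 2 → x * t = t * x → x ≠ t →
    ∃ g, g * t = t * g ∧ (g * v * g⁻¹ = x ∨ g * (t * v) * g⁻¹ = x)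

theorem JJ.map {H : Type*} [Group H] {t : G} (h : JJ t) (f : G →* H) (hf : Function.Injective f)
    (h2 : ∀ x, orderOf x = 2 → x ∈ f.range) : JJ (f t) := by
  obtain ⟨v, w, c, h1, h3, h4, h5, h6, h7⟩ := h
  refine ⟨f v, f w, f c, by simpa using congrArg f h1, by simpa using congrArg f h3,
    (orderOf_injective f hf v).trans h4, by simpa using congrArg f h5, by simpa using congrArg f h6,
    fun x k1 k2 k3 => ?_⟩
  obtain ⟨x, rfl⟩ := h2 x k1
  obtain ⟨g, k4, k5⟩ := h7 x ((orderOf_injective f hf x).symm.trans k1) (hf (by simpa using k2))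
    fun e => k3 (congrArg f e)
  exact ⟨f g, by simpa using congrArg f k4,
    k5.imp (fun e => by simpa using congrArg f e) fun e => by simpa using congrArg f e⟩

theorem JJ.oc [Fintype G] {t : G} (h : JJ t) {E : Subgroup G} (hE : TL t E) : ∃ v, OC E v := by
  obtain ⟨v, w, c, h1, h3, h4, h5, h6, h7⟩ := h
  have tc : ∀ {g x : G}, g * t = t * g → g * (t * x) * g⁻¹ = t * (g * x * g⁻¹) := fun e => by
    rw [← mul_assoc, e]; group
  have hv : v ∈ E := (hE.ex v h1).resolve_right fun e => by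
    have k1 := hE.conj_mem h3 e
    rw [tc h3, h5] at k1
    have k2 := hE.conj_mem h3 k1
    rw [tc h3, h6] at k2
    have k3 := mul_mem e k1
    rw [show t * v * (t * w) = t * (v * t) * w by group, h1, ← mul_assoc, hE.tt, one_mul] at k3
    exact hE.t_mul_nm k3 k2
  refine ⟨v, hv, h4, fun x hx k1 => ?_⟩
  obtain ⟨g, k2, k3 | k3⟩ := h7 x k1 (hE.comm hx) fun e => hE.nm (e ▸ hx)
  · obtain ⟨l, hl, rfl | rfl⟩ := hE.ex' k2
    · exact ⟨g, hl, k3⟩
    · exact ⟨l, hl, (hE.t_conj h1 hl).symm.trans k3⟩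
  · rw [tc k2] at k3
    exact absurd (k3 ▸ hx) (hE.t_mul_nm (hE.conj_mem k2 hv))

theorem iso60 {H : Type*} [Group H] [Finite G] [Finite H] [IsSimpleGroup G] [IsSimpleGroup H]
    (h : Nat.card G = 60) (h' : Nat.card H = 60) : Nonempty (G ≃* H) :=
  ⟨(S0494.result h).some.trans (S0494.result h').some.symm⟩

theorem sq_of_even {F : Type*} [Field F] [Fintype F] {n : ℕ} (hn : 1 ≤ n) (hF : Fintype.card F = 2 ^ n)
    (e : G ≃* PSL(2, F)) {u : G} (h : 2 ∣ orderOf u) : u ^ 2 = 1 := by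
  have := H11.charP_two_of_card hF
  have h1 := H19.orderOf_SL2_dvd_two ((e.trans H25.pslEquivSL) u)
  rw [MulEquiv.orderOf_eq, hF] at h1
  obtain ⟨k, rfl⟩ := Nat.exists_eq_add_of_le' hn
  have h2 : 0 < 2 ^ k := by positivity
  rcases h1 with h1 | h1 | h1
  · exact orderOf_dvd_iff_pow_eq_one.1 h1
  all_goals have := h.trans h1; rw [pow_succ] at this; omega

theorem card_syl {F : Type*} [Field F] [Fintype F] {n : ℕ} (hn : 1 ≤ n) (hF : Fintype.card F = 2 ^ n)
    [Finite G] (e : G ≃* PSL(2, F)) (P : Sylow 2 G) : Nat.card P = 2 ^ n := by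
  have := H11.charP_two_of_card hF
  have : Fact (Nat.Prime 2) := ⟨Nat.prime_two⟩
  obtain ⟨k, rfl⟩ := Nat.exists_eq_add_of_le' hn
  have h2 : 0 < 2 ^ (2 * k + 1) := by positivity
  have h3 : ¬ 2 ∣ (2 ^ (k + 1)) ^ 2 - 1 := by
    rw [show (2 ^ (k + 1)) ^ 2 = 2 ^ (2 * k + 1) * 2 by ring]; omega
  rw [card_sylow_eq, Nat.card_congr e.toEquiv, H25.card_psl2_two, hF, Nat.factorization_mul (by positivity)
    (fun e => h3 (by simp [e])), Finsupp.add_apply, Nat.factorization_eq_zero_of_not_dvd h3,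
    Nat.prime_two.factorization_pow]
  simp

namespace St
variable [Fintype G] {u t y : G} {P : Sylow 2 G} (h : St M u t y P)
include h

theorem sq {x : G} (hx : x ∈ (P : Subgroup G)) : x * x = 1 := sq_of_cj h.ot P.isPGroup' h.cj hx

theorem le : (P : Subgroup G) ≤ normalClosure {t} := le_ncl P.isPGroup' h.cj

theorem t1 : t ≠ 1 := fun e => by simpa [e] using h.ot

theorem tK : t ∈ normalClosure {t} := h.le h.tP

theorem two_dvd : 2 ∣ orderOf u := by
  by_contra e
  exact h.t1 ((IsPPart.eq_one_iff Nat.prime_two (h.tu ▸ isPPart_mul h.cm ⟨1, h.ot⟩ h.oy)).2 e)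

theorem dec (g : G) : ∃ k ∈ normalClosure {t}, ∃ c ∈ centralizer ((P : Subgroup G) : Set G),
    k * c = g := by
  have : g ∈ ((normalClosure {t} ⊔ centralizer ((P : Subgroup G) : Set G) : Subgroup G) : Set G) :=
    h.sup ▸ mem_top g
  rwa [normal_mul] at this

theorem cjK {x : G} (hx : orderOf x = 2) : ∃ k ∈ normalClosure {t}, k * t * k⁻¹ = x := by
  obtain ⟨g, rfl⟩ := isConj_iff.1 (h.cj x ⟨1, hx⟩ fun e => by simp [e] at hx)
  obtain ⟨k, hk, c, hc, rfl⟩ := h.dec g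
  refine ⟨k, hk, ?_⟩
  rw [mul_assoc k c, ← mem_centralizer_iff.1 hc t h.tP]; group

theorem memK {x : G} (hx : orderOf x = 2) : x ∈ normalClosure {t} := by
  obtain ⟨k, hk, rfl⟩ := h.cjK hx
  exact mul_mem (mul_mem hk h.tK) (inv_mem hk)

theorem not_jj (f2 : (Nat.card G).factorization 2 = 3) : ¬ JJ t := fun j => by
  obtain ⟨E, hE⟩ := exists_TL' h.ot P h.tP fun x => h.sq
  obtain ⟨v, hv⟩ := j.oc hE
  refine h.no_sc ⟨hE, fun x hx => (h.cjK hx).imp fun _ e => e.2, fun x hx => ?_, f2⟩ hv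
  obtain ⟨k, hk⟩ := exists_orderOf_eq_of_dvd hx
  have := orderOf_eq_of_isConj (h.cj _ ⟨2, hk⟩ fun e => by simp [e] at hk)
  rw [h.ot, hk] at this
  omega

variable (hO : pPrimeCore 2 G = ⊥)
include hO

theorem simple : IsSimpleGroup (normalClosure ({t} : Set G)) := by
  have : Fact (Nat.Prime 2) := ⟨Nat.prime_two⟩
  set K := normalClosure ({t} : Set G)
  have : Nontrivial K := ⟨⟨t, h.tK⟩, 1, fun e => h.t1 (congrArg Subtype.val e)⟩
  refine ⟨fun N hN => or_iff_not_imp_left.2 fun h0 => ?_⟩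
  have h1 : Even (Nat.card N) := Nat.not_odd_iff_even.1 fun e => h0 ((map_eq_bot_iff_of_injective N
    K.subtype_injective).1 (H11.eq_bot_of_odd_of_subnormal hO (map_subtype_le N)
      (by simpa [normalizer_eq_top N, ← MonoidHom.range_eq_map] using N.le_normalizer_map K.subtype) (by rwa [H11.card_map_subtype])))
  obtain ⟨x, hx⟩ := exists_prime_orderOf_dvd_card' 2 h1.two_dvd
  obtain ⟨k, hk, e⟩ := h.cjK (x := x) (by simpa using hx)
  have h2 : (⟨t, h.tK⟩ : K) ∈ N := by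
    have := hN.conj_mem _ x.2 (⟨k, hk⟩ : K)⁻¹
    rwa [show (⟨k, hk⟩ : K)⁻¹ * x * (⟨k, hk⟩ : K)⁻¹⁻¹ = ⟨t, h.tK⟩ from Subtype.ext (by
      simp [← e, mul_assoc])] at this
  have h3 : K ≤ N.map K.subtype := (closure_le _).2 fun z hz => by
    obtain ⟨s, hs, hz'⟩ := Group.mem_conjugatesOfSet_iff.1 hz
    rw [Set.mem_singleton_iff.1 hs] at hz'
    obtain ⟨l, hl, e⟩ := h.cjK ((orderOf_eq_of_isConj hz').symm.trans h.ot)
    exact ⟨_, hN.conj_mem _ h2 ⟨l, hl⟩, e⟩
  exact eq_top_iff.2 fun z _ => by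
    obtain ⟨z', h4, h5⟩ := h3 z.2
    exact (Subtype.ext h5 : z' = z) ▸ h4

theorem two (hc : IsMulCommutative (normalClosure ({t} : Set G))) :
    Nat.card G = 2 ∧ Nat.card P = 2 := by
  have : Fact (Nat.Prime 2) := ⟨Nat.prime_two⟩
  have := h.simple hO
  have h1 : normalClosure {t} ≤ zpowers t := fun x hx => by
    have := (IsSimpleGroup.eq_bot_or_eq_top_of_normal (zpowers (⟨t, h.tK⟩ : normalClosure ({t} : Set G)))
      (normal_of_isMulCommutative _)).resolve_left fun e => h.t1 (congrArg Subtype.val (zpowers_eq_bot.1 e))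
    obtain ⟨k, hk⟩ := mem_zpowers_iff.1 (this.ge (mem_top ⟨x, hx⟩))
    exact ⟨k, by simpa using congrArg Subtype.val hk⟩
  have h2 : Nat.card P = 2 := by
    rw [le_antisymm (h.le.trans h1) (zpowers_le.2 h.tP), Nat.card_zpowers, h.ot]
  have h3 : normalizer ((P : Subgroup G) : Set G) ≤ centralizer ((P : Subgroup G) : Set G) :=
    le_top.trans (h.sup.symm.le.trans (sup_le (h1.trans (zpowers_le.2 (mem_centralizer_iff.2
      fun x hx => comm_of_sq (fun _ => h.sq) hx h.tP))) le_rfl))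
  have h4 := (MonoidHom.ker_transferSylow_isComplement' P h3).card_mul
  have h5 := H1.le_pPrimeCore ((Nat.prime_two.coprime_iff_not_dvd.2
    (MonoidHom.not_dvd_card_ker_transferSylow P h3)).symm)
  rw [hO, le_bot_iff] at h5
  rw [h5, card_bot, one_mul, h2] at h4
  exact ⟨h4.symm, h2⟩

theorem cent (hc : ¬ IsMulCommutative (normalClosure ({t} : Set G))) :
    centralizer ((normalClosure ({t} : Set G) : Subgroup G) : Set G) = ⊥ := by
  have : Fact (Nat.Prime 2) := ⟨Nat.prime_two⟩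
  have := h.simple hO
  refine eq_bot_iff.2 (hO ▸ H1.le_pPrimeCore (Nat.prime_two.coprime_iff_not_dvd.2 fun e => ?_).symm)
  obtain ⟨x, hx⟩ := exists_prime_orderOf_dvd_card' 2 e
  rw [← orderOf_coe] at hx
  have h1 : (⟨x, h.memK hx⟩ : normalClosure ({t} : Set G)) ∈ center _ :=
    mem_center_iff.2 fun g => Subtype.ext (mem_centralizer_iff.1 x.2 g g.2)
  rw [center_eq_bot_of_simple (by
    by_contra! e; exact hc ⟨⟨e⟩⟩), mem_bot, Subtype.ext_iff] at h1
  simp [show x.1 = 1 from h1] at hx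

theorem top_of_psl (hc : ¬ IsMulCommutative (normalClosure ({t} : Set G))) {F : Type*} [Field F]
    [Fintype F] {n : ℕ} (hF : Fintype.card F = 2 ^ n) (e : normalClosure ({t} : Set G) ≃* PSL(2, F)) :
    Nonempty (G ≃* PSL(2, F)) := by
  have : Fact (Nat.Prime 2) := ⟨Nat.prime_two⟩
  have := h.simple hO
  have := H11.charP_two_of_card hF
  have h1 : normalClosure ({t} : Set G) = ⊤ := eq_top_iff.2 (h.sup.symm.le.trans (sup_le le_rfl
    fun c hc' => by
    have h3 : (⟨t, h.tK⟩ : normalClosure ({t} : Set G)) ∈ (P.subtype h.le : Subgroup _) := h.tP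
    obtain ⟨k, hk⟩ := H4S.psl_inn e (P.subtype h.le) (fun e => h.t1 (by
      rw [e, mem_bot, Subtype.ext_iff] at h3; exact h3))
      (γ := MulAut.conjNormal c) fun a ha => Subtype.ext (by
        rw [MulAut.conjNormal_apply, ← mem_centralizer_iff.1 hc' a ha, mul_inv_cancel_right])
    have h2 : (k : G)⁻¹ * c ∈ centralizer ((normalClosure ({t} : Set G) : Subgroup G) : Set G) :=
      mem_centralizer_iff.2 fun g hg => by
        have := congrArg Subtype.val (DFunLike.congr_fun hk ⟨g, hg⟩)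
        simp only [MulAut.conjNormal_apply, MulAut.conj_apply, coe_mul, coe_inv] at this
        calc _ = (k : G)⁻¹ * (k * g * (k : G)⁻¹) * c := by group
          _ = _ := by rw [← this]; group
    rw [h.cent hO hc, mem_bot, inv_mul_eq_one] at h2
    exact h2 ▸ k.2))
  exact ⟨topEquiv.symm.trans ((MulEquiv.subgroupCongr h1.symm).trans e)⟩

theorem core : (Nat.card G = 2 ∧ Nat.card P = 2) ∨ ∃ (F : Type) (_ : Field F) (_ : Fintype F) (n : ℕ),
    2 ≤ n ∧ Fintype.card F = 2 ^ n ∧ Nonempty (G ≃* PSL(2, F)) := by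
  have : Fact (Nat.Prime 2) := ⟨Nat.prime_two⟩
  have := h.simple hO
  refine or_iff_not_imp_left.2 fun h0 => ?_
  have hc := mt (h.two hO) h0
  set K := normalClosure ({t} : Set G) with hK
  have oi : ¬ 2 ∣ K.index := fun e => P.not_dvd_index (e.trans (index_dvd_of_le h.le))
  have ab : WA.Ab2 (⊤ : Subgroup K) := fun T _ hT a ha b hb => comm_of_sq (fun x hx => Subtype.ext
    (sq_of_cj h.ot (hT.map K.subtype) h.cj ⟨x, hx, rfl⟩)) ha hb
  have cP : Nat.card P = 2 ^ (Nat.card K).factorization 2 := by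
    rw [← card_sylow_eq (P.subtype h.le), Sylow.coe_subtype, H11.card_subgroupOf h.le]
  rcases WA.walter hc ab with ⟨F, _, _, ⟨n, h1, h2⟩, ⟨e⟩⟩ | ⟨F, _, _, h1, h2, ⟨e⟩⟩ | hJ
  · exact ⟨F, _, _, n, h1, h2, h.top_of_psl hO hc h2 e⟩
  · have h3 := H12.card_PSL2 (F := F) rfl
    rw [← Nat.card_congr e.toEquiv, Nat.gcd_eq_left (by omega)] at h3
    have h4 : Nat.card K % 8 = 4 := by
      obtain ⟨k, hk | hk⟩ : ∃ k, Fintype.card F = 8 * k + 3 ∨ Fintype.card F = 8 * k + 5 :=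
        ⟨Fintype.card F / 8, by omega⟩
      · rw [hk, Nat.sub_eq_of_eq_add (show _ = 64 * k ^ 2 + 48 * k + 8 + 1 by ring)] at h3
        have := h3.trans (show _ = 2 * (8 * (32 * k ^ 3 + 36 * k ^ 2 + 13 * k + 1) + 4) by ring)
        omega
      · rw [hk, Nat.sub_eq_of_eq_add (show _ = 64 * k ^ 2 + 80 * k + 24 + 1 by ring)] at h3
        have := h3.trans (show _ = 2 * (8 * (32 * k ^ 3 + 60 * k ^ 2 + 37 * k + 7) + 4) by ring)
        omega
    rw [factorization_eq_of_dvd_of_not_dvd Nat.prime_two (e := 2) (by omega) (by omega)] at cP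
    obtain ⟨χ, k1, k2⟩ := h.ex
    obtain ⟨θ, -, k3⟩ := (S4551.result 2 M h.hb.hM K oi P h.sup).1 χ (mem_Bp.1 k1).1
    have k4 := (S2299.result (F := F) (Nat.odd_iff.2 (by omega))).1 _ (θ.2.comp_of_surjective
      (e.symm.toMonoidHom.comp (QuotientGroup.mk' _))
      (e.symm.surjective.comp (QuotientGroup.mk'_surjective _)))
    simp only [map_one, ← k3, coe_one, ← irr_coe_charDegree,
      show charDegree (χ : G → ℂ) = 3 by omega] at k4
    have k5 : Fintype.card F = 5 := by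
      rcases k4 with e | e | e | e | e | e
      · norm_num at e
      · have : 3 = Fintype.card F := by exact_mod_cast e
        omega
      · have : 3 = Fintype.card F + 1 := by exact_mod_cast e
        omega
      · have : 3 + 1 = Fintype.card F := by exact_mod_cast eq_sub_iff_add_eq.1 e
        omega
      · have := Nat.cast_injective e
        omega
      · have := Nat.cast_injective e
        omega
    let F' := GaloisField 2 2
    have := Fintype.ofFinite F'
    have k6 : Fintype.card F' = 2 ^ 2 := by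
      rw [← Nat.card_eq_fintype_card, GaloisField.card 2 2 two_ne_zero]
    have := GW.psl_simple (F := F') (by omega)
    have k7 := H12.card_PSL2 k6
    rw [k5] at h3
    exact ⟨F', _, _, 2, le_rfl, k6, h.top_of_psl hO hc k6
      (iso60 (G := K) (by omega) (by simpa using k7)).some⟩
  · obtain ⟨F, _, _, s, E, L, n, a, w, r, -, -⟩ := RE.of_jrt hc ab hJ
    obtain ⟨c, hc, ro⟩ := r.rotL
    have j0 : JJ s := ⟨a ^ n, w, c, r.vt, r.comm (r.sub hc), r.ov, ro.rt, ro.rv, fun x k1 k2 k3 =>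
      (r.invol_cent k1 k2 k3).imp fun g e => ⟨r.comm (r.sub e.1), e.2⟩⟩
    have j1 := j0.map K.subtype K.subtype_injective fun x hx => ⟨⟨x, h.memK hx⟩, rfl⟩
    obtain ⟨k, -, hk⟩ := h.cjK (x := s) (by simpa using r.ord)
    have j2 := j1.map (MulAut.conj k⁻¹).toMonoidHom (MulAut.conj k⁻¹).injective fun x _ =>
      (MulAut.conj k⁻¹).surjective x
    refine (h.not_jj ?_ (by simpa [← hk, mul_assoc] using j2)).elim
    rw [← K.card_mul_index, Nat.factorization_mul Nat.card_pos.ne' index_ne_zero_of_finite,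
      Finsupp.add_apply, r.f2, Nat.factorization_eq_zero_of_not_dvd oi]

end St

theorem HB.core [Finite G] {u : G} {c : ℂ} (h : HB M u c) (he : Even (Nat.card G)) :
    u ∉ oddCore G ∧ ((Nat.card (G ⧸ oddCore G) = 2 ∧ c = 2) ∨
      ∃ (F : Type) (_ : Field F) (_ : Fintype F) (n : ℕ), 2 ≤ n ∧ Fintype.card F = 2 ^ n ∧
        Nonempty (G ⧸ oddCore G ≃* PSL(2, F)) ∧ u ^ 2 ∈ oddCore G ∧ c = (2 ^ n : ℕ)) := by
  have : Fact (Nat.Prime 2) := ⟨Nat.prime_two⟩
  have := Fintype.ofFinite (G ⧸ oddCore G)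
  obtain ⟨t, y, P, s, hc⟩ := (h.map (QuotientGroup.mk' (oddCore G)) (QuotientGroup.mk'_surjective _)).st (by
    rw [card_eq_card_quotient_mul_card_subgroup (oddCore G), Nat.even_mul] at he
    exact he.resolve_right fun e => H1.not_dvd_card_pPrimeCore 2 G e.two_dvd)
  refine ⟨fun e => ?_, (s.core (H1.pPrimeCore_quotient_pPrimeCore 2)).imp
    (fun e => ⟨e.1, by rw [hc, e.2]; rfl⟩) ?_⟩
  · simpa [(QuotientGroup.eq_one_iff u).2 e] using s.two_dvd
  · rintro ⟨F, _, _, n, h1, h2, ⟨e⟩⟩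
    exact ⟨F, _, _, n, h1, h2, ⟨e⟩, (QuotientGroup.eq_one_iff _).1
      (sq_of_even (by omega) h2 e s.two_dvd), by rw [hc, card_syl (by omega) h2 e]⟩

theorem rev [Finite G] [IsSimpleGroup G] {P : Subgroup G} {t : G} (ht : t ∈ P) (t1 : t ≠ 1)
    (hP : ∀ a b : P, a * b = b * a) (hc : ∀ x ∈ P, x ≠ 1 → IsConj t x) {ψ : G → ℂ}
    (hψ : IsIrrCharacter G ψ) (h1 : ψ ≠ fun _ => 1) (hd : charDegree ψ + 2 < 2 * Nat.card P) :
    ψ 1 - ψ t = Nat.card P := by
  obtain ⟨α, m, h2, h3⟩ := deg_lemma hψ.isCharacter ht t1 hP hc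
  rcases m with _ | _ | m
  · refine absurd (mem_bot.1 (hψ.charKer_eq_bot_of_simple h1 ▸ hψ.isCharacter.mem_charKer.2 ?_)) t1
    rw [Nat.cast_zero, mul_zero] at h3
    linear_combination -h3
  · simpa using h3
  · rw [← hψ.isCharacter.charDegree_cast] at h2
    have h4 : (charDegree ψ : ℤ) = α + (Nat.card P - 1) * (m + 1 + 1) := by exact_mod_cast h2
    have h5 : 0 < Nat.card P := Nat.card_pos
    nlinarith

theorem rev2 [Finite G] (h : Nat.card G = 2) {t : G} (t1 : t ≠ 1) {ψ : G → ℂ}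
    (hψ : IsIrrCharacter G ψ) (h1 : ψ ≠ fun _ => 1) : ψ 1 - ψ t = 2 := by
  have : Fact (Nat.Prime 2) := ⟨Nat.prime_two⟩
  have := isSimpleGroup_of_prime_card h
  have hc := (isCyclic_of_prime_card h).isMulCommutative.is_comm.comm
  obtain ⟨y, -, hy⟩ := (Nat.card_eq_two_iff' (1 : G)).1 h
  have := rev (mem_top t) t1 (fun a b => Subtype.ext (hc _ _)) (fun x _ e => by rw [hy x e, hy t t1])
    hψ h1 (by rw [card_top, h, charDegree_eq_of (d := 1) (by simpa using hψ.apply_one_eq_one_of_comm hc)]; omega)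
  rwa [card_top, h] at this

theorem revL [Finite G] {F : Type} [Field F] [Fintype F] {n : ℕ} (hn : 2 ≤ n) (hF : Fintype.card F = 2 ^ n)
    (e : G ≃* PSL(2, F)) {t : G} (t1 : t ≠ 1) (t2 : t ^ 2 = 1) {ψ : G → ℂ}
    (hψ : IsIrrCharacter G ψ) (h1 : ψ ≠ fun _ => 1) : ψ 1 - ψ t = (2 ^ n : ℕ) := by
  have : Fact (Nat.Prime 2) := ⟨Nat.prime_two⟩
  have := H11.charP_two_of_card hF
  have h4 : 4 ≤ 2 ^ n := Nat.pow_le_pow_right two_pos hn
  have := GW.psl_simple (F := F) (by omega)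
  have := e.isSimpleGroup
  have ot := orderOf_eq_prime t2 t1
  obtain ⟨P, hP⟩ := (H6.isPGroup_zpowers Nat.prime_two ⟨1, ot⟩).exists_le_sylow
  have cj : ∀ g : G, (∃ k, orderOf g = 2 ^ k) → g ≠ 1 → IsConj t g := fun g ⟨k, hk⟩ g1 => by
    have h2 := orderOf_eq_prime (sq_of_even (by omega) hF e (hk ▸ dvd_pow_self 2 fun e => g1
      (orderOf_eq_one_iff.1 (by simpa [e] using hk)))) g1
    simpa using e.symm.toMonoidHom.map_isConj (H15.isConj_two (CharP.cast_eq_zero F 2) (e t) (e g)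
      (by simpa using ot) (by simpa using h2))
  rw [← card_syl (by omega) hF e P]
  refine rev (hP (mem_zpowers t)) t1 (fun a b => Subtype.ext (comm_of_sq
    (fun x => sq_of_cj ot P.isPGroup' cj) a.2 b.2))
    (fun x hx => cj x (exists_orderOf_eq_of_mem Nat.prime_two P.isPGroup' hx)) hψ h1 ?_
  have h2 := (S2300.result (F := F)).1 _ (hψ.comp_equiv (e.trans H25.pslEquivSL).symm)
  simp only [map_one, ← hψ.isCharacter.charDegree_cast, hF] at h2
  rw [card_syl (by omega) hF e P]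
  rcases h2 with e | e | e | e
  · have : charDegree ψ = 1 := by exact_mod_cast e
    omega
  · have : charDegree ψ + 1 = 2 ^ n := by exact_mod_cast eq_sub_iff_add_eq.1 e
    omega
  · have := Nat.cast_injective e
    omega
  · have : charDegree ψ = 2 ^ n + 1 := by exact_mod_cast e
    omega

theorem s4514 [Finite G] (hM : IsPModular 2 M) (u : G) :
    (∃ k : ℂ, ∀ χ : IrrCharacter G, χ ∈ principalBlock M G → (χ : G → ℂ) ≠ (fun _ => 1) →
        (χ : G → ℂ) 1 - (χ : G → ℂ) u = k) ↔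
      (u ∈ oddCore G ∨ (Nat.card (G ⧸ oddCore G) = 2 ∧ u ∉ oddCore G) ∨
        (∃ (F : Type) (_ : Field F) (_ : Fintype F) (n : ℕ), 2 ≤ n ∧ Fintype.card F = 2 ^ n ∧
          Nonempty (G ⧸ oddCore G ≃* PSL(2, F)) ∧ u ∉ oddCore G ∧ u ^ 2 ∈ oddCore G)) := by
  have := hM.2.1
  constructor
  · rintro ⟨k, hk⟩
    refine or_iff_not_imp_left.2 fun hu => ?_
    have h1 := hu
    rw [oddCore, ← blockKerSub_principal hM, mem_blockKerSub] at h1
    push Not at h1
    obtain ⟨χ, h1, h2⟩ := h1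
    have h3 : HB M u k := ⟨hM, fun e => h2 (by
      have := hk χ h1 fun e => h2 (by simp [e])
      linear_combination -this - e), hk⟩
    refine (h3.core (Nat.not_odd_iff_even.1 fun e => hu (H1.le_pPrimeCore (N := ⊤)
      (by simpa using e) (mem_top u)))).2.imp (fun e => ⟨e.1, hu⟩) ?_
    rintro ⟨F, _, _, n, k1, k2, k3, k4, -⟩
    exact ⟨F, _, _, n, k1, k2, k3, hu, k4⟩
  have key : ∀ k : ℂ, (∀ ψ, IsIrrCharacter (G ⧸ oddCore G) ψ → (ψ ≠ fun _ => 1) → ψ 1 - ψ u = k) →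
      ∃ k : ℂ, ∀ χ : IrrCharacter G, χ ∈ principalBlock M G → (χ : G → ℂ) ≠ (fun _ => 1) →
        (χ : G → ℂ) 1 - (χ : G → ℂ) u = k := fun k h => ⟨k, fun χ h1 h2 => by
    have h3 := pPrimeCore_le_charKer hM h1
    have := h _ (χ.2.deflate h3) fun e => h2 (funext fun g => (deflate_mk h3 g).symm.trans (congrFun e g))
    rwa [deflate_mk h3, ← QuotientGroup.mk_one, deflate_mk h3] at this⟩
  rintro (hu | ⟨h1, hu⟩ | ⟨F, _, _, n, h1, h2, ⟨e⟩, hu, h3⟩)
  · exact key 0 fun ψ _ _ => by rw [(QuotientGroup.eq_one_iff u).2 hu, sub_self]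
  · exact key 2 fun ψ => rev2 h1 (mt (QuotientGroup.eq_one_iff u).1 hu)
  · exact key _ fun ψ => revL h1 h2 e (mt (QuotientGroup.eq_one_iff u).1 hu)
      ((QuotientGroup.eq_one_iff _).2 h3)

end Cfsg.Agent.H4K
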