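import Cfsg.Agent.H4.KW3
import Cfsg.Agent.H5.Det
import Cfsg.Agent.H11.Count

/-! Groups with an element `u` such that `χ 1 - χ u = 4` or `χ u = 0` for all non-principal
irreducible characters: the characters of degree three. -/

set_option autoImplicit false

namespace Cfsg.Agent.H4K

open Cfsg Cfsg.Agent.H4 Cfsg.Agent.H6 Cfsg.Agent.H8 Subgroup
open scoped ComplexConjugate MatrixGroups

variable {G : Type*} [Group G] {χ ψ φ : G → ℂ} {u : G}

theorem deg3 [Finite G] (h : IsCharacter G χ) (h3 : χ 1 = 3) (hd : H5.detHom χ = 1) (g : G) :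
    χ (g * g) = χ g ^ 2 - 2 * conj (χ g) := by
  rw [← h.apply_inv]
  obtain ⟨n, ρ, rfl⟩ := h
  obtain rfl : n = 3 := by
    rw [Representation.char_one, Module.finrank_fin_fun] at h3; exact_mod_cast h3
  have h1 := H5.detHom_character ρ g
  rw [hd, ← LinearMap.det_toMatrix'] at h1
  have h2 : LinearMap.toMatrix' (ρ g) * LinearMap.toMatrix' (ρ g⁻¹) = 1 := by
    rw [← LinearMap.toMatrix'_mul, ← map_mul, mul_inv_cancel, map_one, LinearMap.toMatrix'_one]
  have h4 : LinearMap.toMatrix' (ρ g⁻¹) = (LinearMap.toMatrix' (ρ g)).adjugate := by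
    rw [← Matrix.inv_eq_right_inv h2, Matrix.inv_def, ← h1]; simp
  have h5 : ∀ x, ρ.character x = (LinearMap.toMatrix' (ρ x)).trace := fun x => by
    rw [Representation.character, LinearMap.trace_eq_matrix_trace ℂ (Pi.basisFun ℂ _),
      LinearMap.toMatrix_eq_toMatrix']
  rw [h5, h5, h5, h4, map_mul, LinearMap.toMatrix'_mul, Matrix.adjugate_fin_three]
  simp [Matrix.trace_fin_three, Matrix.mul_apply, Fin.sum_univ_three]
  ring

theorem half (h : IsCharacter G χ) {z : G} (hz : z * z = 1) (hc : ∀ g, g * z = z * g) :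
    IsCharacter G fun g => 2⁻¹ * (χ g + χ (g * z)) := by
  obtain ⟨n, ρ, rfl⟩ := h
  have := isCharacter_trace_mul_idem ρ ((2⁻¹ : ℂ) • (1 + ρ z)) (fun g => by
    simp only [smul_mul_assoc, mul_smul_comm, add_mul, mul_add, one_mul, mul_one, ← map_mul, hc]) (by
    simp only [smul_mul_assoc, mul_smul_comm, add_mul, mul_add, one_mul, mul_one, ← map_mul, hz, map_one]
    module)
  simpa [Representation.character, mul_add] using this

theorem inner_ne [Fintype G] {φ' : G → ℂ} (h : IsCharacter G φ) (h' : IsCharacter G φ')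
    (hψ : IsIrrCharacter G ψ) (h1 : classInner φ ψ ≠ 0) (h2 : classInner φ' ψ ≠ 0) :
    classInner φ φ' ≠ 0 := by
  obtain ⟨a, ha⟩ := (h.sub_irr hψ h1).classInner_nat h'
  obtain ⟨b, hb⟩ := h'.classInner_nat hψ.isCharacter
  rw [classInner_sub_left, hψ.isCharacter.classInner_comm h', hb, sub_eq_iff_eq_add] at ha
  rw [hb] at h2
  rw [ha]
  exact_mod_cast fun e => h2 (by exact_mod_cast (show b = 0 by omega))

theorem inner_deg [Fintype G] (h : IsIrrCharacter G χ) (h' : IsIrrCharacter G ψ) (e : χ 1 ≠ ψ 1) :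
    classInner χ ψ = 0 := h.classInner_of_ne h' fun e' => e (e' ▸ rfl)

/-- The hypothesis. -/
structure HZ (u : G) : Prop where
  ne : u ≠ 1
  eq : ∀ χ, IsIrrCharacter G χ → (χ ≠ fun _ => 1) → χ 1 - χ u = 4 ∨ χ u = 0

/-- The characters of degree three not vanishing at `u`. -/
structure J3 (u : G) (χ : G → ℂ) : Prop where
  irr : IsIrrCharacter G χ
  one : χ 1 = 3
  val : χ u = -1

theorem J3.comp {Q : Type*} [Group Q] {f : G →* Q} (hf : Function.Surjective f) {ψ : Q → ℂ}
    (h : J3 (f u) ψ) : J3 u fun g => ψ (f g) :=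
  ⟨h.irr.comp_of_surjective f hf, by simpa using h.one, h.val⟩

theorem J3.conj [Finite G] (h : J3 u χ) : J3 u fun g => conj (χ g) :=
  ⟨h.irr.conj, by simp [h.one, map_ofNat], by simp [h.val]⟩

namespace HZ
variable (h : HZ u)
include h

theorem map {Q : Type*} [Group Q] {f : G →* Q} (hf : Function.Surjective f) (h1 : f u ≠ 1) :
    HZ (f u) := ⟨h1, fun ψ k1 k2 => by
  simpa using h.eq _ (k1.comp_of_surjective f hf) (comp_ne_one hf k2)⟩

variable [Fintype G]

theorem top {N : Subgroup G} [N.Normal] (hu : u ∈ N) : N = ⊤ := eq_top_iff.2 fun g _ => by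
  by_contra hg
  obtain ⟨χ, h1, h2, h3⟩ := exists_irr_ker_apply_ne N hg
  have h4 := apply_of_mem_charKer (h2 hu)
  rcases h.eq χ h1 fun e => h3 (by simp [e]) with e | e
  · simp [h4] at e
  · exact h1.apply_one_ne_zero (h4 ▸ e)

theorem lin (hχ : IsCharacter G χ) (h1 : χ 1 = 1) : χ = fun _ => 1 := by
  by_contra e
  obtain ⟨lam, rfl⟩ := hχ.exists_linear h1
  have h2 := linear_norm lam u
  rcases h.eq _ (isIrrCharacter_linear lam) e with e | e
  · rw [show (lam u : ℂ) = -3 by linear_combination h1 - e] at h2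
    norm_num at h2
  · simp at e

theorem det (χ : G → ℂ) : H5.detHom χ = 1 :=
  H5.linear_ext (h.lin (isCharacter_linear _) (by simp))

theorem no2 (H : Subgroup G) : H.index ≠ 2 := fun e => by
  have := H.normal_of_index_eq_two e
  have : Nontrivial (G ⧸ H) := Finite.one_lt_card_iff_nontrivial.1 (one_lt_two.trans_eq e.symm)
  have : Fact (Nat.Prime 2) := ⟨Nat.prime_two⟩
  obtain ⟨x, hx⟩ := exists_ne (1 : G ⧸ H)
  obtain ⟨ψ, h1, h2⟩ := exists_irr_apply_ne hx
  have h3 := h1.apply_one_eq_one_of_comm (isCyclic_of_prime_card e).isMulCommutative.is_comm.comm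
  obtain ⟨x, rfl⟩ := QuotientGroup.mk_surjective x
  exact h2 ((congrFun (h.lin h1.inflate.isCharacter h3) x).trans h3.symm)

theorem val (hχ : IsIrrCharacter G χ) : (χ = fun _ => 1) ∨ χ u = 0 ∨ J3 u χ ∨
    ∃ d : ℕ, χ 1 = (d + 5 : ℕ) ∧ χ u = (d + 1 : ℕ) := by
  refine or_iff_not_imp_left.2 fun h1 => or_iff_not_imp_left.2 fun h2 => ?_
  have h3 := (h.eq χ hχ h1).resolve_right h2
  obtain ⟨d, h4, h5⟩ := hχ.exists_degree
  rcases d with _ | _ | _ | _ | _ | d
  · omega
  · exact absurd (h.lin hχ.isCharacter (by simpa using h5)) h1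
  · have := hχ.isClassFunction.charCenter_normal
    have h6 := hχ.degree_sq_le_index_charCenter h5
    rw [h.top (hχ.isCharacter.mem_charCenter.2 (by
      rw [show χ u = -χ 1 by push_cast at h5; linear_combination 2 * h5 - h3, norm_neg])), index_top] at h6
    omega
  · exact .inl ⟨hχ, by simpa using h5, by push_cast at h5; linear_combination h5 - h3⟩
  · exact absurd (by push_cast at h5; linear_combination h5 - h3) h2
  · exact .inr ⟨d, h5, by push_cast at h5 ⊢; linear_combination h5 - h3⟩

theorem neg (hφ : IsCharacter G φ) (h0 : (φ u).re < 0) : ∃ ψ, J3 u ψ ∧ classInner φ ψ ≠ 0 := by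
  by_contra! e
  refine h0.not_ge ?_
  rw [hφ.isClassFunction.apply_eq_sum, Complex.re_sum]
  refine Finset.sum_nonneg fun ψ _ => ?_
  obtain ⟨n, hn⟩ := hφ.classInner_nat ψ.2.isCharacter
  rcases h.val ψ.2 with k | k | k | ⟨d, -, k⟩
  · rw [hn, k]; simp
  · simp [k]
  · simp [e _ k]
  · rw [hn, k, ← Nat.cast_mul, Complex.natCast_re]; positivity

theorem pos (hφ : IsCharacter G φ) (h0 : 0 < (φ u).re) (h1 : classInner φ (fun _ => 1) = 0)
    {d : ℕ} (hd : φ 1 = d) (h6 : d ≤ 6) : IsIrrCharacter G φ := by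
  obtain ⟨ψ, k1, k2, e, k3⟩ : ∃ ψ, IsIrrCharacter G ψ ∧ classInner φ ψ ≠ 0 ∧ ∃ e : ℕ, ψ 1 = (e + 5 : ℕ) := by
    by_contra! e
    refine h0.not_ge ?_
    rw [hφ.isClassFunction.apply_eq_sum, Complex.re_sum]
    refine Finset.sum_nonpos fun ψ _ => ?_
    obtain ⟨n, hn⟩ := hφ.classInner_nat ψ.2.isCharacter
    rcases h.val ψ.2 with k | k | k | ⟨d, k, -⟩
    · simp [k, h1]
    · simp [k]
    · simp [hn, k.val]
    · simp [not_imp_comm.1 (fun c => e _ ψ.2 c d) (not_not.2 k)]
  have k4 := hφ.sub_irr k1 k2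
  obtain ⟨m, hm⟩ := k4.exists_degree
  have k5 : d = m + (e + 5) := by
    rw [Pi.sub_apply, hd, k3, sub_eq_iff_eq_add] at hm; exact_mod_cast hm
  rcases m with _ | _ | m
  · rwa [sub_eq_zero.1 (k4.eq_zero_of_apply_one (by simpa using hm))]
  · have k6 := congrArg (classInner · fun _ => 1) (h.lin k4 (by simpa using hm))
    simp only [classInner_sub_left, h1, classInner_one_one, inner_deg k1 isIrrCharacter_one (by
      rw [k3]; exact_mod_cast by omega)] at k6
    simp at k6
  · omega

theorem ex : ∃ χ, J3 u χ := by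
  by_contra! e
  have h1 := congrArg Complex.re (sum_irr_degree_mul h.ne)
  rw [Complex.re_sum] at h1
  refine (Finset.sum_pos' (fun ψ _ => ?_) ⟨irrOne G, Finset.mem_univ _, by simp⟩).ne' h1
  rcases h.val ψ.2 with k | k | k | ⟨d, k, k'⟩
  · simp [k]
  · simp [k]
  · exact absurd k (e _)
  · rw [k, k', ← Nat.cast_mul, Complex.natCast_re]; positivity

variable (j : J3 u χ)
include j

theorem sq (g : G) : χ (g * g) = χ g ^ 2 - 2 * conj (χ g) := deg3 j.irr.isCharacter j.one (h.det χ) g

theorem sym : IsCharacter G (χ * χ - fun g => conj (χ g)) := by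
  convert j.irr.isCharacter.sym_sq (s := 1) (one_mul 1) using 2 with g
  rw [h.sq j, Pi.sub_apply, Pi.mul_apply]; ring

omit h in
theorem _root_.Cfsg.Agent.H4K.J3.one0 : classInner χ (fun _ => 1) = 0 :=
  inner_deg j.irr isIrrCharacter_one (by rw [j.one]; norm_num)

theorem real : (fun g => conj (χ g)) = χ := by
  by_contra hn
  set χ' : G → ℂ := fun g => conj (χ g) with hχ'
  have j' : J3 u χ' := j.conj
  have c := j.irr.isCharacter
  have c' := j'.irr.isCharacter
  have m1 : ∀ φ ψ, classInner (φ * χ) ψ = classInner φ (χ' * ψ) := fun φ ψ => classInner_mul_left _ _ _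
  have m2 : ∀ φ ψ, classInner (φ * χ') ψ = classInner φ (χ * ψ) := fun φ ψ => by
    rw [classInner_mul_left]; simp only [hχ', Complex.conj_conj]; rfl
  have o1 : ∀ φ : G → ℂ, (φ * fun _ => 1) = φ := fun φ => mul_one φ
  set S := χ * χ - χ' with hS
  have S1 : S 1 = (6 : ℕ) := by simp [hS, j.one, j'.one]; norm_num
  have Su : S u = 2 := by simp [hS, j.val, j'.val]; norm_num
  have iS : IsIrrCharacter G S := h.pos (h.sym j) (by simp [Su]) (by
    rw [classInner_sub_left, m1, o1, j'.one0, j.irr.classInner_of_ne j'.irr (Ne.symm hn), sub_zero]) S1 le_rfl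
  have n1 : classInner (χ * χ') (fun _ => 1) = 1 := by rw [m2, o1, j.irr.classInner_self]
  have cθ := (c.mul c').sub_irr isIrrCharacter_one (by simp [n1])
  set θ := χ * χ' - fun _ => 1 with hθ
  have θ0 : classInner θ (fun _ => 1) = 0 := by rw [classInner_sub_left, n1, classInner_one_one, sub_self]
  have iθ : IsIrrCharacter G θ := cθ.isIrr_of_classInner_self (by
    have d := inner_deg iS j'.irr (by rw [S1, j'.one]; norm_num)
    have e : classInner (χ * χ') (χ * χ') = 2 := by
      rw [m2, ← mul_assoc, mul_comm (χ * χ), ← m1, show χ * χ = S + χ' by simp [hS],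
        classInner_add_left, classInner_add_right, classInner_add_right, iS.classInner_self,
        j'.irr.classInner_self, d, (classInner_eq_zero_symm _ _).1 d]
      norm_num
    rw [hθ, classInner_sub_right, θ0, classInner_sub_left, e, isCharacter_one.classInner_comm (c.mul c'), n1]
    norm_num)
  have cφ := iS.isCharacter.mul c
  obtain ⟨ψ, k1, k2⟩ := h.neg cφ (by simp [Su, j.val])
  obtain ⟨ψ', k3, k4⟩ := h.neg (cφ.sub_irr k1.irr k2) (by simp [Su, j.val, k1.val])
  have sw : ∀ {ψ}, J3 u ψ → classInner (S * χ) ψ = classInner (χ' * ψ) S := fun k => by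
    rw [m1, iS.isCharacter.classInner_comm (c'.mul k.irr.isCharacter)]
  by_cases e : ψ' = ψ
  · subst e
    obtain ⟨n, hn⟩ := cφ.classInner_nat k1.irr.isCharacter
    rw [classInner_sub_left, k1.irr.classInner_self, hn] at k4
    obtain ⟨m, hm⟩ := ((c'.mul k1.irr.isCharacter).sub_smul_irr iS).exists_degree
    rw [hn] at k2
    simp only [← sw k1, hn, Pi.sub_apply, Pi.mul_apply, Pi.smul_apply, S1, j'.one, k1.one,
      smul_eq_mul, sub_eq_iff_eq_add] at hm
    have : 3 * 3 = m + n * 6 := by exact_mod_cast hm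
    rcases n with _ | _ | n
    · simp at k2
    · simp at k4
    · omega
  rw [classInner_sub_left, k1.irr.classInner_of_ne k3.irr (Ne.symm e), sub_zero] at k4
  have k5 := inner_ne (c'.mul k1.irr.isCharacter) (c'.mul k3.irr.isCharacter) iS (sw k1 ▸ k2) (sw k3 ▸ k4)
  set η := ψ * fun g => conj (ψ' g) with hη
  have cη : IsCharacter G η := k1.irr.isCharacter.mul k3.irr.isCharacter.conj
  have η0 : classInner η (fun _ => 1) = 0 :=
    (classInner_eq_mul_conj_one _ _).symm.trans (k1.irr.classInner_of_ne k3.irr (Ne.symm e))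
  have k6 : classInner η θ = classInner (χ' * ψ) (χ' * ψ') := by
    rw [hθ, classInner_sub_right, η0, sub_zero, classInner_def, classInner_def]
    refine congrArg _ (Finset.sum_congr rfl fun g _ => ?_)
    simp only [hη, hχ', Pi.mul_apply, map_mul, Complex.conj_conj]; ring
  have k7 := congrArg (classInner · fun _ => 1) (h.lin (cη.sub_irr iθ (k6 ▸ k5)) (by
    simp [hη, hθ, j.one, j'.one, k1.one, k3.one, map_ofNat]))
  simp [classInner_sub_left, η0, θ0, classInner_one_one] at k7

theorem real' (g : G) : conj (χ g) = χ g := congrFun (h.real j) g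

theorem five : IsIrrCharacter G (χ * χ - χ - fun _ => 1) := by
  have c := h.sym j
  rw [h.real j] at c
  have n1 : classInner (χ * χ - χ) (fun _ => 1) = 1 := by
    rw [classInner_sub_left, j.one0, classInner_mul_left]
    simp [h.real' j, j.irr.classInner_self]
  exact h.pos (d := 5) (c.sub_irr isIrrCharacter_one (by simp [n1])) (by simp [j.val]) (by
    rw [classInner_sub_left, n1, classInner_one_one, sub_self]) (by simp [j.one]; norm_num) (by omega)

theorem ker_le (k : J3 u ψ) : charKer ψ ≤ charKer χ := by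
  have e : χ * χ - χ - (fun _ => 1) = ψ * ψ - ψ - fun _ => 1 := by
    by_contra e
    have ne : χ ≠ ψ := fun e' => e (e' ▸ rfl)
    have a := h.five j
    have b := h.five k
    have d1 : ∀ {χ}, J3 u χ → (χ * χ - χ - fun _ => 1 : G → ℂ) 1 = 5 := fun j => by simp [j.one]; norm_num
    have i : IsIrrCharacter G (χ * ψ) := (j.irr.isCharacter.mul k.irr.isCharacter).isIrr_of_classInner_self (by
      have : classInner (χ * ψ) (χ * ψ) = classInner ((χ * χ - χ - fun _ => 1) + χ + fun _ => 1)
          ((ψ * ψ - ψ - fun _ => 1) + ψ + fun _ => 1) := by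
        rw [classInner_def, classInner_def]
        refine congrArg _ (Finset.sum_congr rfl fun g _ => ?_)
        simp only [Pi.mul_apply, Pi.add_apply, Pi.sub_apply, map_mul, map_add, map_sub, map_one,
          h.real' j, h.real' k]; ring
      rw [this]
      simp only [classInner_add_left, classInner_add_right, classInner_one_one, a.classInner_of_ne b e,
        j.irr.classInner_of_ne k.irr ne, j.one0, (classInner_eq_zero_symm _ _).1 k.one0,
        inner_deg a k.irr (by rw [d1 j, k.one]; norm_num), inner_deg j.irr b (by rw [d1 k, j.one]; norm_num),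
        inner_deg a isIrrCharacter_one (by rw [d1 j]; norm_num),
        inner_deg isIrrCharacter_one b (by rw [d1 k]; norm_num)]
      simp)
    have := h.eq _ i fun e => by
      have := congrFun e 1
      rw [Pi.mul_apply, j.one, k.one] at this; norm_num at this
    simp only [Pi.mul_apply, j.one, k.one, j.val, k.val] at this
    norm_num at this
  intro g hg
  have h1 := congrFun e g
  simp only [Pi.sub_apply, Pi.mul_apply, apply_of_mem_charKer hg, k.one] at h1
  rw [j.irr.isCharacter.mem_charKer, j.one]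
  refine (mul_eq_zero.1 (show (χ g - 3) * (χ g + 2) = 0 by linear_combination h1)).elim sub_eq_zero.1 fun h2 => ?_
  have h3 := j.irr.isCharacter.norm_le (g * g)
  rw [h.sq j, h.real' j, eq_neg_of_add_eq_zero_left h2, j.one] at h3
  norm_num at h3

end HZ

end Cfsg.Agent.H4K
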