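import Cfsg.Agent.H4.KW4
import Cfsg.Agent.H1.FrobCompl
import Cfsg.Agent.H11.AbS

/-! Groups with an element `u` such that `χ 1 - χ u = 4` or `χ u = 0` for all non-principal
irreducible characters: the structure. -/

set_option autoImplicit false

namespace Cfsg.Agent.H4K

open Cfsg Cfsg.Agent.H4 Cfsg.Agent.H6 Cfsg.Agent.H8 Subgroup
open scoped ComplexConjugate MatrixGroups

variable {G : Type*} [Group G] {χ : G → ℂ} {u : G}

section
variable [Finite G] {F : Type} [Field F] [Fintype F] {n : ℕ} (hn : 1 ≤ n) (hF : Fintype.card F = 2 ^ n)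
  (e : G ≃* PSL(2, F))
include hF e

theorem psl_cj {s t : G} (hs : orderOf s = 2) (ht : orderOf t = 2) : IsConj s t := by
  have := H11.charP_two_of_card hF
  simpa using e.symm.toMonoidHom.map_isConj (H15.isConj_two (CharP.cast_eq_zero F 2) (e s) (e t)
    (by simpa using hs) (by simpa using ht))

include hn

theorem psl_sq {P : Subgroup G} (hP : IsPGroup 2 P) {x : G} (hx : x ∈ P) : x * x = 1 := by
  by_cases h : x = 1
  · simp [h]
  have : Fact (Nat.Prime 2) := ⟨Nat.prime_two⟩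
  rw [← pow_two, sq_of_even hn hF e (dvd_orderOf_of_isPGroup hP hx h)]

theorem psl_cent {t : G} (ot : orderOf t = 2) : Nat.card (centralizer ({t} : Set G)) = 2 ^ n := by
  have : Fact (Nat.Prime 2) := ⟨Nat.prime_two⟩
  obtain ⟨P, hP⟩ := (H6.isPGroup_zpowers Nat.prime_two ⟨1, ot⟩).exists_le_sylow
  rw [P.is_maximal' (Q := centralizer {t}) (fun c => ⟨1, Subtype.ext ?_⟩) fun x hx =>
    mem_centralizer_singleton_iff.2 (comm_of_sq (fun _ => psl_sq hn hF e P.isPGroup') hx
      (hP (mem_zpowers t))), card_syl hn hF e]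
  have cm : Commute t c := H6.mem_centralizer_singleton.1 c.2
  by_cases h : 2 ∣ orderOf (c : G)
  · exact sq_of_even hn hF e h
  have := sq_of_even hn hF e (u := t * c) (by
    by_contra h'
    simpa [(IsPPart.eq_one_iff Nat.prime_two (isPPart_mul cm ⟨1, ot⟩ h)).2 h'] using ot)
  rwa [cm.mul_pow, ← ot, pow_orderOf_eq_one, one_mul, ot] at this

end

namespace HZ
variable [Fintype G] (h : HZ u)
include h

section
variable (j : J3 u χ) (hk : charKer χ = ⊥)
include j hk

theorem uu : u * u = 1 := mem_bot.1 (hk ▸ j.irr.isCharacter.mem_charKer.2 (by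
  rw [h.sq j, j.val, j.one]; simp; norm_num))

theorem inv {x : G} (hx : x * x = 1) (h1 : x ≠ 1) : χ x = -1 := by
  have h2 := h.sq j x
  rw [hx, j.one, h.real' j] at h2
  refine eq_neg_of_add_eq_zero_left ((mul_eq_zero.1 (show (χ x - 3) * (χ x + 1) = 0 by
    linear_combination -h2)).resolve_left fun e => h1 ?_)
  exact mem_bot.1 (hk ▸ j.irr.isCharacter.mem_charKer.2 ((sub_eq_zero.1 e).trans j.one.symm))

theorem central : ¬ 2 ∣ (centralizer ({u} : Set G)).index := by
  have : Fact (Nat.Prime 2) := ⟨Nat.prime_two⟩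
  have uu := h.uu j hk
  have ou : orderOf u = 2 := orderOf_eq_prime (by rwa [pow_two]) h.ne
  obtain ⟨T, hT⟩ := (H6.isPGroup_zpowers Nat.prime_two ⟨1, ou⟩).exists_le_sylow
  have uT := hT (mem_zpowers u)
  obtain ⟨z, zT, oz, hz⟩ := H11.exists_orderOf_eq_centralizer_of_normalized T.isPGroup' T.isPGroup'
    (fun e => h.ne (mem_bot.1 (e ▸ uT))) le_normalizer
  have zz : z * z = 1 := by rw [← pow_two, ← oz, pow_orderOf_eq_one]
  have z1 : z ≠ 1 := by rintro rfl; simp at oz
  suffices IsConj u z by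
    rw [index_centralizer_of_isConj this]
    exact fun e => T.not_dvd_index (e.trans (index_dvd_of_le fun x hx =>
      mem_centralizer_singleton_iff.2 (hz x hx)))
  obtain ⟨lam, hl⟩ := (half (j.irr.isCharacter.restrict T) (z := ⟨z, zT⟩) (Subtype.ext zz)
    fun g => Subtype.ext (hz g g.2)).exists_linear (by simp [j.one, h.inv j hk zz z1]; norm_num)
  replace hl : ∀ g : T, (lam g : ℂ) = 2⁻¹ * (χ g + χ (g * z)) := fun g => (congrFun hl g).symm
  have k1 : ∀ g : T, g.1 * g.1 = 1 → g.1 ≠ 1 → g.1 ≠ z → (lam g : ℂ) = -1 := fun g a b c => by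
    rw [hl, h.inv j hk a b, h.inv j hk (x := g * z) (by
      rw [mul_assoc, ← mul_assoc z, ← hz g g.2, mul_assoc, zz, mul_one, a]) fun e => c (by
        rw [eq_inv_of_mul_eq_one_left e, inv_eq_of_mul_eq_one_right zz])]
    norm_num
  have k2 : ∀ g : T, (lam g : ℂ) = 1 ∨ (lam g : ℂ) = -1 := fun g => mul_self_eq_one_iff.1 (by
    have : conj (lam g : ℂ) = lam g := by simp [hl, h.real' j, map_ofNat]
    rw [← this, mul_comm]
    nth_rw 1 [this]
    rw [conj_linear, ← Units.val_mul, ← map_mul, mul_inv_cancel, map_one, Units.val_one])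
  by_contra hn
  have k3 := k1 ⟨u, uT⟩ uu h.ne fun e => hn (e ▸ IsConj.refl _)
  obtain ⟨g, x, k4, k5⟩ := H11.thompson_transfer_sylow h.no2 T (map_subtype_le lam.ker) (by
    rw [relIndex, subgroupOf, comap_map_eq_self_of_injective (subtype_injective _)]
    refine index_eq_two_iff.2 ⟨⟨u, uT⟩, fun b => ?_⟩
    simp only [MonoidHom.mem_ker, Units.ext_iff, map_mul, Units.val_mul, k3, Units.val_one]
    rcases k2 b with e | e <;> simp [e, Xor'] <;> norm_num) uu
  have k6 : (x : G) = g * u * g⁻¹ := k5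
  have k7 := mt (k1 x (by rw [k6]; simp [mul_assoc, ← mul_assoc u u, uu]) (by
    rw [k6]; simpa using h.ne)) (by rw [MonoidHom.mem_ker.1 k4]; norm_num)
  exact hn (isConj_iff.2 ⟨g, k6.symm.trans (not_not.1 k7)⟩)

theorem faithful : ∃ (F : Type) (_ : Field F) (_ : Fintype F), Fintype.card F = 2 ^ 2 ∧
    Nonempty (G ≃* PSL(2, F)) := by
  have : Fact (Nat.Prime 2) := ⟨Nat.prime_two⟩
  obtain ⟨M, hM⟩ := exists_isPModular Nat.prime_two
  have := hM.2.1
  have hb : HB M u 4 := ⟨hM, by norm_num, fun ψ h1 h2 => (h.eq _ ψ.2 h2).resolve_right fun e => by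
    have := redC_centralChar_principal h1 u
    rw [centralChar, e, mul_zero, zero_div, redC_zero] at this
    exact h.central j hk ((natCast_res_eq_zero_iff hM _).1 this.symm)⟩
  obtain ⟨h1, ⟨-, h2⟩ | ⟨F, _, _, n, -, h2, ⟨e⟩, -, h3⟩⟩ := hb.core (even_iff_two_dvd.2
    ((orderOf_eq_prime (by rw [pow_two, h.uu j hk]) h.ne).symm.dvd.trans (orderOf_dvd_natCard u)))
  · norm_num at h2
  have := Fintype.ofFinite (G ⧸ oddCore G)
  obtain ⟨ψ, k⟩ := (h.map (QuotientGroup.mk'_surjective (oddCore G))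
    (mt (QuotientGroup.eq_one_iff u).1 h1)).ex
  have h4 := (le_charKer_inflate ψ).trans (h.ker_le j (k.comp (QuotientGroup.mk'_surjective _)))
  rw [hk, le_bot_iff] at h4
  exact ⟨F, _, _, h2.trans (by exact_mod_cast h3.symm),
    ⟨((QuotientGroup.quotientMulEquivOfEq h4).trans QuotientGroup.quotientBot).symm.trans e⟩⟩

end

theorem struct : ∃ (N : Subgroup G) (_ : N.Normal) (F : Type) (_ : Field F) (_ : Fintype F),
    Fintype.card F = 2 ^ 2 ∧ Nonempty (G ⧸ N ≃* PSL(2, F)) ∧ orderOf (u : G ⧸ N) = 2 ∧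
    Nat.card (centralizer ({u} : Set G)) = 4 ∧ ∀ g : G, orderOf (g : G ⧸ N) = 2 → IsConj g u := by
  classical
  have : Fact (Nat.Prime 2) := ⟨Nat.prime_two⟩
  obtain ⟨χ, j⟩ := h.ex
  have := j.irr.isCharacter.charKer_normal
  set N := charKer χ
  have := Fintype.ofFinite (G ⧸ N)
  have h' : HZ (u : G ⧸ N) := h.map (QuotientGroup.mk'_surjective N) fun e => by
    have := apply_of_mem_charKer ((QuotientGroup.eq_one_iff u).1 e)
    rw [j.val, j.one] at this; norm_num at this
  have j' : J3 (u : G ⧸ N) (deflate N χ) :=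
    ⟨j.irr.deflate le_rfl, (deflate_mk le_rfl 1).trans j.one, (deflate_mk le_rfl u).trans j.val⟩
  have hk := charKer_deflate_charKer j.irr.isClassFunction
  obtain ⟨F, _, _, hF, ⟨e⟩⟩ := h'.faithful j' hk
  have ou : orderOf (u : G ⧸ N) = 2 := orderOf_eq_prime (by rw [pow_two, h'.uu j' hk]) h'.ne
  have van : ∀ ψ : IrrCharacter G, ¬ N ≤ charKer (ψ : G → ℂ) → (ψ : G → ℂ) u = 0 := fun ψ hψ => by
    have h1 := sum_irr_degree_mul h.ne
    rw [← Finset.sum_filter_add_sum_filter_not _ fun χ : IrrCharacter G => N ≤ charKer (χ : G → ℂ),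
      sum_irr_filter_le_charKer N fun χ => χ 1 * χ u] at h1
    simp only [QuotientGroup.mk_one, sum_irr_degree_mul h'.ne, zero_add] at h1
    replace h1 := congrArg Complex.re h1
    rw [Complex.re_sum, Complex.zero_re, Finset.sum_eq_zero_iff_of_nonneg fun φ hφ => ?_] at h1
    · have h2 := h1 ψ (by simpa using hψ)
      rcases h.val ψ.2 with k | k | k | ⟨d, k, k'⟩
      · simp [k] at h2
      · exact k
      · exact absurd (h.ker_le k j) hψ
      · rw [k, k', ← Nat.cast_mul, Complex.natCast_re] at h2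
        exact absurd h2 (by positivity)
    rcases h.val φ.2 with k | k | k | ⟨d, k, k'⟩
    · simp [k]
    · simp [k]
    · exact absurd (h.ker_le k j) (by simpa using hφ)
    · rw [k, k', ← Nat.cast_mul, Complex.natCast_re]; positivity
  have key : ∀ g : G, ∑ ψ : IrrCharacter G, (ψ : G → ℂ) g * conj ((ψ : G → ℂ) u) =
      ∑ ψ : IrrCharacter (G ⧸ N), (ψ : G ⧸ N → ℂ) g * conj ((ψ : G ⧸ N → ℂ) u) := fun g => by
    rw [← sum_irr_filter_le_charKer N fun χ => χ g * conj (χ u), Finset.sum_filter_of_ne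
      fun ψ _ => not_imp_comm.1 fun e => by simp [van ψ e]]
  refine ⟨N, inferInstance, F, _, _, hF, ⟨e⟩, ou, ?_, fun g hg => by_contra fun hn => ?_⟩
  · have := key u
    rw [column_orthogonality_of_isConj (IsConj.refl _), column_orthogonality_of_isConj (IsConj.refl _),
      psl_cent one_le_two hF e ou] at this
    exact_mod_cast this
  · have := key g
    rw [column_orthogonality_of_not_isConj hn, column_orthogonality_of_isConj (psl_cj hF e hg ou)] at this
    exact natCard_ne_zero' this.symm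

end HZ

theorem sl25_of [Finite G] (h : Nat.card G = 120) {f : G →* alternatingGroup (Fin 5)}
    (hf : Function.Surjective f) (hk : ∀ g, f g = 1 → g ∈ center G ∧ g ^ 2 = 1)
    (h4 : ∀ g, orderOf (f g) = 2 → g ^ 2 ≠ 1) : Nonempty (G ≃* SL(2, ZMod 5)) := by
  have : Fact (Nat.Prime 2) := ⟨Nat.prime_two⟩
  obtain ⟨a, ha⟩ := hf H12.alt5a
  obtain ⟨c, hc⟩ := hf H12.alt5b
  obtain ⟨r1, r2, r3, r4⟩ := H12.alt5_rels
  have c3 := hk (c ^ 3) (by rw [map_pow, hc, r2])
  have a2 := hk (a ^ 2) (by rw [map_pow, ha, r1])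
  have hw := hk ((a * c ^ 4) ^ 5) (by
    rw [map_pow, map_mul, map_pow, ha, hc, pow_succ _ 3, r2, one_mul, r3])
  have hwc := fun g => mem_center_iff.1 hw.1 g
  have e2 : (a * (a * c ^ 4) ^ 5) ^ 2 = a ^ 2 := by
    rw [Commute.mul_pow (hwc a), hw.2, mul_one]
  have rel : H1.Rel25 (a * (a * c ^ 4) ^ 5) (c ^ 4) := by
    refine ⟨?_, ?_, ?_, ?_⟩
    · rw [show 4 = 2 * 2 from rfl, pow_mul, e2, a2.2]
    · rw [e2, mem_center_iff.1 a2.1]
    · rw [← pow_mul, show 4 * 3 = 3 * 2 * 2 from rfl, pow_mul, pow_mul, c3.2, one_pow]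
    · rw [mul_assoc, ← hwc, ← mul_assoc, Commute.mul_pow (hwc _), ← pow_succ',
        show 5 + 1 = 2 * 3 from rfl, pow_mul, hw.2, one_pow]
  obtain ⟨φ, h1, -⟩ := rel.exists_inj (e2 ▸ h4 a (ha ▸ orderOf_eq_prime r1 r4))
  exact ⟨(MulEquiv.ofBijective φ ((Nat.bijective_iff_injective_and_card φ).2
    ⟨h1, by rw [H1.card_sl25, h]⟩)).symm⟩

theorem four_inv [Finite G] {x z : G} (hx : orderOf x = 4) (hz : z ∈ zpowers x) (h2 : z * z = 1)
    (h1 : z ≠ 1) : z = x * x := by
  classical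
  obtain ⟨k, hk, rfl⟩ := Finset.mem_image.1 (mem_zpowers_iff_mem_range_orderOf.1 hz)
  rw [← pow_add, ← orderOf_dvd_iff_pow_eq_one, hx] at h2
  rw [hx, Finset.mem_range] at hk
  obtain rfl | rfl : k = 0 ∨ k = 2 := by omega
  · simp at h1
  · exact pow_two x

theorem HZ.main [Finite G] (h : HZ u) : IsMulCommutative (oddCore G) ∧
    ((Nonempty (G ⧸ oddCore G ≃* PSL(2, ZMod 5)) ∧ orderOf u = 2) ∨
      (Nonempty (G ⧸ oddCore G ≃* SL(2, ZMod 5)) ∧ orderOf u = 4)) := by
  have : Fact (Nat.Prime 2) := ⟨Nat.prime_two⟩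
  have := Fintype.ofFinite G
  obtain ⟨N, _, F, _, _, hF, ⟨e⟩, ou, c4, cj⟩ := h.struct
  have := GW.psl_simple (F := F) (by omega)
  have := e.isSimpleGroup
  have h60 : Nat.card (G ⧸ N) = 60 := by
    simpa [← Nat.card_congr e.toEquiv] using H12.card_PSL2 hF
  have nq : ∀ n ∈ N, ∀ g : G, ((g * n : G) : G ⧸ N) = g := fun n hn g => by
    rw [QuotientGroup.mk_mul, (QuotientGroup.eq_one_iff n).2 hn, mul_one]
  have u4 : orderOf u ∣ 2 ^ 2 :=
    (orderOf_dvd_natCard _ (mem_centralizer_singleton_iff.2 rfl)).trans c4.dvd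
  obtain ⟨k, -, hk⟩ := (Nat.dvd_prime_pow Nat.prime_two).1 u4
  obtain ⟨T, hT⟩ := (H6.isPGroup_zpowers Nat.prime_two ⟨k, hk⟩).exists_le_sylow
  have uT := hT (mem_zpowers u)
  obtain ⟨w, wT, wu, ow, ouw⟩ : ∃ w ∈ (T : Subgroup G), (w : G ⧸ N) ∉ zpowers (u : G ⧸ N) ∧
      orderOf (w : G ⧸ N) = 2 ∧ orderOf ((u * w : G) : G ⧸ N) = 2 := by
    set S := T.mapSurjective (QuotientGroup.mk'_surjective N)
    have h1 : ¬ (S : Subgroup _) ≤ zpowers (u : G ⧸ N) := fun e' => by
      have := card_le_of_le e'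
      rw [card_syl one_le_two hF e, Nat.card_zpowers, ou] at this
      omega
    obtain ⟨_, ⟨w, h2, rfl⟩, h3⟩ := SetLike.not_le_iff_exists.1 h1
    replace h3 : (w : G ⧸ N) ∉ zpowers (u : G ⧸ N) := h3
    have h4 : ∀ x ∈ (T : Subgroup G), (x : G ⧸ N) ^ 2 = 1 := fun x hx =>
      (pow_two _).trans (psl_sq one_le_two hF e S.isPGroup' ⟨x, hx, rfl⟩)
    refine ⟨w, h2, h3, orderOf_eq_prime (h4 _ h2) fun e => h3 (e ▸ one_mem _),
      orderOf_eq_prime (h4 _ (mul_mem uT h2)) fun e => h3 ?_⟩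
    rw [QuotientGroup.mk_mul] at e
    exact eq_inv_of_mul_eq_one_right e ▸ inv_mem (mem_zpowers _)
  have hO : oddCore G ≤ N := by
    have := H1.map_pPrimeCore_le (p := 2) (QuotientGroup.mk'_surjective N)
    rwa [((inferInstance : (pPrimeCore 2 (G ⧸ N)).Normal).eq_bot_or_eq_top).resolve_right
      fun e => H1.not_dvd_card_pPrimeCore 2 (G ⧸ N) (by rw [e, card_top, h60]; norm_num),
      le_bot_iff, Subgroup.map_eq_bot_iff, QuotientGroup.ker_mk'] at this
  have o2 : 2 ∣ orderOf u := ou ▸ orderOf_map_dvd (QuotientGroup.mk' N) u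
  obtain o | o : orderOf u = 2 ∨ orderOf u = 4 := by
    have := Nat.le_of_dvd (by norm_num) u4
    have := orderOf_pos u
    interval_cases orderOf u <;> omega
  · have sq : ∀ g : G, orderOf (g : G ⧸ N) = 2 → g * g = 1 := fun g hg => by
      rw [← pow_two, ← o, ← orderOf_eq_of_isConj (cj g hg), pow_orderOf_eq_one]
    have cm : ∀ n ∈ N, w * n ∈ centralizer ({u} : Set G) := fun n hn => by
      have h1 := sq (u * w * n) (by rwa [nq n hn])
      rw [mem_centralizer_singleton_iff, ← inv_eq_of_mul_eq_one_right (sq (w * n) (by rwa [nq n hn])),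
        ← inv_eq_of_mul_eq_one_right (sq u ou), ← mul_inv_rev, inv_eq_of_mul_eq_one_right (mul_assoc u w n ▸ h1),
        inv_eq_of_mul_eq_one_right (sq (w * n) (by rwa [nq n hn])), inv_eq_of_mul_eq_one_right (sq u ou)]
    have hN : N = ⊥ := by_contra fun h0 => by
      have wC : w ∈ centralizer ({u} : Set G) := mul_one w ▸ cm 1 (one_mem _)
      have h1 : N ≤ centralizer {u} := fun n hn => (mul_mem_cancel_left wC).1 (cm n hn)
      have h2 := (N.subgroupOf (centralizer {u})).card_mul_index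
      have h3 := relIndex_ker (centralizer {u}) (QuotientGroup.mk' N)
      have h4 := H11.card_lt_of_lt (show zpowers (u : G ⧸ N) < (centralizer {u}).map (QuotientGroup.mk' N)
        from lt_of_le_not_ge (zpowers_le.2 ⟨u, mem_centralizer_singleton_iff.2 rfl, rfl⟩)
          fun e => wu (e ⟨w, wC, rfl⟩))
      rw [QuotientGroup.ker_mk', relIndex] at h3
      rw [H11.card_subgroupOf h1, h3, c4] at h2
      rw [Nat.card_zpowers, ou] at h4
      have := N.one_lt_card_iff_ne_bot.2 h0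
      nlinarith
    subst hN
    rw [le_bot_iff] at hO
    have : Fact (Nat.Prime 5) := ⟨Nat.prime_five⟩
    have := GW.psl_simple (F := ZMod 5) (by simp)
    refine ⟨hO ▸ inferInstance, .inl ⟨⟨(QuotientGroup.quotientMulEquivOfEq hO).trans (iso60 h60 ?_).some⟩, o⟩⟩
    exact Nat.eq_of_mul_eq_mul_left two_pos (H12.card_PSL2 (ZMod.card 5))
  have o4 : ∀ g : G, orderOf (g : G ⧸ N) = 2 → orderOf g = 4 := fun g hg =>
    (orderOf_eq_of_isConj (cj g hg)).trans o
  have sqz : ∀ g z : G, orderOf (g : G ⧸ N) = 2 → z * g = g * z → z * z = 1 → z ≠ 1 → z = g * g :=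
    fun g z hg h1 => four_inv (o4 g hg) (by
      rw [eq_of_le_of_card_ge (zpowers_le.2 (mem_centralizer_singleton_iff.2 rfl)) (by
        rw [card_centralizer_of_isConj (cj g hg), c4, Nat.card_zpowers, o4 g hg])]
      exact mem_centralizer_singleton_iff.2 h1)
  obtain ⟨z, -, oz, Tz⟩ := H11.exists_orderOf_eq_centralizer_of_normalized T.isPGroup' T.isPGroup'
    (fun e => h.ne (mem_bot.1 (e ▸ uT))) le_normalizer
  have zz : z * z = 1 := by rw [← pow_two, ← oz, pow_orderOf_eq_one]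
  have z1 : z ≠ 1 := by rintro rfl; simp at oz
  have zu := sqz u z ou (Tz u uT).symm zz z1
  have zN : z ∈ N := (QuotientGroup.eq_one_iff z).1 (by
    rw [zu, QuotientGroup.mk_mul, ← pow_two, ← ou, pow_orderOf_eq_one])
  have nO : ∀ x ∈ oddCore G, orderOf x ≠ 2 := fun x hx e =>
    not_dvd_orderOf_of_mem (H1.not_dvd_card_pPrimeCore 2 G) hx e.symm.dvd
  have cz : ∀ n ∈ N, z * n = n * z → n = 1 ∨ n = z := fun n hn h1 => by
    have iv : ∀ g ∈ (T : Subgroup G), orderOf (g : G ⧸ N) = 2 → n * g * n = g := fun g h2 h3 => by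
      have := (sqz (g * n) z (by rwa [nq n hn]) (by rw [← mul_assoc, ← Tz g h2, mul_assoc, h1, mul_assoc])
        zz z1).symm.trans (sqz g z h3 (Tz g h2).symm zz z1)
      exact mul_left_cancel (a := g) (by rw [← this]; group)
    have h2 := iv u uT ou
    have h3 := iv w wT ow
    have h4 := iv _ (mul_mem uT wT) ouw
    have h5 : n * n = 1 := mul_left_cancel (a := u * w) (by
      calc u * w * (n * n) = u * n⁻¹ * (n * w * n) * n := by group
        _ = n * u * n * n⁻¹ * w * n := by rw [h3, h2]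
        _ = n * (u * w) * n := by group
        _ = _ := by rw [h4, mul_one])
    refine or_iff_not_imp_left.2 fun h6 => (sqz u n ou ?_ h5 h6).trans zu.symm
    calc n * u = n * u * n * n := by rw [mul_assoc, h5, mul_one]
      _ = _ := by rw [h2]
  refine ⟨⟨⟨fun a b => (MonoidHom.FixedPointFree.commute_all_of_involutive
    (φ := (MulAut.conjNormal z : MulAut (oddCore G))) (fun x hx => ?_) (fun x => Subtype.ext ?_) a b).eq⟩⟩,
    .inr ⟨?_, o⟩⟩
  · exact Subtype.ext ((cz x (hO x.2) (mul_inv_eq_iff_eq_mul.1 (congrArg Subtype.val hx))).resolve_right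
      fun e => nO x x.2 (e ▸ oz))
  · simp only [MulAut.conjNormal_apply]
    calc _ = (z * z) * x * (z * z)⁻¹ := by group
      _ = _ := by simp [zz]
  obtain ⟨P, hP⟩ := (H6.isPGroup_zpowers Nat.prime_two (x := (⟨z, zN⟩ : N)) ⟨1, by simpa using oz⟩).exists_le_sylow
  have zP := hP (mem_zpowers _)
  have hP' : ∀ x ∈ (P : Subgroup N), x.1 = 1 ∨ x.1 = z := by
    obtain ⟨a, -, oa, ha⟩ := H11.exists_orderOf_eq_centralizer_of_normalized P.isPGroup' P.isPGroup'
      (fun e => z1 (by rw [e, mem_bot, Subtype.ext_iff] at zP; exact zP)) le_normalizer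
    have := (cz a a.2 (congrArg Subtype.val (ha _ zP))).resolve_left fun e => by
      simp [show a = 1 from Subtype.ext e] at oa
    exact fun x hx => cz x x.2 (this ▸ (congrArg Subtype.val (ha x hx)).symm)
  have eP : (P : Subgroup N) = zpowers ⟨z, zN⟩ := le_antisymm (fun x hx => (hP' x hx).elim
    (fun e => (show x = 1 from Subtype.ext e) ▸ one_mem _)
    fun e => (show x = ⟨z, zN⟩ from Subtype.ext e) ▸ mem_zpowers _) hP
  obtain ⟨K, _, hK⟩ := H11.exists_complement_of_isCyclic P (eP ▸ inferInstance)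
  have KO : K.map N.subtype ≤ oddCore G := (map_mono (H1.le_pPrimeCore
    (Nat.prime_two.coprime_iff_not_dvd.2 (hK.index_eq_card ▸ P.not_dvd_index)).symm)).trans
      (H1.map_subtype_pPrimeCore_le N)
  have c2 : Nat.card (oddCore G) * 2 = Nat.card N := by
    have h1 := hK.card_mul
    rw [eP, Nat.card_zpowers, orderOf_mk, oz] at h1
    have h2 := card_le_of_le KO
    rw [H11.card_map_subtype] at h2
    have h3 := (H1.coprime_card_pPrimeCore 2 G).dvd_of_dvd_mul_right (h1 ▸ card_dvd_of_le hO)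
    rw [← h1, le_antisymm (Nat.le_of_dvd Nat.card_pos h3) h2]
  have dN : ∀ n ∈ N, (n : G ⧸ oddCore G) = 1 ∨ (n : G ⧸ oddCore G) = z := fun n hn => by
    obtain ⟨⟨a, b⟩, h1, -⟩ := hK.existsUnique ⟨n, hn⟩
    have h2 : n = a.1.1 * b.1.1 := (congrArg Subtype.val h1).symm
    rw [h2, QuotientGroup.mk_mul, (QuotientGroup.eq_one_iff a.1.1).2 (KO ⟨a, a.2, rfl⟩), one_mul]
    exact (hP' b b.2).imp (fun e => by rw [e]; rfl) fun e => by rw [e]
  obtain ⟨ι⟩ := S0494.result h60
  let f := QuotientGroup.lift (oddCore G) (ι.toMonoidHom.comp (QuotientGroup.mk' N)) fun x hx =>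
    (congrArg ι ((QuotientGroup.eq_one_iff x).2 (hO hx))).trans (map_one ι)
  refine sl25_of (f := f) ?_ (fun x => ?_) (fun g hg => ?_) fun g hg e => ?_
  · have h1 := card_eq_card_quotient_mul_card_subgroup N
    rw [card_eq_card_quotient_mul_card_subgroup (oddCore G), h60, ← c2] at h1
    exact Nat.eq_of_mul_eq_mul_right Nat.card_pos (h1.trans (by ring))
  · obtain ⟨g, hg⟩ := (ι.surjective.comp (QuotientGroup.mk'_surjective N)) x
    exact ⟨g, hg⟩
  · obtain ⟨g, rfl⟩ := QuotientGroup.mk_surjective g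
    rcases dN g ((QuotientGroup.eq_one_iff g).1 (ι.injective (hg.trans (map_one ι).symm))) with e | e
    · rw [e]; exact ⟨one_mem _, one_pow 2⟩
    rw [e]
    refine ⟨mem_center_iff.2 fun x => ?_, by rw [pow_two, ← QuotientGroup.mk_mul, zz]; rfl⟩
    obtain ⟨x, rfl⟩ := QuotientGroup.mk_surjective x
    refine mul_inv_eq_iff_eq_mul.1 ((dN _ ((inferInstance : N.Normal).conj_mem z zN x)).resolve_left
      fun e => nO _ ((QuotientGroup.eq_one_iff _).1 e) ((H6.orderOf_conj' x z).trans oz))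
  · obtain ⟨g, rfl⟩ := QuotientGroup.mk_surjective g
    have h1 := o4 g ((ι.orderOf_eq _).symm.trans hg)
    exact nO _ ((QuotientGroup.eq_one_iff (g ^ 2)).1 e) (by rw [orderOf_pow' g two_ne_zero, h1]; rfl)

end Cfsg.Agent.H4K
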