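import Cfsg.Agent.H4.PH1

/-! `π`-homogeneous groups whose `π`-subgroups are `2`-closed. -/

set_option autoImplicit false
set_option linter.style.haveILetI false
set_option linter.unusedSectionVars false

namespace Cfsg.Agent.H4P

open Subgroup H20 H21 H25
open scoped MatrixGroups

universe u

variable {G : Type u} [Group G] [Finite G] {σ : Set ℕ}

/-- all `σ'`-subgroups are `2`-closed -/
def C2 (σ : Set ℕ) (G : Type*) [Group G] : Prop := ∀ H : Subgroup G, IsPi σᶜ H → Cl {2} H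

theorem C2.inj {G' : Type*} [Group G'] (h : C2 σ G) {f : G' →* G} (hf : Function.Injective f) :
    C2 σ G' := fun H a => haveI := Finite.of_injective f hf
  (h _ (a.map f)).surj (f := (H.equivMapOfInjective f hf).symm.toMonoidHom) (MulEquiv.surjective _)

theorem exists_lift {G' : Type*} [Group G'] {f : G →* G'} (hf : Function.Surjective f)
    (hk : IsPi σ f.ker ∨ IsPi σᶜ f.ker) {H : Subgroup G'} (a : IsPi σᶜ H) :
    ∃ E : Subgroup G, IsPi σᶜ E ∧ E.map f = H := by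
  rcases hk with hk | hk
  · obtain ⟨h1, h2⟩ := hall_ker hk a
    obtain ⟨E, hE⟩ := Hall.exists_compl h1 h2
    exact ⟨E, Hall.compl_isPi h1 hE, map_of_compl hf hE⟩
  exact ⟨_, isPi_comap hk a, map_comap_eq_self_of_surjective hf H⟩

theorem C2.quo (h : C2 σ G) (N : Subgroup G) [N.Normal] (hk : IsPi σ N ∨ IsPi σᶜ N) :
    C2 σ (G ⧸ N) := fun H a => by
  obtain ⟨E, e1, rfl⟩ := exists_lift (QuotientGroup.mk'_surjective N) (by rwa [QuotientGroup.ker_mk']) a
  exact (h E e1).surj (MonoidHom.subgroupMap_surjective _ E)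

theorem elt_two {a : G} (h : a * a = 1) (h2 : 2 ∈ σ) : IsPiElt σ a :=
  ((PiNat.prime_iff Nat.prime_two).2 h2).of_dvd (orderOf_dvd_of_pow_eq_one (by rw [sq, h]))

theorem elt_prime {a : G} {r : ℕ} (hr : r.Prime) (h : a ^ r = 1) (h2 : r ∈ σ) : IsPiElt σ a :=
  ((PiNat.prime_iff hr).2 h2).of_dvd (orderOf_dvd_of_pow_eq_one h)

theorem Cl.mul_eq (h : Cl {2} G) {a b : G} {r : ℕ} (ha : a * a = 1) (hb : b * b = 1) (hr : r.Prime)
    (r2 : r ≠ 2) (e : (a * b) ^ r = 1) : a * b = 1 := by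
  obtain ⟨K, h1, h2⟩ := h
  exact orderOf_eq_one_iff.1 (PiNat.eq_one ((Hall.isPi h1).elt (mul_mem
    (Hall.mem_of_normalIn h1 h2 (mem_top a) (elt_two ha rfl))
    (Hall.mem_of_normalIn h1 h2 (mem_top b) (elt_two hb rfl)))) (elt_prime hr e r2))

theorem C2.not_inv (h : C2 σ G) (h2 : 2 ∉ σ) {x s : G} {r : ℕ} (hr : r.Prime) (r2 : r ≠ 2)
    (hx : x ^ r = 1) (r1 : r ∉ σ) (hs : s * s = 1) (e : s * x * s⁻¹ = x⁻¹) : x = 1 := by
  have h1 := h (zpowers x ⊔ zpowers s) ((isPi_zpowers.2 (elt_prime hr hx r1)).sup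
    (isPi_zpowers.2 (elt_two hs h2)) (Or.inr (zpowers_le.2 (mem_norm_iff_cj.2
    (by rw [cj_zpowers, e, zpowers_inv])))))
  have x1 : x ∈ zpowers x ⊔ zpowers s := mem_sup_left (mem_zpowers x)
  have s1 : s ∈ zpowers x ⊔ zpowers s := mem_sup_right (mem_zpowers s)
  have e1 : x * s * s = x := by rw [mul_assoc, hs, mul_one]
  rw [inv_eq_of_mul_eq_one_left hs] at e
  exact e1.symm.trans (congrArg Subtype.val (h1.mul_eq (a := ⟨x * s, mul_mem x1 s1⟩) (b := ⟨s, s1⟩)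
    (Subtype.ext (by
      show x * s * (x * s) = 1
      rw [mul_assoc, ← mul_assoc s, e, mul_inv_cancel])) (Subtype.ext hs) hr r2
    (Subtype.ext (by show (x * s * s) ^ r = 1; rw [e1, hx]))))

theorem Cl.pi (h : Cl σ G) (h2 : 2 ∉ σ)
    (hG : ∀ x : G, x = 1 ∨ ∃ g, x * (g * x⁻¹ * g⁻¹) ≠ 1 ∧ (x * (g * x⁻¹ * g⁻¹)) ^ 2 = 1) :
    IsPi σᶜ (⊤ : Subgroup G) := by
  obtain ⟨K, h1, h3⟩ := h
  refine (Hall.eq_bot_iff h1).1 (eq_bot_iff.2 fun x hx => (hG x).elim id fun ⟨g, a, b⟩ => ?_)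
  exact (a (orderOf_eq_one_iff.1 (PiNat.eq_one ((Hall.isPi h1).elt (mul_mem hx (h3.conj_mem (mem_top g)
    (inv_mem hx)))) (elt_prime Nat.prime_two b h2)))).elim

theorem C2.surj (h : C2 σ G) (hc : Cl σ G) {X : Type*} [Group X] [Finite X] {f : G →* X}
    (hf : Function.Surjective f) (hX : IsPi σᶜ (⊤ : Subgroup X)) : Cl {2} X := by
  obtain ⟨K, h1, h3⟩ := hc
  obtain ⟨E, hE⟩ := Hall.exists_compl h1 h3
  have h4 : E.map f = ⊤ := by
    rw [← map_top_of_surjective f hf, ← Compl.sup_eq hE, Subgroup.map_sup,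
      ((Hall.isPi h1).map f).eq_bot (hX.of_le le_top), bot_sup_eq]
  exact (h E (Hall.compl_isPi h1 hE)).surj (f := f.comp E.subtype) fun y =>
    let ⟨x, a, b⟩ := h4.ge (mem_top y); ⟨⟨x, a⟩, b⟩

theorem C2.no_s4 (h : C2 σ G) (hc : Cl σ G) (h2 : 2 ∉ σ) {f : G →* Equiv.Perm (Fin 4)}
    (hf : Function.Surjective f) : False :=
  absurd ((h.surj hc hf ((hc.surj hf).pi h2 (by decide +kernel))).mul_eq (a := Equiv.swap 0 1)
    (b := Equiv.swap 1 2) (by decide) (by decide) Nat.prime_three (by decide) (by decide)) (by decide)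

theorem C2.not_simple [IsSimpleGroup G] (h : C2 σ G) (hc : Cl σ G) (h2 : 2 ∉ σ)
    (e2 : 2 ∣ Nat.card G) (e3 : 3 ∣ Nat.card G) : False := by
  rw [← card_top'] at e2 e3
  obtain ⟨K, h1, h3⟩ := id hc
  rcases h3.normal.eq_bot_or_eq_top with rfl | rfl
  · obtain ⟨L, h4, h5⟩ := h.surj hc (f := MonoidHom.id G) Function.surjective_id
      ((Hall.eq_bot_iff h1).1 rfl)
    rcases h5.normal.eq_bot_or_eq_top with rfl | rfl
    · exact (Hall.eq_bot_iff h4).1 rfl 2 Nat.prime_two e2 rfl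
    · exact absurd (Hall.isPi h4 3 Nat.prime_three e3) (by simp)
  exact h2 (Hall.isPi h1 2 Nat.prime_two e2)

theorem bor (h : Hm σ G) (hc : C2 σ G) (h2 : 2 ∉ σ) {F : Type*} [Field F]
    {τ : Multiplicative F →* G} (hτ : Function.Injective τ) (hF : PiNat σᶜ (Nat.card F)) {μ : F}
    {x s : G} {r : ℕ} (hr : r.Prime) (r2 : r ≠ 2) (hx : x ^ r = 1) (hμ : μ ≠ 1)
    (e : ∀ y : F, x * τ (.ofAdd y) * x⁻¹ = τ (.ofAdd (μ * y))) (hs : s * s = 1)
    (e' : s * x * s⁻¹ = x⁻¹) : False := by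
  have k : x * τ (.ofAdd 1) ≠ τ (.ofAdd 1) * x := fun a => hμ (by
    have := e 1
    rw [a, mul_inv_cancel_right, mul_one] at this
    exact (Multiplicative.ofAdd.injective (hτ this)).symm)
  by_cases r1 : r ∈ σ
  · refine k (h τ.range (zpowers x) ?_ (isPi_zpowers.2 (elt_prime hr hx r1))
      (zpowers_le.2 (mem_norm_of_forall ?_)) (mem_zpowers x) _ ⟨_, rfl⟩).symm
    · rw [isPi_iff, ← Nat.card_congr (MonoidHom.ofInjective hτ).toEquiv]; exact hF
    · rintro _ ⟨y, rfl⟩; exact ⟨_, (e y.toAdd).symm⟩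
  exact k (by rw [hc.not_inv h2 hr r2 hx r1 hs e', one_mul, mul_one])

theorem exists_unit {F : Type*} [Field F] [Finite F] {r : ℕ} (hr : r.Prime) (h : r ∣ Nat.card F - 1) :
    ∃ a : Fˣ, orderOf a = r :=
  haveI := Fact.mk hr
  exists_prime_orderOf_dvd_card' r (by rwa [Nat.card_units])

theorem no_se [IsSimpleGroup G] (h : Hm σ G) (hc : C2 σ G) (h2 : 2 ∉ σ) {H : Subgroup G}
    (hH : IsStronglyEmbedded H) : False := by
  obtain ⟨S⟩ := (inferInstance : Nonempty (Sylow 2 G))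
  obtain ⟨M, t, r, F, _, τ, κ, k⟩ :=
    BS.exists_R1_sylow hH (H11.SE.two_of_simple hH) (BS.Bd.oddCore_simple hH) S
  haveI := k.charP
  haveI := k.finF
  haveI := Fintype.ofFinite F
  obtain ⟨n, -, hn⟩ := FiniteField.card F 2
  rw [← Nat.card_eq_fintype_card] at hn
  have h3 := k.big
  obtain ⟨r, hr, h4⟩ := Nat.exists_prime_and_dvd (n := Nat.card F - 1) (by omega)
  obtain ⟨a, ha⟩ := exists_unit hr h4
  refine bor h hc h2 (τ := MonoidHom.mk' (fun y : Multiplicative F => τ y.toAdd) fun _ _ => k.add _ _)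
    (fun _ _ e => k.inj e) (hn ▸ PiNat.prime_pow Nat.prime_two h2 _) (μ := a) (x := κ a) hr ?_
    (by rw [← map_pow, ← ha, pow_orderOf_eq_one, map_one])
    (fun e => hr.ne_one (by rw [← ha, Units.val_eq_one.1 e, orderOf_one])) (k.conj a) k.hS.mul_self
    ((k.kmem _).2 ⟨a, rfl⟩).2
  rintro rfl
  have : 2 ∣ Nat.card F := hn ▸ dvd_pow_self 2 n.ne_zero
  omega

theorem no_psl {F : Type} [Field F] [Fintype F] (h : Hm σ PSL(2, F)) (hc : C2 σ PSL(2, F))
    (h2 : 2 ∉ σ) (hF : PiNat σᶜ (Fintype.card F)) {r : ℕ} (hr : r.Prime) (r2 : r ≠ 2)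
    (h4 : r ∣ Fintype.card F - 1) : False := by
  rw [← Nat.card_eq_fintype_card] at hF h4
  obtain ⟨a, ha⟩ := exists_unit hr h4
  let d : Fˣ →* SL(2, F) := MonoidHom.mk' (fun a => H12.mkSL2 a 0 0 (a⁻¹ : Fˣ) (by simp)) fun a b => by
    ext i j; fin_cases i <;> fin_cases j <;> simp [Matrix.mul_apply, Fin.sum_univ_two, mul_comm]
  let w : SL(2, F) := H12.mkSL2 0 1 (-1) 0 (by simp)
  refine bor h hc h2 (τ := (QuotientGroup.mk' _).comp H12.upperHom) (fun x y e => ?_) hF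
    (μ := (a * a : Fˣ)) (x := (d a : PSL(2, F))) (s := (w : PSL(2, F))) hr r2 ?_ (fun e => r2 ?_)
    (fun y => ?_) ?_ ?_
  · rcases H12.psl2_mk_eq_mk_iff.1 e with e | e
    · exact Multiplicative.toAdd.injective (H12.upper_injective e)
    · have e1 : (1 : F) = -1 := by simpa [H12.upperHom] using congrArg (fun g : SL(2, F) => g 0 0) e
      have e2 : x.toAdd = -y.toAdd := by
        simpa [H12.upperHom] using congrArg (fun g : SL(2, F) => g 0 1) e
      exact Multiplicative.toAdd.injective (by rw [e2, ← neg_one_mul, ← e1, one_mul])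
  · rw [← QuotientGroup.mk_pow, ← map_pow, ← ha, pow_orderOf_eq_one, map_one]; rfl
  · exact (Nat.prime_dvd_prime_iff_eq hr Nat.prime_two).1
      (ha ▸ orderOf_dvd_of_pow_eq_one (by rw [sq, Units.val_eq_one.1 e]))
  · rw [mul_inv_eq_iff_eq_mul]
    refine congrArg QuotientGroup.mk (?_ : d a * H12.upper y = H12.upper _ * d a)
    ext i j; fin_cases i <;> fin_cases j <;> simp [d, Matrix.mul_apply, Fin.sum_univ_two, mul_right_comm]
  · refine H12.psl2_mk_eq_one_iff.2 (Or.inr (?_ : w * w = -1))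
    ext i j; fin_cases i <;> fin_cases j <;> simp [w, Matrix.mul_apply, Fin.sum_univ_two]
  · rw [mul_inv_eq_iff_eq_mul, ← QuotientGroup.mk_inv, ← map_inv]
    refine congrArg QuotientGroup.mk (?_ : w * d a = d a⁻¹ * w)
    ext i j; fin_cases i <;> fin_cases j <;> simp [w, d, Matrix.mul_apply, Fin.sum_univ_two]

theorem no_psl_odd {F : Type} [Field F] [Fintype F] (h : Hm σ PSL(2, F)) (hc : C2 σ PSL(2, F))
    (h2 : 2 ∉ σ) (h3 : 3 ∉ σ) (h8 : Fintype.card F % 8 = 3 ∨ Fintype.card F % 8 = 5)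
    (h4 : 3 < Fintype.card F) : False := by
  by_cases e : 3 ∣ Fintype.card F
  · obtain ⟨p, _, n, hp, hn⟩ := FiniteField.card' F
    obtain rfl := (Nat.prime_dvd_prime_iff_eq Nat.prime_three hp).1
      (Nat.prime_three.dvd_of_dvd_pow (hn ▸ e))
    obtain ⟨m, m1, m2, m3⟩ : ∃ m, m ≠ 1 ∧ ¬ 2 ∣ m ∧ m ∣ Fintype.card F - 1 := by
      rcases h8 with h8 | h8
      · exact ⟨(Fintype.card F - 1) / 2, by omega, by omega, Nat.div_dvd_of_dvd (by omega)⟩
      · exact ⟨(Fintype.card F - 1) / 4, by omega, by omega, Nat.div_dvd_of_dvd (by omega)⟩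
    obtain ⟨r, hr, h5⟩ := Nat.exists_prime_and_dvd m1
    exact no_psl h hc h2 (hn ▸ PiNat.prime_pow hp h3 _) hr (fun e => m2 (e ▸ h5)) (h5.trans m3)
  obtain ⟨N, n1, n2⟩ : ∃ N, (N = Fintype.card F - 1 ∨ N = Fintype.card F + 1) ∧ 3 ∣ N := by
    by_cases e' : 3 ∣ Fintype.card F - 1
    exacts [⟨_, Or.inl rfl, e'⟩, ⟨_, Or.inr rfl, by omega⟩]
  obtain ⟨H, a, s, ⟨-, s1, s2, -⟩, h5⟩ := H12.exists_dihedralPair n1 (by omega)
  rw [Nat.gcd_eq_left (by omega)] at h5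
  obtain ⟨x, x1, x2⟩ := exists_prime_order_mem (A := zpowers a) Nat.prime_three
    (by rw [Nat.card_zpowers, h5]; omega)
  rw [hc.not_inv h2 Nat.prime_three (by decide) (x2 ▸ pow_orderOf_eq_one x) h3 s1
    (H4S.inv_of_mem_zpowers s2 x1), orderOf_one] at x2
  omega

theorem cl_of_c2 (h2 : 2 ∉ σ) (G : Type u) [Group G] [Finite G] : C2 σ G → Hm σ G → Cl σ G := by
  refine H2.card_induction (P := fun G _ _ => C2 σ G → Hm σ G → Cl σ G) ?_ G
  intro G _ _ ih hc h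
  have hs : ∀ K : Subgroup G, K ≠ ⊤ → Cl σ K := fun K k =>
    ih K (card_lt_top k) (hc.inj K.subtype_injective) (h.sub K)
  refine (h.red (fun K _ => hs K) fun N _ a b => ih _ (card_quo_lt N a) (hc.quo N b)
    (h.quo N b)).elim id fun ⟨_, hn⟩ => False.elim ?_
  have hf : ¬ Involves (Equiv.Perm (Fin 4)) G := fun i => by
    obtain ⟨K, f, hf⟩ := H9.involves_iff.1 i
    by_cases k : K = ⊤
    · subst k
      let g := Equiv.Perm.sign.comp (f.comp topEquiv.symm.toMonoidHom)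
      rcases g.normal_ker.eq_bot_or_eq_top with e | e
      · exact hn ⟨⟨fun a b => (g.ker_eq_bot_iff.1 e) (by rw [map_mul, map_mul, mul_comm])⟩⟩
      · obtain ⟨x, hx⟩ := hf (Equiv.swap 0 1)
        have : Equiv.Perm.sign (f x) = 1 := e.ge (mem_top x.1)
        rw [hx] at this
        exact absurd this (by decide)
    exact (hc.inj K.subtype_injective).no_s4 (hs K k) h2 hf
  rcases H4S.hk_of hf G H9.involves_self hn with a | ⟨H, a⟩
  · rcases WA.walter hn a with ⟨F, _, _, ⟨n, n1, n2⟩, ⟨e⟩⟩ | ⟨F, _, _, n1, n2, ⟨e⟩⟩ |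
      ⟨t, E, E₀, F, _, _, -, b, c, d, -, -, n1, n2, ⟨e⟩⟩
    · have h4 : 2 ^ 2 ∣ Fintype.card F := n2 ▸ pow_dvd_pow 2 n1
      have h5 := Fintype.card_pos (α := F)
      obtain ⟨r, hr, h6⟩ := Nat.exists_prime_and_dvd (n := Fintype.card F - 1) (by omega)
      exact no_psl (h.inj (f := e.symm.toMonoidHom) e.symm.injective)
        (hc.inj (f := e.symm.toMonoidHom) e.symm.injective) h2
        (n2 ▸ PiNat.prime_pow Nat.prime_two h2 _) hr (by rintro rfl; omega) h6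
    · obtain ⟨H, ⟨f⟩⟩ := H12.exists_alt4 (H12.two_ne_zero_of_odd_card (F := F) (Nat.odd_iff.2 (by omega)))
      have h4 : Nat.card (alternatingGroup (Fin 4)) = 12 := by
        rw [Nat.card_eq_fintype_card]; decide +kernel
      have f' := (e.symm.subgroupMap H).symm.trans f
      refine no_psl_odd (h.inj (f := e.symm.toMonoidHom) e.symm.injective)
        (hc.inj (f := e.symm.toMonoidHom) e.symm.injective) h2 (isPi_top.1 (((hs _ fun r => ?_).surj
        (f := f'.toMonoidHom) f'.surjective).pi h2 (by decide +kernel)) 3 Nat.prime_three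
        (by rw [h4]; decide)) n1 n2
      have h5 := H12.card_PSL2 (F := F) rfl
      rw [← Nat.card_congr e.toEquiv, ← card_top', ← r, Nat.card_congr f'.toEquiv, h4,
        Nat.gcd_eq_left (by omega)] at h5
      have : 4 * (4 ^ 2 - 1) ≤ Fintype.card F * (Fintype.card F ^ 2 - 1) :=
        Nat.mul_le_mul n2 (Nat.sub_le_sub_right (Nat.pow_le_pow_left n2 2) 1)
      omega
    · haveI := H12.PSL_fin_simple (F := F) 2 le_rfl fun _ => n2
      haveI := e.isSimpleGroup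
      obtain ⟨x, hx⟩ := H12.exists_invol_psl2 (F := F)
      refine (hc.inj E₀.subtype_injective).not_simple (hs _ fun r => b.1 (top_le_iff.1
        (r.ge.trans (d.trans c.2.1)))) h2 ?_ ?_ <;>
        rw [Nat.card_congr e.toEquiv]
      exacts [hx.symm.dvd.trans (_root_.orderOf_dvd_natCard x), H4S.three_L2 F]
  · exact no_se h hc h2 a

theorem c2_of (h : ∀ H : Subgroup G, IsPi σᶜ H → ∀ P : Sylow 2 H, (P : Subgroup H).Normal) :
    C2 σ G := fun H a =>
  let ⟨P⟩ := (inferInstance : Nonempty (Sylow 2 H))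
  ⟨P, sylowOf_top P, normalIn_top_iff.2 (h H a P)⟩

end Cfsg.Agent.H4P
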