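import Cfsg.Agent.H4.PH2
import Cfsg.Agent.H1.ONS
import Cfsg.Agent.S0877
import Cfsg.Prelude.Def_HallClasses

/-! `π`-homogeneous `D_π`-groups. -/

set_option autoImplicit false
set_option linter.style.haveILetI false
set_option linter.unusedSectionVars false

namespace Cfsg.Agent.H4P

open Subgroup H20 H21 H25

universe u

variable {G : Type u} [Group G] [Finite G] {σ : Set ℕ}

/-- every `σ'`-subgroup is conjugate into a Hall `σ'`-subgroup -/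
def Dp (σ : Set ℕ) (G : Type*) [Group G] : Prop :=
  ∃ H : Subgroup G, IsPiHallOf σᶜ H ⊤ ∧ ∀ U, IsPi σᶜ U → ∃ g, cj g U ≤ H

theorem dp_of (h : IsDPiGroup σᶜ G) : Dp σ G := by
  obtain ⟨H, -, hH⟩ := exists_maximal_ge_of_wellFoundedGT (IsPiSubgroup (G := G) σᶜ) ⊥ (IsPi.bot _)
  have k : ∀ U, IsPi σᶜ U → ∃ g, cj g U ≤ H := fun U hU => by
    obtain ⟨K, a, b⟩ := exists_maximal_ge_of_wellFoundedGT (IsPiSubgroup (G := G) σᶜ) U hU
    obtain ⟨g, e⟩ := h K H b hH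
    exact ⟨g, e ▸ cj_mono g a⟩
  refine ⟨H, hall_of_forall_sylow le_top hH.1 fun p hp a _ => ?_, k⟩
  haveI := Fact.mk hp
  obtain ⟨S, hS⟩ := exists_sylowOf p (⊤ : Subgroup G)
  obtain ⟨g, e⟩ := k S (isPi_of_isPGroup (Hall.isPGroup hS) a)
  exact ⟨_, Hall.cj_of_mem hS (mem_top g), e⟩

theorem Dp.quo (h : Dp σ G) (N : Subgroup G) [N.Normal] (hk : IsPi σ N ∨ IsPi σᶜ N) :
    Dp σ (G ⧸ N) := by
  obtain ⟨H, h1, h2⟩ := h
  refine ⟨H.map (QuotientGroup.mk' N), ?_, fun U a => ?_⟩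
  · rw [← map_top_of_surjective _ (QuotientGroup.mk'_surjective N)]; exact Hall.map h1 _
  obtain ⟨E, e1, rfl⟩ := exists_lift (QuotientGroup.mk'_surjective N) (by rwa [QuotientGroup.ker_mk']) a
  obtain ⟨g, e⟩ := h2 E e1
  exact ⟨_, (map_cj _ g E).ge.trans (map_mono e)⟩

theorem Dp.exists_ge (h : Dp σ G) {U : Subgroup G} (hU : IsPi σᶜ U) :
    ∃ H, IsPiHallOf σᶜ H ⊤ ∧ U ≤ H :=
  let ⟨_, h1, h2⟩ := h; let ⟨g, e⟩ := h2 U hU
  ⟨_, Hall.cj_of_mem h1 (mem_top g⁻¹), cj_le_iff.1 e⟩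

theorem Dp.conj (h : Dp σ G) {H K : Subgroup G} (hH : IsPiHallOf σᶜ H ⊤) (hK : IsPiHallOf σᶜ K ⊤) :
    ∃ g, cj g H = K := by
  obtain ⟨L, h1, h2⟩ := h
  have k : ∀ H, IsPiHallOf σᶜ H ⊤ → ∃ g, cj g H = L := fun H hH =>
    let ⟨g, e⟩ := h2 H (Hall.isPi hH)
    ⟨g, (Hall.eq_of_le (Hall.cj_of_mem hH (mem_top g)) (Hall.isPi h1) e le_top).symm⟩
  obtain ⟨a, ha⟩ := k H hH
  obtain ⟨b, hb⟩ := k K hK
  exact ⟨b⁻¹ * a, by rw [cj_mul, ha, ← hb, cj_inv_cj]⟩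

theorem core_cent {X : Subgroup G} (h : IsPi σᶜ X) : piCoreOf σ N⟦X⟧ ≤ C⟦X⟧ :=
  cent_of_normalIn_isPi (piCoreOf_normalIn _ _) (NormalIn.norm_self X) (isPi_piCoreOf _ _) h

theorem Dp.trans (h : Dp σ G) (hN : ∀ X : Subgroup G, X ≠ ⊥ → IsPi σᶜ X → Cl σ N⟦X⟧) {p : ℕ}
    [Fact p.Prime] (hp : p ∉ σ) (X : Subgroup G) : X ≠ ⊥ → IsPGroup p X → ∀ H K,
    IsPiHallOf σᶜ H ⊤ → IsPiHallOf σᶜ K ⊤ → X ≤ H → X ≤ K →
    ∃ c ∈ piCoreOf σ N⟦X⟧, cj c H = K := by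
  induction X using WellFoundedGT.induction with
  | ind X ih =>
  intro x0 x1 H K hH hK x2 x3
  have x4 : IsPi σᶜ X := isPi_of_isPGroup x1 hp
  have hO := cl_sub.1 (hN X x0 x4)
  have hn := piCoreOf_normalIn σ N⟦X⟧
  obtain ⟨E, hE⟩ := Hall.exists_compl hO hn
  have e1 := Hall.compl hO hE
  have x5 := Hall.normalIn_le e1 x4 (NormalIn.norm_self X)
  obtain ⟨L, hL, e2⟩ := h.exists_ge (Hall.isPi e1)
  by_cases hS : SylowOf p X ⊤
  · have k : ∀ K, IsPiHallOf σᶜ K ⊤ → X ≤ K → ∃ u ∈ N⟦X⟧, cj u H = K := fun K a b => by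
      obtain ⟨g, rfl⟩ := h.conj hH a
      obtain ⟨y, y1, y2⟩ := Hall.exists_cj_eq (Hall.of_le hS x2 le_top)
        (Hall.of_le (Hall.cj_of_mem hS (mem_top g⁻¹)) (le_cj_iff.1 b) le_top)
      exact ⟨g * y, mem_norm_iff_cj.2 (by rw [cj_mul, y2, cj_cj_inv]),
        by rw [cj_mul, cj_eq_of_mem y1]⟩
    obtain ⟨u, u1, rfl⟩ := k L hL (x5.trans e2)
    obtain ⟨v, v1, rfl⟩ := k K hK x3
    obtain ⟨c, c1, y, y1, rfl⟩ := Hall.prod_of_relIndex (Hall.cj_of_mem e1 (inv_mem u1)) hn.le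
      (Hall.piNat hO) v v1
    exact ⟨c, c1, by rw [cj_mul, cj_eq_of_mem (le_cj_iff.1 e2 y1)]⟩
  have k : ∀ H, IsPiHallOf σᶜ H ⊤ → X ≤ H → ∃ c ∈ piCoreOf σ N⟦X⟧, cj c H = L := fun H a b => by
    obtain ⟨P, p1, p2⟩ := exists_sylowOf_ge x1 b
    have p3 := lt_inf_norm_of_isPGroup (Hall.isPGroup p1)
      (p2.lt_of_ne fun e => hS (e ▸ Hall.sylow_trans p1 a hp))
    have p4 : IsPGroup p ↥(P ⊓ N⟦X⟧) := (Hall.isPGroup p1).to_inf_left
    have p5 := (Hall.isPi hO).coprime (isPi_of_isPGroup p4 hp)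
    obtain ⟨c, c1, c2⟩ := exists_cj_le_of_coprime (inf_le_right.trans hn.norm)
      ((Hall.le e1).trans hn.norm) p5.symm (H1.solOr_of_coprime p5)
      (inf_le_right.trans (Compl.sup_eq hE).ge)
    have p6 : X < cj c (P ⊓ N⟦X⟧) := by
      rw [← cj_lt_cj (g := c), cj_eq_of_mem_norm (hn.le c1)] at p3; exact p3
    obtain ⟨d, d1, d2⟩ := ih _ p6 (ne_bot_of_gt p6) (p4.map _) _ L (Hall.cj_of_mem a (mem_top c)) hL
      (cj_mono c (inf_le_left.trans (Hall.le p1))) (c2.trans e2)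
    exact ⟨d * c, mul_mem (Hall.mem_of_normalIn hO hn (cent_le_norm X (cent_anti p6.le
      (core_cent (isPi_of_isPGroup (p4.map _) hp) d1))) ((isPi_piCoreOf _ _).elt d1)) c1,
      by rw [cj_mul, d2]⟩
  obtain ⟨a, a1, a2⟩ := k H hH x2
  obtain ⟨b, b1, b2⟩ := k K hK x3
  exact ⟨b⁻¹ * a, mul_mem (inv_mem b1) a1, by rw [cj_mul, a2, ← b2, cj_inv_cj]⟩

theorem Dp.cl (h : Dp σ G) (hN : ∀ X : Subgroup G, X ≠ ⊥ → IsPi σᶜ X → Cl σ N⟦X⟧) : Cl σ G := by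
  obtain ⟨H, h1, h2⟩ := id h
  refine (S0877.result H (relIndex_top_right H ▸ Hall.coprime h1) (fun x hx y hy e => ?_)
    fun E _ _ _ e => h2 E ((Hall.isPi h1).of_dvd e)).elim fun K ⟨k1, k2, k3⟩ => ?_
  swap
  · refine ⟨K, k2 ▸ Hall.of_sup_left ?_ (Hall.isPi h1) (Or.inr le_normalizer_of_normal),
      NormalIn.of_normal K⟩
    have := card_sup_of_disjoint (Or.inr (le_normalizer_of_normal : H ≤ N⟦K⟧)) k3
    rw [k2, ← Hall.card_mul h1, mul_comm] at this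
    rw [isPi_iff, ← Nat.eq_of_mul_eq_mul_right (card_pos H) this, ← PiNat.compl_compl]
    exact Hall.piNat h1
  obtain ⟨g, rfl⟩ := isConj_iff.1 e
  by_cases x1 : x = 1
  · exact ⟨1, one_mem _, by simp [x1]⟩
  obtain ⟨p, hp, h3⟩ := Nat.exists_prime_and_dvd (mt orderOf_eq_one_iff.1 x1)
  haveI := Fact.mk hp
  obtain ⟨z, z1, z2⟩ := exists_prime_order_mem (A := zpowers x) hp (by rwa [Nat.card_zpowers])
  have z3 : zpowers z ≤ zpowers x := zpowers_le.2 z1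
  have x2 : x ∈ cj g⁻¹ H := mem_cj.2 (by rwa [inv_inv])
  obtain ⟨c, c1, c2⟩ := h.trans hN ((Hall.isPi h1).elt hx p hp h3) (zpowers z)
    (fun e => hp.ne_one (by rw [← z2, zpowers_eq_bot.1 e, orderOf_one]))
    (IsPGroup.of_card (n := 1) (by rw [Nat.card_zpowers, z2, pow_one])) H _ h1
    (Hall.cj_of_mem h1 (mem_top _)) (z3.trans (zpowers_le.2 hx)) (z3.trans (zpowers_le.2 x2))
  rw [← c2, mem_cj] at x2
  have x3 : x⁻¹ * c⁻¹ * x * c ∈ piCoreOf σ N⟦zpowers z⟧ ⊓ H := ⟨mul_mem (conj_mem_of_norm'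
    ((piCoreOf_normalIn _ _).norm (le_norm_of_comm inferInstance le_rfl z3 (mem_zpowers x)))
    (inv_mem c1)) c1, by simpa [mul_assoc] using mul_mem (inv_mem hx) x2⟩
  rw [(isPi_piCoreOf _ _).inf_eq_bot (Hall.isPi h1), mem_bot] at x3
  have hO := cl_sub.1 (hN H (ne_bot_of_mem hx x1) (Hall.isPi h1))
  obtain ⟨a, a1, b, b1, e⟩ := Hall.prod_of_relIndex (Hall.of_le h1 (le_norm_self H) le_top)
    (piCoreOf_le _ _) (Hall.piNat hO) (g * c)⁻¹ (inv_mem (mem_norm_iff_cj.2 (by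
      rw [cj_mul, c2, cj_cj_inv])))
  refine ⟨b⁻¹, inv_mem b1, ?_⟩
  have a2 := core_cent (Hall.isPi h1) a1 x hx
  calc _ = (a * b)⁻¹ * (a * x) * a⁻¹ * (a * b) := by group
    _ = g * x * c * (x⁻¹ * c⁻¹ * x * c)⁻¹ * c⁻¹ * g⁻¹ := by rw [← a2, e]; group
    _ = _ := by rw [x3]; group

theorem cl_of_proper (G : Type u) [Group G] [Finite G] :
    (∀ K : Subgroup G, K ≠ ⊤ → Cl σ K) → Dp σ G → Hm σ G → Cl σ G := by
  refine H2.card_induction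
    (P := fun G _ _ => (∀ K : Subgroup G, K ≠ ⊤ → Cl σ K) → Dp σ G → Hm σ G → Cl σ G) ?_ G
  intro G _ _ ih hs hd h
  refine (h.red (fun K _ => hs K) fun N _ a b => ih _ (card_quo_lt N a) (fun K k => ?_) (hd.quo N b)
    (h.quo N b)).elim id fun ⟨_, hn⟩ => ?_
  · exact (hs _ fun e => k (by rw [← map_comap_eq_self_of_surjective (QuotientGroup.mk'_surjective N) K,
      e, map_top_of_surjective _ (QuotientGroup.mk'_surjective N)])).surj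
      (MonoidHom.subgroupComap_surjective_of_surjective _ K (QuotientGroup.mk'_surjective N))
  by_cases e : IsPi σᶜ (⊤ : Subgroup G)
  · exact cl_of_pi' (isPi_top.1 e)
  exact hd.cl fun X a b => hs _ fun r => e (((normalizer_eq_top_iff.1 r).eq_bot_or_eq_top.resolve_left
    a) ▸ b)

theorem sz_hall (h : Lie.IsoSuzuki G) (hm : Hm σ G) (h2 : 2 ∉ σ)
    (hd : ∀ U : Subgroup G, IsPi σᶜ U → ∃ H, IsPiHallOf σᶜ H ⊤ ∧ U ≤ H) : IsPi σᶜ (⊤ : Subgroup G) := by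
  obtain ⟨F, _, _, m, h1, hF, ⟨e⟩⟩ := h
  haveI := H15.Sz.charP_two hF
  have h8 := H15.Sz.eight_le h1
  have M := (H15.Sz.lieModel h1 hF).ofEquiv e
  rw [← hF, ← Nat.card_eq_fintype_card] at h8
  obtain ⟨r, hr, h4⟩ := Nat.exists_prime_and_dvd (n := Nat.card F - 1) (by omega)
  obtain ⟨a, ha⟩ := exists_unit hr h4
  have r2 : r ≠ 2 := by
    rintro rfl
    have := (H15.Sz.Model.even_card_F (F := F)).two_dvd
    omega
  have a1 : a ≠ 1 := fun e => hr.ne_one (by rw [← ha, e, orderOf_one])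
  have hx : M.D a ^ r = 1 := by rw [← map_pow, ← ha, pow_orderOf_eq_one, map_one]
  have hQ : IsPi σᶜ M.Q := by
    rw [isPi_iff, M.card_Q, Nat.card_eq_fintype_card, hF]
    exact (PiNat.prime_pow Nat.prime_two h2 _).pow 2
  have r1 : r ∉ σ := fun r1 => by
    have h5 := M.cent_Q (M.S_mem 1 0) (mt M.S_eq_one.1 (by simp)) (hm _ _ hQ (isPi_zpowers.2
      (elt_prime hr hx r1)) (zpowers_le.2 (M.D_mem_normalizer_Q a)) (mem_zpowers _) _ (M.S_mem 1 0)).symm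
    exact M.D_ne_one.2 a1 ((elt_prime hr hx r1).eq_one (hQ.elt h5))
  have hW : M.W * M.D a * M.W⁻¹ = (M.D a)⁻¹ := by rw [M.W_inv, M.W_D_W, map_inv]
  obtain ⟨H, h5, h6⟩ := hd (zpowers (M.D a) ⊔ zpowers M.W) ((isPi_zpowers.2 (elt_prime hr hx r1)).sup
    (isPi_zpowers.2 (elt_two M.W_mul_W h2)) (Or.inr (zpowers_le.2 (mem_norm_iff_cj.2
    (by rw [cj_zpowers, hW, zpowers_inv])))))
  obtain ⟨S, hS⟩ := exists_sylowOf 2 H
  obtain ⟨T, rfl⟩ := Hall.exists_sylow_top (Hall.sylow_trans hS h5 h2)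
  obtain ⟨M', -, h0⟩ := M.exists_model_sylow T
  by_cases k : ∀ g ∈ H, g • M'.inf = M'.inf
  · have hc : C2 (∅ : Set ℕ) H := fun U _ => cl_sub.2 (Hall.piCoreOf_sub (Hall.piCoreOf_hall
      (Hall.subgroupOf_top hS) (normalIn_top_iff.2 (NormalIn.subgroupOf_normal ⟨Hall.le hS, fun g hg =>
      mem_norm_of_forall (h0 ▸ M'.setup.conj_mem g (k g hg))⟩))) le_top)
    exact (M.D_ne_one.2 a1 (congrArg Subtype.val (hc.not_inv (fun e => e) hr r2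
      (x := ⟨_, h6 (mem_sup_left (mem_zpowers _))⟩) (s := ⟨_, h6 (mem_sup_right (mem_zpowers _))⟩)
      (Subtype.ext hx) (fun e => e) (Subtype.ext M.W_mul_W) (Subtype.ext hW)))).elim
  push Not at k
  obtain ⟨g, g1, g2⟩ := k
  exact M'.eq_top_of_Q_le (h0 ▸ Hall.le hS) g1 g2 ▸ Hall.isPi h5

theorem cl_of_dp (h2 : 2 ∉ σ) (G : Type u) [Group G] [Finite G] :
    ¬ 3 ∣ Nat.card G → Dp σ G → Hm σ G → Cl σ G := by
  refine H2.card_induction (P := fun G _ _ => ¬ 3 ∣ Nat.card G → Dp σ G → Hm σ G → Cl σ G) ?_ G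
  intro G _ _ ih h3 hd h
  have k : ∀ N : Subgroup G, N.Normal → N ≠ ⊥ → IsPi σ N ∨ IsPi σᶜ N → Cl σ G := fun N _ a b =>
    h.ext N (b.elim cl_of_pi cl_of_pi') (ih _ (card_quo_lt N a)
      (fun e => h3 (e.trans (card_quotient_dvd_card N))) (hd.quo N b) (h.quo N b))
  rcases subsingleton_or_nontrivial G with _ | _
  · exact cl_of_pi (Nat.card_of_subsingleton (1 : G) ▸ PiNat.one σ)
  obtain ⟨N, hN⟩ := H2.exists_isMinNormal (G := G)
  have n1 := hN.normal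
  by_cases hc : IsMulCommutative N
  · rcases piCoreOf_ne_bot_or σ (sol_of_comm hc) hN.ne_bot with e | e
    · exact k _ (piCoreOf_normalIn_of _ (NormalIn.of_normal N)).normal e (Or.inl (isPi_piCoreOf _ _))
    · exact k _ (piCoreOf_normalIn_of _ (NormalIn.of_normal N)).normal e (Or.inr (isPi_piCoreOf _ _))
  obtain ⟨K, hK⟩ := H1.exists_fac hN hc
  haveI := hK.simple
  refine k _ (piCoreOf_normalIn_of _ (NormalIn.of_normal N)).normal (ne_bot_of_le_ne_bot hK.ne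
    (le_piCoreOf ⟨hK.le, hK.norm⟩ (isPi_top.1 (sz_hall (H4S.sz_of_three hK.na' fun e => h3
    (e.trans (card_dvd_card K))) (h.sub K) h2 fun U a => ?_)))) (Or.inr (isPi_piCoreOf _ _))
  obtain ⟨H, b, c⟩ := hd.exists_ge (a.map K.subtype)
  exact ⟨_, Hall.subgroupOf_top (Hall.inf_normalIn (Hall.inf_normalIn b (NormalIn.of_normal N))
    ⟨hK.le, hK.norm⟩), fun x hx => ⟨⟨c (mem_map_of_mem _ hx), hK.le x.2⟩, x.2⟩⟩

end Cfsg.Agent.H4P
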