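import Cfsg.Agent.H4.F3
import Cfsg.Agent.H15.Sz8
import Cfsg.Agent.H28.FieldAut
import Cfsg.Agent.H10.Comp

/-! Automorphisms of order three of Suzuki groups. -/

set_option autoImplicit false
set_option linter.style.haveILetI false
set_option linter.unusedSectionVars false

namespace Cfsg.Agent.H4P

open Subgroup H20 H21 H15.Sz

universe u

theorem sz_aut {L : Type u} [Group L] {F : Type} [Field F] [Fintype F] {m : ℕ} (hm : 1 ≤ m)
    (hF : Fintype.card F = 2 ^ (2 * m + 1)) (e : L ≃* Lie.Sz F (2 ^ (m + 1))) {α : MulAut L}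
    (h3 : α ^ 3 = 1) {S : Subgroup L} (hS : Group.IsSolvable S) (hf : ∀ x, α x = x → x ∈ S) : m = 1 := by
  haveI := charP_two hF
  let M := (lieModel hm hF).ofEquiv e
  haveI := M.finite
  let Φ : Subgroup (MulAut L) :=
    { carrier := {γ | ∃ ψ : F ≃+* F, ∀ x, M.mat (γ x) = (M.mat x).map ψ}
      one_mem' := ⟨1, fun x => (Matrix.map_id _).symm⟩
      mul_mem' := fun ⟨φ, a⟩ ⟨ψ, b⟩ => ⟨φ * ψ, fun x => by
        rw [MulAut.mul_apply, a, b, Matrix.map_map]; rfl⟩
      inv_mem' := fun {γ} ⟨φ, a⟩ => ⟨φ.symm, fun x => by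
        rw [← γ.apply_inv_self L x, a, γ.inv_apply_self, Matrix.map_map]
        ext; simp⟩ }
  obtain ⟨g, φ, h1⟩ := M.exists_conj_ι M (j := α.toMonoidHom) α.injective (map_tw hF hF)
  have hc : (♯(zpowers α)).Coprime ♯(Inn L) := by
    rw [Nat.card_zpowers]
    exact (Nat.prime_three.coprime_iff_not_dvd.2 fun a => M.not_three_dvd
      (Nat.card_eq_fintype_card.trans hF) (a.trans (card_range_dvd _))).coprime_dvd_left
      (orderOf_dvd_of_pow_eq_one h3)
  obtain ⟨_, ⟨n, rfl⟩, h2⟩ := exists_cj_le_of_coprime (H := Φ) le_normalizer_of_normal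
    le_normalizer_of_normal hc (Or.inl (sol_of_comm inferInstance)) (zpowers_le.2 (by
      rw [← inv_mul_cancel_left (MulAut.conj g) α]
      exact mul_mem_sup (inv_mem ⟨g, rfl⟩) ⟨RingEquiv.ofBijective φ
        (Finite.injective_iff_bijective.1 φ.injective), fun x =>
        (congrArg M.mat (h1 x)).trans (M.mat_ι M _ x)⟩))
  obtain ⟨ψ, h4⟩ := h2 (conj_mem_cj.2 (mem_zpowers α))
  generalize hγ : MulAut.conj n * α * (MulAut.conj n)⁻¹ = γ at h4
  have h5 : ∀ b, γ (M.S 0 b) = M.S 0 (ψ b) := fun b => M.mat_inj ((h4 _).trans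
    ((M.map_S M (φ := ψ.toRingHom) (map_tw hF hF _) 0 b).trans (by simp)))
  have h6 : orderOf ψ ∣ 3 := orderOf_dvd_of_pow_eq_one (RingEquiv.ext fun b => by
    have : (γ ^ 3) (M.S 0 b) = M.S 0 b := by rw [← hγ, conj_pow, h3]; simp
    rw [pow_three, MulAut.mul_apply, MulAut.mul_apply, h5, h5, h5, M.S_inj] at this
    rw [pow_three]; exact this.2)
  obtain ⟨⟨k, h7⟩, h8⟩ := H28.card_fixF hF ψ
  rw [h7, Nat.mul_div_cancel_left _ (orderOf_pos ψ)] at h8
  obtain ⟨k, rfl⟩ : Odd k := (Nat.odd_mul.1 (h7 ▸ odd_two_mul_add_one m)).2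
  rcases k.eq_zero_or_pos with rfl | hk
  · have := Nat.le_of_dvd three_pos h6
    omega
  haveI := Fintype.ofFinite (H28.fixF ψ)
  rw [Nat.card_eq_fintype_card] at h8
  haveI := charP_two h8
  let M₀ := lieModel hk h8
  have h9 : ∀ x, (H28.fixF ψ).subtype (M₀.θ x) = M.θ ((H28.fixF ψ).subtype x) := map_tw hF h8 _
  let j := (MulAut.conj n)⁻¹.toMonoidHom.comp (M.ι M₀ h9)
  have hj : ∀ x, j x ∈ S := fun x => hf _ ((MulAut.conj n).injective (by
    have : γ _ = _ := M.mat_inj ((h4 (M.ι M₀ h9 x)).trans (by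
      rw [M.mat_ι, Matrix.map_map]; ext a b; exact H28.mem_fixF.1 (M₀.mat x a b).2))
    rw [← hγ] at this
    exact this.trans ((MulAut.conj n).apply_inv_self _ _).symm))
  haveI := M₀.isSimpleGroup
  haveI := Group.isSolvable_of_isSolvable_injective (f := j.codRestrict S hj) fun a b r =>
    M.ι_inj M₀ _ ((MulAut.conj n)⁻¹.injective (congrArg Subtype.val r))
  exact ((Group.IsSolvable.commutator_lt_top_of_nontrivial _).ne M₀.commutator_eq_top).elim

variable {G : Type u} [Group G] [Finite G]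

theorem comp_norm {K : Subgroup G} (hK : IsComponent K) {y : G} (hy : y * y * y = 1)
    (hs : Group.IsSolvable C₁⟦y⟧) : y ∈ N⟦K⟧ := by_contra fun h => by
  have c := H10.compOf_top.2 hK
  have c' : ∀ g, H10.CompOf (cj g K) ⊤ := fun g => c.conj (by simp)
  have e : cj y K ≠ K := mt mem_norm_iff_cj.2 h
  have e' : cj (y * y) K ≠ K := fun r => e (by rw [← r, ← cj_mul, ← mul_assoc, hy, cj_one, r])
  have a1 : ∀ a ∈ K, ∀ b ∈ K, Commute a (y * b * y⁻¹) := fun a ha b hb =>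
    commg_eq_bot.1 ((c' y).commutator_eq_bot c e) (conj_mem_cj.2 hb) a ha
  have a2 : ∀ a ∈ K, ∀ b ∈ K, Commute a (y * y * b * (y * y)⁻¹) := fun a ha b hb =>
    commg_eq_bot.1 ((c' _).commutator_eq_bot c e') (conj_mem_cj.2 hb) a ha
  have a3 : ∀ a ∈ K, ∀ b ∈ K, Commute (y * a * y⁻¹) (y * y * b * (y * y)⁻¹) := fun a ha b hb => by
    simpa [mul_assoc] using (a1 a ha b hb).conj y
  let δ : K →* G := MonoidHom.mk' (fun a => a * (y * a * y⁻¹ * (y * y * a * (y * y)⁻¹))) fun a b => by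
    rw [((a1 _ b.2 _ a.2).mul_right (a2 _ b.2 _ a.2)).symm.mul_mul_mul_comm,
      (a3 _ b.2 _ a.2).symm.mul_mul_mul_comm, conj_mul, conj_mul]; rfl
  have h1 : δ.range = ⊥ := eq_bot_of_sol_of_le_der (sol_of_le hs (by
    rintro _ ⟨a, rfl⟩
    refine mem_cent1.2 ?_
    calc _ = y * a * y⁻¹ * (y * y * a * (y * y)⁻¹) * (y * y * y * a * (y * y * y)⁻¹) * y := by
          rw [hy, one_mul, inv_one, mul_one, ← ((a1 _ a.2 _ a.2).mul_right (a2 _ a.2 _ a.2)).eq]; rfl
      _ = y * (a * (y * a * y⁻¹ * (y * y * a * (y * y)⁻¹))) := by group)) (by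
    rw [δ.range_eq_map, ← map_commutator, ← commutator_def, hK.2.1.commutator_eq_top])
  refine H10.QS.not_le_centralizer hK.2 fun a ha b hb => ?_
  have h2 : a = _ := eq_inv_of_mul_eq_one_left (mem_bot.1 (h1.le ⟨⟨a, ha⟩, rfl⟩))
  exact h2 ▸ ((a1 b hb a ha).mul_right (a2 b hb a ha)).inv_right

theorem comp_sz {K : Subgroup G} {F : Type} [Field F] [Fintype F] {m : ℕ} (hm : 1 ≤ m)
    (hF : Fintype.card F = 2 ^ (2 * m + 1)) (e : K ⧸ center K ≃* Lie.Sz F (2 ^ (m + 1)))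
    (h3 : ¬ 3 ∣ ♯K) {y : G} (hy : orderOf y = 3) (hn : y ∈ N⟦K⟧) (hs : Group.IsSolvable C₁⟦y⟧) :
    m = 1 := by
  have z1 : (center K).map K.subtype ≤ K := map_subtype_le _
  have z2 : y ∈ N⟦(center K).map K.subtype⟧ := by
    rw [map_center]; exact norm_inf_cent le_rfl le_rfl hn
  have h1 := quo_solvable (sol_of_le hs (inf_le_right : K ⊓ _ ≤ _)) ((center K).map K.subtype)
  rw [coprime_quo_cent1 z1 z2 (hy ▸ coprime_of_le_left
    (Nat.prime_three.coprime_iff_not_dvd.2 h3).symm z1)] at h1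
  refine sz_aut hm hF ((quoEquiv' (center K)).symm.trans e) (α := normalizerMonoidHom _
    ⟨_, cos_mem_norm hn⟩) ?_ (S := C₁⟦cos _ y⟧.subgroupOf _) ?_ fun x hx => mem_cent1.2 ?_
  · rw [← map_pow, ← map_one (normalizerMonoidHom _)]
    congr 1
    exact Subtype.ext (by rw [coe_pow, ← cos_pow z2, ← hy, pow_orderOf_eq_one, cos_one]; rfl)
  · rw [← inf_subgroupOf_left]
    exact Group.isSolvable_of_surjective (f := (subgroupOfEquivOfLe inf_le_left).symm.toMonoidHom)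
      (MulEquiv.surjective _)
  · exact (mul_inv_eq_iff_eq_mul.1 (congrArg Subtype.val hx)).symm

end Cfsg.Agent.H4P
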